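import Groth.Agent.FBlow13.Inv
import Groth.Agent.MP99.MaxLE

/-!
Affine blow-up algebras as the charts of any blow-up of an affine scheme.
-/

set_option autoImplicit false

universe u

open CategoryTheory CategoryTheory.Limits AlgebraicGeometry TopologicalSpace

namespace Groth.Agent.FBlow13

variable (A : Type u) [CommRing A] (𝔞 : Ideal A)

/-- The structure map of a chart. -/
noncomputable abbrev chartMor (a : A) :
    Spec (CommRingCat.of (BlowUp.affineAlgebra A 𝔞 a)) ⟶ Spec (CommRingCat.of A) :=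
  Spec.map (CommRingCat.ofHom (algebraMap A (BlowUp.affineAlgebra A 𝔞 a)))

/-- `a` generates the inverse image of `𝔞`, which is an effective Cartier divisor. -/
abbrev ChartPred (a : A) : MP99.Pred (Spec (CommRingCat.of A)) :=
  MP99.GoodAt (FSch.idealSpec A (Ideal.span {a})) (FSch.idealSpec A 𝔞)

variable {A 𝔞}

theorem idealSpec_ideal_top (K : Ideal A) :
    (FSch.idealSpec A K).ideal ⟨⊤, isAffineOpen_top _⟩ =
      K.map (Scheme.ΓSpecIso (CommRingCat.of A)).inv.hom := by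
  rw [eq_of_ideal_top, An92.FSch.toIdeal_idealSpec]

theorem idealSpec_mono {K L : Ideal A} (e : K ≤ L) : FSch.idealSpec A K ≤ FSch.idealSpec A L :=
  Scheme.IdealSheafData.le_of_isAffine <| by
    rw [idealSpec_ideal_top, idealSpec_ideal_top]
    exact Ideal.map_mono e

theorem isLocPrincipal_idealSpec (a : A) :
    MP99.IsLocPrincipal (FSch.idealSpec A (Ideal.span {a})) := fun _ =>
  ⟨⟨⊤, isAffineOpen_top _⟩, trivial, (Scheme.ΓSpecIso (CommRingCat.of A)).inv a, by
    rw [idealSpec_ideal_top, Ideal.map_span, Set.image_singleton]⟩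

theorem affineAlgebra_nzd (a : A) :
    algebraMap A (BlowUp.affineAlgebra A 𝔞 a) a ∈ nonZeroDivisors (BlowUp.affineAlgebra A 𝔞 a) := by
  rw [mem_nonZeroDivisors_iff_right]
  intro y hy
  have hu : IsUnit (algebraMap A (Localization.Away a) a) := IsLocalization.Away.algebraMap_isUnit a
  exact Subtype.ext (hu.mul_left_eq_zero.mp (congrArg Subtype.val hy))

theorem affineAlgebra_div {a x : A} (hx : x ∈ 𝔞) :
    ∃ c : BlowUp.affineAlgebra A 𝔞 a,
      algebraMap A (BlowUp.affineAlgebra A 𝔞 a) x = c * algebraMap A (BlowUp.affineAlgebra A 𝔞 a) a := by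
  refine ⟨⟨IsLocalization.mk' (Localization.Away a) x ⟨a, Submonoid.mem_powers a⟩,
    Algebra.subset_adjoin ⟨x, hx, rfl⟩⟩, Subtype.ext ?_⟩
  exact (IsLocalization.mk'_spec (Localization.Away a) x ⟨a, Submonoid.mem_powers a⟩).symm

theorem affineAlgebra_hom_ext {S : Type u} [CommRing S] {a : A} {φ : A →+* S}
    (hnz : φ a ∈ nonZeroDivisors S) {ψ ψ' : BlowUp.affineAlgebra A 𝔞 a →+* S}
    (e : ψ.comp (algebraMap A _) = φ) (e' : ψ'.comp (algebraMap A _) = φ) : ψ = ψ' := by
  refine RingHom.ext fun y => ?_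
  obtain ⟨⟨r, ⟨_, n, rfl⟩⟩, hr⟩ :=
    IsLocalization.surj (Submonoid.powers a) (y : Localization.Away a)
  have h0 : y * algebraMap A (BlowUp.affineAlgebra A 𝔞 a) (a ^ n) =
      algebraMap A (BlowUp.affineAlgebra A 𝔞 a) r := Subtype.ext hr
  have e1 := congrArg ψ h0
  have e2 := congrArg ψ' h0
  rw [map_mul] at e1 e2
  simp only [← RingHom.comp_apply, e, e'] at e1 e2
  rw [← e2] at e1
  exact (mul_cancel_right_mem_nonZeroDivisors (by rw [map_pow]; exact pow_mem hnz n)).mp e1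

theorem affineAlgebra_exists_lift {S : Type u} [CommRing S] {a : A} (φ : A →+* S)
    (hnz : φ a ∈ nonZeroDivisors S) (hdiv : ∀ x ∈ 𝔞, φ a ∣ φ x) :
    ∃ ψ : BlowUp.affineAlgebra A 𝔞 a →+* S, ψ.comp (algebraMap A _) = φ := by
  let T := Localization.Away (φ a)
  have hu : IsUnit ((algebraMap S T).comp φ a) := IsLocalization.Away.algebraMap_isUnit (φ a)
  let L : Localization.Away a →+* T := IsLocalization.Away.lift a hu
  have hL : ∀ r, L (algebraMap A _ r) = algebraMap S T (φ r) := IsLocalization.Away.lift_eq a hu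
  have hinj : Function.Injective (algebraMap S T) :=
    IsLocalization.injective (M := Submonoid.powers (φ a)) T (Submonoid.powers_le.mpr hnz)
  have hmem : ∀ y : BlowUp.affineAlgebra A 𝔞 a, L y ∈ (algebraMap S T).range := by
    rintro ⟨y, hy⟩
    refine Algebra.adjoin_induction (p := fun y _ => L y ∈ (algebraMap S T).range) ?_ ?_ ?_ ?_ hy
    · rintro _ ⟨x, hx, rfl⟩
      obtain ⟨c, hc⟩ := hdiv x hx
      refine ⟨c, hu.mul_left_injective ?_⟩
      show algebraMap S T c * algebraMap S T (φ a) = L _ * algebraMap S T (φ a)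
      rw [← hL a, ← map_mul L, IsLocalization.mk'_spec, hL, hL, ← map_mul, hc, mul_comm]
    · intro r; exact ⟨φ r, (hL r).symm⟩
    · intro x y _ _ hx hy; rw [map_add]; exact add_mem hx hy
    · intro x y _ _ hx hy; rw [map_mul]; exact mul_mem hx hy
  choose g hg using hmem
  let ψ : BlowUp.affineAlgebra A 𝔞 a →+* S :=
    { toFun := g
      map_one' := hinj (by rw [hg, map_one]; exact map_one L)
      map_mul' := fun x y => hinj (by rw [hg, map_mul, hg, hg]; exact map_mul L _ _)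
      map_zero' := hinj (by rw [hg, map_zero]; exact map_zero L)
      map_add' := fun x y => hinj (by rw [hg, map_add, hg, hg]; exact map_add L _ _) }
  exact ⟨ψ, RingHom.ext fun r => hinj ((hg _).trans (hL r))⟩

theorem affineAlgebra_finiteType (a : A) (h𝔞 : 𝔞.FG) :
    Algebra.FiniteType A (BlowUp.affineAlgebra A 𝔞 a) := by
  obtain ⟨t, ht⟩ := h𝔞
  classical
  refine ⟨(Subalgebra.fg_top _).2 ⟨t.image fun x =>
    IsLocalization.mk' (Localization.Away a) x ⟨a, Submonoid.mem_powers a⟩, ?_⟩⟩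
  refine le_antisymm (Algebra.adjoin_le ?_) (Algebra.adjoin_le ?_)
  · intro q hq
    obtain ⟨x, hx, rfl⟩ := Finset.mem_image.1 hq
    exact Algebra.subset_adjoin ⟨x, ht.le (Submodule.subset_span hx), rfl⟩
  · rintro _ ⟨x, hx, rfl⟩
    set T := Algebra.adjoin A (↑(t.image fun x =>
      IsLocalization.mk' (Localization.Away a) x ⟨a, Submonoid.mem_powers a⟩) :
        Set (Localization.Away a))
    change IsLocalization.mk' _ x _ ∈ T
    rw [IsLocalization.mk'_eq_mul_mk'_one, mul_comm]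
    have hxs := ht.ge hx
    clear hx
    induction hxs using Submodule.span_induction with
    | mem y hy =>
      rw [mul_comm, ← IsLocalization.mk'_eq_mul_mk'_one]
      exact Algebra.subset_adjoin (Finset.mem_image_of_mem _ hy)
    | zero => rw [map_zero, mul_zero]; exact zero_mem _
    | add y z _ _ hy hz => rw [map_add, mul_add]; exact add_mem hy hz
    | smul r y _ hy =>
      rw [smul_eq_mul, map_mul, mul_left_comm]
      exact mul_mem (Subalgebra.algebraMap_mem _ r) hy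

variable {a : A}

theorem chartPred_iff_of_isAffine {Z : Scheme.{u}} [IsAffine Z]
    (g : Z ⟶ Spec (CommRingCat.of A)) :
    ChartPred A 𝔞 a Z g ↔
      ((Scheme.ΓSpecIso (CommRingCat.of A)).inv ≫ g.appTop) a ∈ nonZeroDivisors Γ(Z, ⊤) ∧
        ∀ x ∈ 𝔞, ((Scheme.ΓSpecIso (CommRingCat.of A)).inv ≫ g.appTop) a ∣
          ((Scheme.ΓSpecIso (CommRingCat.of A)).inv ≫ g.appTop) x := by
  set φ := (Scheme.ΓSpecIso (CommRingCat.of A)).inv ≫ g.appTop with hφ
  have eK : ∀ K : Ideal A, ((FSch.idealSpec A K).comap g).ideal ⟨⊤, isAffineOpen_top Z⟩ =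
      K.map φ.hom := by
    intro K
    rw [MP99.ideal_comap_top_of_isAffine, idealSpec_ideal_top, Ideal.map_map, ← CommRingCat.hom_comp]
  have ea : ((FSch.idealSpec A (Ideal.span {a})).comap g).ideal ⟨⊤, isAffineOpen_top Z⟩ =
      Ideal.span {φ a} := by
    rw [eK, Ideal.map_span, Set.image_singleton]
  constructor
  · rintro ⟨h1, h2⟩
    refine ⟨MP99.mem_nonZeroDivisors_of_span h2 ea, fun x hx => ?_⟩
    have := h1 ⟨⊤, isAffineOpen_top Z⟩
    rw [ea, eK] at this
    exact Ideal.mem_span_singleton.1 (this (Ideal.mem_map_of_mem _ hx))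
  · rintro ⟨h1, h2⟩
    refine ⟨Scheme.IdealSheafData.le_of_isAffine ?_,
      fun _ => ⟨⟨⊤, isAffineOpen_top Z⟩, trivial, _, h1, ea⟩⟩
    rw [ea, eK, Ideal.map_le_iff_le_comap]
    exact fun x hx => Ideal.mem_span_singleton.2 (h2 x hx)

/-- The affine blow-up algebra represents the chart predicate. -/
theorem isRep_chart : MP99.IsRep (ChartPred A 𝔞 a) (chartMor A 𝔞 a) := by
  let C := CommRingCat.of (BlowUp.affineAlgebra A 𝔞 a)
  have eφ : (Scheme.ΓSpecIso (CommRingCat.of A)).inv ≫ (chartMor A 𝔞 a).appTop =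
      CommRingCat.ofHom (algebraMap A (BlowUp.affineAlgebra A 𝔞 a)) ≫ (Scheme.ΓSpecIso C).inv := by
    exact (Scheme.ΓSpecIso_inv_naturality _).symm
  have hgood : ChartPred A 𝔞 a _ (chartMor A 𝔞 a) := by
    rw [chartPred_iff_of_isAffine, eφ]
    let e := (Scheme.ΓSpecIso C).commRingCatIsoToRingEquiv
    refine ⟨?_, fun x hx => ?_⟩
    · exact MulEquivClass.map_nonZeroDivisors e.symm ▸
        Submonoid.mem_map.2 ⟨_, affineAlgebra_nzd a, rfl⟩
    · obtain ⟨c, hc⟩ := affineAlgebra_div (a := a) hx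
      exact ⟨e.symm c, (congrArg e.symm (hc.trans (mul_comm _ _))).trans (map_mul e.symm _ _)⟩
  have hu : ∀ (Z : Scheme.{u}) [IsAffine Z] (g : Z ⟶ Spec (CommRingCat.of A)),
      ChartPred A 𝔞 a Z g → ∃! l : Z ⟶ Spec C, l ≫ chartMor A 𝔞 a = g := by
    intro Z _ g hg
    obtain ⟨hnz, hdiv⟩ := (chartPred_iff_of_isAffine g).1 hg
    obtain ⟨ψ, hψ⟩ := affineAlgebra_exists_lift (𝔞 := 𝔞) (a := a) _ hnz hdiv
    have key : ∀ χ : C ⟶ Γ(Z, ⊤), (Z.toSpecΓ ≫ Spec.map χ) ≫ chartMor A 𝔞 a = g ↔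
        χ.hom.comp (algebraMap A (BlowUp.affineAlgebra A 𝔞 a)) =
          ((Scheme.ΓSpecIso (CommRingCat.of A)).inv ≫ g.appTop).hom := by
      intro χ
      have hgc : g = Z.toSpecΓ ≫ Spec.map ((Scheme.ΓSpecIso (CommRingCat.of A)).inv ≫ g.appTop) := by
        rw [Spec.map_comp, ← Scheme.toSpecΓ_naturality_assoc, toSpecΓ_SpecMap_ΓSpecIso_inv,
          Category.comp_id]
      conv_lhs => rw [Category.assoc, ← Spec.map_comp]
      conv_lhs => rhs; rw [hgc]
      rw [cancel_epi]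
      exact ⟨fun e => congrArg CommRingCat.Hom.hom (Spec.map_injective e),
        fun e => congrArg Spec.map (CommRingCat.hom_ext e)⟩
    refine ⟨Z.toSpecΓ ≫ Spec.map (CommRingCat.ofHom ψ), (key _).2 hψ, fun l hl => ?_⟩
    obtain ⟨χ, hχ⟩ := Spec.map_surjective (Z.isoSpec.inv ≫ l)
    have el : l = Z.toSpecΓ ≫ Spec.map χ := by
      rw [hχ, ← Category.assoc, Scheme.toSpecΓ_isoSpec_inv, Category.id_comp]
    rw [el]
    congr 2
    refine CommRingCat.hom_ext ?_
    exact affineAlgebra_hom_ext hnz ((key χ).1 (el ▸ hl)) hψ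
  refine ⟨hgood, fun Z g hg => ?_⟩
  have hloc := MP99.goodAt_isLocal (FSch.idealSpec A (Ideal.span {a})) (FSch.idealSpec A 𝔞)
  have huniq : ∀ {W : Scheme.{u}} (l l' : W ⟶ Spec C), ChartPred A 𝔞 a W (l ≫ chartMor A 𝔞 a) →
      l ≫ chartMor A 𝔞 a = l' ≫ chartMor A 𝔞 a → l = l' := by
    intro W l l' hW e'
    refine Scheme.Cover.hom_ext W.affineCover _ _ fun i => ?_
    refine (hu (W.affineCover.X i) (W.affineCover.f i ≫ l ≫ chartMor A 𝔞 a) (hloc.res _ _ hW)).unique
      (Category.assoc _ _ _) ?_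
    rw [Category.assoc, e']
  have hex : ∀ i, ∃ l : Z.affineCover.X i ⟶ Spec C, l ≫ chartMor A 𝔞 a = Z.affineCover.f i ≫ g :=
    fun i => (hu (Z.affineCover.X i) _ (hloc.res (Z.affineCover.f i) g hg)).exists
  choose l hl using hex
  have compat : ∀ i j, pullback.fst (Z.affineCover.f i) (Z.affineCover.f j) ≫ l i =
      pullback.snd (Z.affineCover.f i) (Z.affineCover.f j) ≫ l j := fun i j => by
    refine huniq _ _ ?_ ?_
    · rw [Category.assoc, hl, ← Category.assoc]
      exact hloc.res _ _ hg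
    · rw [Category.assoc, Category.assoc, hl, hl, pullback.condition_assoc]
  have hh : Scheme.Cover.glueMorphisms Z.affineCover l compat ≫ chartMor A 𝔞 a = g :=
    Scheme.Cover.hom_ext Z.affineCover _ _ fun i => by
      rw [← Category.assoc, Scheme.Cover.ι_glueMorphisms]
      exact hl i
  exact ⟨_, hh, fun l' hl' => (huniq _ l' (by rw [hh]; exact hg) (hh.trans hl'.symm)).symm⟩

section BlowUp

variable {P : Scheme.{u}} (π : P ⟶ Spec (CommRingCat.of A))

/-- The open of a scheme over `Spec A` where `a` generates the inverse image of `𝔞`. -/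
noncomputable def chartOpen (𝔞 : Ideal A) (a : A) : P.Opens :=
  MP99.maxLE ((FSch.idealSpec A 𝔞).comap π) ((FSch.idealSpec A (Ideal.span {a})).comap π)

theorem chartPred_chartOpen (hπ : BlowUp.IsEffCartierIdeal ((FSch.idealSpec A 𝔞).comap π))
    (ha : a ∈ 𝔞) : ChartPred A 𝔞 a _ ((chartOpen π 𝔞 a).ι ≫ π) := by
  have h1 : ((FSch.idealSpec A 𝔞).comap ((chartOpen π 𝔞 a).ι ≫ π)) ≤
      (FSch.idealSpec A (Ideal.span {a})).comap ((chartOpen π 𝔞 a).ι ≫ π) := by
    simp only [Scheme.IdealSheafData.comap_comp]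
    exact MP99.comap_maxLE _ _
  refine ⟨h1, ?_⟩
  have e : (FSch.idealSpec A (Ideal.span {a})).comap ((chartOpen π 𝔞 a).ι ≫ π) =
      (FSch.idealSpec A 𝔞).comap ((chartOpen π 𝔞 a).ι ≫ π) :=
    le_antisymm (Scheme.IdealSheafData.comap_mono _
      (idealSpec_mono ((Ideal.span_singleton_le_iff_mem _).2 ha))) h1
  rw [e, Scheme.IdealSheafData.comap_comp]
  exact MP99.isEffCartier_comap_isOpenImmersion hπ _

theorem range_subset_chartOpen (hπ : BlowUp.IsEffCartierIdeal ((FSch.idealSpec A 𝔞).comap π))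
    (ha : a ∈ 𝔞) {Z : Scheme.{u}} (k : Z ⟶ P) (hk : ChartPred A 𝔞 a Z (k ≫ π)) (z : Z) :
    k z ∈ chartOpen π 𝔞 a := by
  have hle : (FSch.idealSpec A (Ideal.span {a})).comap π ≤ (FSch.idealSpec A 𝔞).comap π :=
    Scheme.IdealSheafData.comap_mono _ (idealSpec_mono ((Ideal.span_singleton_le_iff_mem _).2 ha))
  have h1 := hk.1
  have h2 := hk.2
  rw [Scheme.IdealSheafData.comap_comp] at h1 h2
  rw [Scheme.IdealSheafData.comap_comp _ k π] at h1
  refine MP99.apply_mem_maxLE hπ (MP99.isLocPrincipal_comap (isLocPrincipal_idealSpec a) π) hle k ?_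
    h1 z
  have e : ((FSch.idealSpec A 𝔞).comap π).comap k =
      ((FSch.idealSpec A (Ideal.span {a})).comap π).comap k :=
    le_antisymm h1 (Scheme.IdealSheafData.comap_mono k hle)
  rw [e]
  exact h2

theorem isRep_chartOpen (hπ : BlowUp.IsBlowUp π (FSch.idealSpec A 𝔞)) (ha : a ∈ 𝔞) :
    MP99.IsRep (ChartPred A 𝔞 a) ((chartOpen π 𝔞 a).ι ≫ π) := by
  refine ⟨chartPred_chartOpen π hπ.1 ha, fun Z g hg => ?_⟩
  have hgc : BlowUp.IsEffCartierIdeal ((FSch.idealSpec A 𝔞).comap g) := by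
    have e : (FSch.idealSpec A 𝔞).comap g = (FSch.idealSpec A (Ideal.span {a})).comap g :=
      le_antisymm hg.1 (Scheme.IdealSheafData.comap_mono _
        (idealSpec_mono ((Ideal.span_singleton_le_iff_mem _).2 ha)))
    rw [e]
    exact hg.2
  obtain ⟨k, hk, hku⟩ := hπ.2 Z g hgc
  have hrange : Set.range k ⊆ Set.range (chartOpen π 𝔞 a).ι :=
    Set.range_subset_iff.2 fun z => (chartOpen π 𝔞 a).range_ι.symm ▸
      range_subset_chartOpen π hπ.1 ha k (hk.symm ▸ hg) z
  refine ⟨IsOpenImmersion.lift (chartOpen π 𝔞 a).ι k hrange, ?_, fun l hl => ?_⟩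
  · show _ ≫ _ ≫ π = g
    rw [IsOpenImmersion.lift_fac_assoc, hk]
  · rw [← cancel_mono (chartOpen π 𝔞 a).ι, IsOpenImmersion.lift_fac]
    exact hku _ (by simpa using hl)

/-- The chart opens of a blow-up are the spectra of the affine blow-up algebras. -/
theorem exists_iso_chartOpen (hπ : BlowUp.IsBlowUp π (FSch.idealSpec A 𝔞)) (ha : a ∈ 𝔞) :
    ∃ e : Spec (CommRingCat.of (BlowUp.affineAlgebra A 𝔞 a)) ≅ (chartOpen π 𝔞 a).toScheme,
      e.hom ≫ (chartOpen π 𝔞 a).ι ≫ π = chartMor A 𝔞 a :=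
  MP99.Rep.isRep_iso isRep_chart (isRep_chartOpen π hπ ha)

theorem isAffineOpen_chartOpen (hπ : BlowUp.IsBlowUp π (FSch.idealSpec A 𝔞)) (ha : a ∈ 𝔞) :
    IsAffineOpen (chartOpen π 𝔞 a) := by
  obtain ⟨e, -⟩ := exists_iso_chartOpen π hπ ha
  exact IsAffine.of_isIso e.inv

/-- The chart opens of generators cover wherever the inverse image of the centre is effective
Cartier. -/
theorem exists_mem_chartOpen_of_span (hπ : BlowUp.IsEffCartierIdeal ((FSch.idealSpec A 𝔞).comap π))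
    {S : Set A} (hS : Ideal.span S = 𝔞) (p : P) : ∃ a ∈ S, p ∈ chartOpen π 𝔞 a := by
  obtain ⟨U, hpU, t, htz, ht⟩ := hπ p
  let φ := baseHom π U.1
  have e : ∀ K : Ideal A, ((FSch.idealSpec A K).comap π).ideal U = K.map φ.hom := fun K => by
    rw [MP99.ideal_comap _ π ⟨⊤, isAffineOpen_top _⟩ U le_top, idealSpec_ideal_top, Ideal.map_map,
      ← CommRingCat.hom_comp]
  rw [e] at ht
  obtain ⟨s, hs⟩ : ∃ s : S →₀ Γ(P, U.1),
      (Finsupp.linearCombination Γ(P, U.1) fun x : S => φ x) s = t := by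
    rw [← LinearMap.mem_range, Finsupp.range_linearCombination]
    have := ht.ge (Ideal.mem_span_singleton_self t)
    rw [← hS, Ideal.map_span] at this
    rwa [Set.image_eq_range] at this
  have hd : ∀ x : S, ∃ d, d * t = φ x := fun x =>
    Ideal.mem_span_singleton'.1 (ht.le (Ideal.mem_map_of_mem _ (hS ▸ Ideal.subset_span x.2)))
  choose d hd using hd
  have h1 : ∑ x ∈ s.support, s x * d x = 1 := by
    refine (mul_cancel_right_mem_nonZeroDivisors htz).1 ?_
    rw [one_mul, Finset.sum_mul]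
    conv_rhs => rw [← hs, Finsupp.linearCombination_apply, Finsupp.sum]
    exact Finset.sum_congr rfl fun x _ => by rw [mul_assoc, hd, smul_eq_mul]
  obtain ⟨x, -, hx⟩ : ∃ x ∈ s.support, IsUnit ((P.presheaf.germ U.1 p hpU).hom (s x * d x)) := by
    by_contra hc
    push Not at hc
    have h2 : (∑ x ∈ s.support, (P.presheaf.germ U.1 p hpU).hom (s x * d x)) ∈
        nonunits (P.presheaf.stalk p) :=
      Finset.sum_induction _ (· ∈ nonunits (P.presheaf.stalk p))
        (fun _ _ => IsLocalRing.nonunits_add) (zero_mem_nonunits.2 zero_ne_one) hc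
    rw [← map_sum, h1, map_one] at h2
    exact h2 isUnit_one
  rw [map_mul] at hx
  have hp : p ∈ P.basicOpen (d x) :=
    (P.mem_basicOpen _ _ hpU).2 (isUnit_of_mul_isUnit_right hx)
  refine ⟨x, x.2, MP99.le_maxLE (W := P.basicOpen (d x))
    (MP99.comap_le_of_ideal_le fun y hy => ⟨P.affineBasicOpen (d x), hy, le_rfl, ?_⟩) hp⟩
  have hle : P.affineBasicOpen (d x) ≤ U := P.basicOpen_le _
  have ex : ((FSch.idealSpec A (Ideal.span {(x : A)})).comap π).ideal U = Ideal.span {φ x} := by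
    rw [e, Ideal.map_span, Set.image_singleton]
  rw [MP99.ideal_restrict _ hle ((e 𝔞).trans ht), MP99.ideal_restrict _ hle ex, ← hd, map_mul]
  exact le_of_eq (Ideal.span_singleton_mul_left_unit
    (RingedSpace.isUnit_res_basicOpen _ (d x)) _).symm

/-- The chart opens cover wherever the inverse image of the centre is effective Cartier. -/
theorem exists_mem_chartOpen (hπ : BlowUp.IsEffCartierIdeal ((FSch.idealSpec A 𝔞).comap π))
    (p : P) : ∃ a ∈ 𝔞, p ∈ chartOpen π 𝔞 a :=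
  exists_mem_chartOpen_of_span π hπ (S := (𝔞 : Set A)) 𝔞.span_eq p

set_option backward.isDefEq.respectTransparency false in
/-- The functions on a chart open of a blow-up form the affine blow-up algebra. -/
theorem exists_iso_sections (hπ : BlowUp.IsBlowUp π (FSch.idealSpec A 𝔞)) (ha : a ∈ 𝔞) :
    ∃ ε : BlowUp.affineAlgebra A 𝔞 a ≃+* Γ(P, chartOpen π 𝔞 a),
      ∀ r : A, ε (algebraMap A (BlowUp.affineAlgebra A 𝔞 a) r) = baseHom π (chartOpen π 𝔞 a) r := by
  obtain ⟨e, he⟩ := exists_iso_chartOpen π hπ ha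
  let C := CommRingCat.of (BlowUp.affineAlgebra A 𝔞 a)
  have : IsIso e.inv.appTop := inferInstanceAs (IsIso (e.inv.app ⊤))
  let ε : C ≅ Γ(P, chartOpen π 𝔞 a) :=
    (Scheme.ΓSpecIso C).symm ≪≫ asIso e.inv.appTop ≪≫ (chartOpen π 𝔞 a).topIso
  have key : baseHom π (chartOpen π 𝔞 a) =
      CommRingCat.ofHom (algebraMap A (BlowUp.affineAlgebra A 𝔞 a)) ≫ ε.hom := by
    have h2 : ((chartOpen π 𝔞 a).ι ≫ π).appTop = (chartMor A 𝔞 a).appTop ≫ e.inv.appTop := by
      rw [← Scheme.Hom.comp_appTop, ← he, Iso.inv_hom_id_assoc]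
    rw [baseHom]
    simp only [ε, C, Iso.trans_hom, Iso.symm_hom, asIso_hom]
    rw [Scheme.ΓSpecIso_inv_naturality_assoc]
    congr 1
    rw [← Category.assoc, ← h2, Scheme.Hom.comp_appTop, Category.assoc, Scheme.Opens.ι_appTop,
      Scheme.Opens.topIso_hom, ← Functor.map_comp, Scheme.Hom.appTop, Scheme.Hom.app_eq_appLE,
      Scheme.Hom.appLE_map]
  exact ⟨ε.commRingCatIsoToRingEquiv, fun r => (congrArg (fun φ => φ r) key).symm⟩

/-- The chart open of an element of a finitely generated centre is of finite type over the base. -/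
theorem ftOpen_chartOpen (hπ : BlowUp.IsBlowUp π (FSch.idealSpec A 𝔞)) (h𝔞 : 𝔞.FG) (ha : a ∈ 𝔞) :
    FTOpen π (chartOpen π 𝔞 a) := by
  obtain ⟨ε, hε⟩ := exists_iso_sections π hπ ha
  refine ⟨isAffineOpen_chartOpen π hπ ha, ?_⟩
  rw [show (baseHom π (chartOpen π 𝔞 a)).hom =
    ε.toRingHom.comp (algebraMap A (BlowUp.affineAlgebra A 𝔞 a)) from RingHom.ext fun r => (hε r).symm]
  exact (RingHom.FiniteType.of_surjective _ ε.surjective).comp
    (RingHom.finiteType_algebraMap.2 (affineAlgebra_finiteType a h𝔞))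

/-- A blow-up of a finitely generated ideal of an affine scheme is locally principal and of finite
type. -/
theorem locPrincipalFT_of_isBlowUp (hπ : BlowUp.IsBlowUp π (FSch.idealSpec A 𝔞)) (h𝔞 : 𝔞.FG) :
    LocPrincipalFT π 𝔞 := by
  intro p
  obtain ⟨a, ha, hp⟩ := exists_mem_chartOpen π hπ.1 p
  obtain ⟨ε, hε⟩ := exists_iso_sections π hπ ha
  refine ⟨chartOpen π 𝔞 a, hp, ftOpen_chartOpen π hπ h𝔞 ha, a, ha, ?_, ?_⟩
  · rw [← hε]
    exact MulEquivClass.map_nonZeroDivisors ε ▸ Submonoid.mem_map.2 ⟨_, affineAlgebra_nzd a, rfl⟩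
  · rw [Ideal.map_le_iff_le_comap]
    intro x hx
    obtain ⟨c, hc⟩ := affineAlgebra_div (a := a) hx
    exact Ideal.mem_span_singleton'.2 ⟨ε c, by rw [← hε, ← hε, hc, map_mul]⟩

end BlowUp

end Groth.Agent.FBlow13

namespace Groth.Agent.FBlow13

theorem idealSpec_pow {A : Type u} [CommRing A] (K : Ideal A) (n : ℕ) :
    FSch.idealSpec A (K ^ n) = FSch.idealSpec A K ^ n :=
  An92.FSch.toIdeal_injective <| by
    rw [An92.FSch.toIdeal_pow, An92.FSch.toIdeal_idealSpec, An92.FSch.toIdeal_idealSpec]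

end Groth.Agent.FBlow13
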