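import Groth.Agent.FBlow13.Levels
import Groth.Agent.An92.FSch.Basic
import Mathlib.AlgebraicGeometry.Gluing

/-!
The universal property of a blow-up of an affine scheme for formal systems over it.
-/

set_option autoImplicit false

universe u

open CategoryTheory CategoryTheory.Limits AlgebraicGeometry TopologicalSpace Opposite

namespace Groth.Agent.FBlow13

open _root_.FSch

/-- Morphisms on the members of an open cover which agree on intersections glue. -/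
theorem exists_glue_opens {X P : Scheme.{u}} {ι : Type u} (U : ι → X.Opens) (hU : ⨆ i, U i = ⊤)
    (f : ∀ i, (U i).toScheme ⟶ P)
    (hf : ∀ i j, X.homOfLE (inf_le_left : U i ⊓ U j ≤ U i) ≫ f i =
      X.homOfLE (inf_le_right : U i ⊓ U j ≤ U j) ≫ f j) :
    ∃ k : X ⟶ P, ∀ i, (U i).ι ≫ k = f i := by
  refine ⟨(Scheme.openCoverOfIsOpenCover X U hU).glueMorphisms f fun i j => ?_,
    fun i => (Scheme.openCoverOfIsOpenCover X U hU).ι_glueMorphisms _ _ i⟩
  change pullback.fst (U i).ι (U j).ι ≫ f i = pullback.snd (U i).ι (U j).ι ≫ f j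
  rw [← cancel_epi (isPullback_opens_inf (U i) (U j)).isoPullback.hom,
    IsPullback.isoPullback_hom_fst_assoc, IsPullback.isoPullback_hom_snd_assoc]
  exact hf i j

theorem hom_ext_opens {X P : Scheme.{u}} {ι : Type u} (U : ι → X.Opens) (hU : ⨆ i, U i = ⊤)
    {k k' : X ⟶ P} (e : ∀ i, (U i).ι ≫ k = (U i).ι ≫ k') : k = k' :=
  Scheme.Cover.hom_ext (Scheme.openCoverOfIsOpenCover X U hU) _ _ e

theorem eq_of_ideal_top {R : CommRingCat.{u}} (I : (Spec R).IdealSheafData) :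
    I.ideal ⟨⊤, isAffineOpen_top _⟩ = (An92.FSch.toIdeal I).map (Scheme.ΓSpecIso R).inv.hom := by
  rw [An92.FSch.toIdeal, Ideal.map_map, ← CommRingCat.hom_comp, Iso.hom_inv_id]
  exact (Ideal.map_id _).symm

theorem isEffCartier_comap_spec {A B : CommRingCat.{u}} (χ : A ⟶ B) (𝔞 : Ideal A) {g : B}
    (hg : 𝔞.map χ.hom = Ideal.span {g}) (hz : g ∈ nonZeroDivisors B) :
    BlowUp.IsEffCartierIdeal ((idealSpec A 𝔞).comap (Spec.map χ)) := fun x => by
  refine ⟨⟨⊤, isAffineOpen_top _⟩, trivial, (Scheme.ΓSpecIso B).inv g, ?_, ?_⟩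
  · rw [mem_nonZeroDivisors_iff_right] at hz ⊢
    intro t ht
    have := congrArg (Scheme.ΓSpecIso B).hom ht
    rw [map_mul, map_zero, ← CommRingCat.comp_apply, Iso.inv_hom_id] at this
    have h0 := hz _ this
    exact (Scheme.ΓSpecIso B).commRingCatIsoToRingEquiv.injective (h0.trans (map_zero _).symm)
  · rw [eq_of_ideal_top, An92.FSch.toIdeal_comap]
    erw [An92.FSch.toIdeal_idealSpec, hg, Ideal.map_span, Set.image_singleton]

variable {𝔛 : Sys.{u}} {h : 𝔛.IsFormal}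

/-- The opens on which a set of global sections generates a principal ideal with a strict
non-zero-divisor as generator. -/
def GoodOpen (S : Set (Sec 𝔛 h ⊤)) (W : (𝔛.X 0).Opens) : Prop :=
  ∃ g ∈ Ideal.span (res 𝔛 h le_top '' S : Set (Sec 𝔛 h W)),
    (∀ a ∈ S, g ∣ res 𝔛 h le_top a) ∧
      ∀ (V : (𝔛.X 0).Opens) (j : V ≤ W) (t : Sec 𝔛 h V), t * res 𝔛 h j g = 0 → t = 0

theorem GoodOpen.mono {S : Set (Sec 𝔛 h ⊤)} {W V : (𝔛.X 0).Opens} (hW : GoodOpen S W)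
    (i : V ≤ W) : GoodOpen S V := by
  obtain ⟨g, hg, hdvd, hnz⟩ := hW
  refine ⟨res 𝔛 h i g, ?_, fun a ha => ?_, fun V' j t ht => ?_⟩
  · refine span_image_transport (res 𝔛 h i).hom hg rfl fun a _ => ?_
    exact FBlow.IdealSh.map_comp_apply le_top i a
  · obtain ⟨c, hc⟩ := hdvd a ha
    refine ⟨res 𝔛 h i c, ?_⟩
    rw [← map_mul, ← hc]
    exact (FBlow.IdealSh.map_comp_apply le_top i a).symm
  · erw [FBlow.IdealSh.map_comp_apply] at ht
    exact hnz V' (j.trans i) t ht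

theorem GoodOpen.of_invOn {S : Set (Sec 𝔛 h ⊤)} (hI : InvOn ⊤ S) (x : 𝔛.X 0) :
    ∃ W, x ∈ W ∧ GoodOpen S W := by
  obtain ⟨W, i, hxW, g, hg, hdvd, hnz⟩ := hI x trivial
  exact ⟨W, hxW, g, hg, hdvd, hnz⟩

section Lift

variable {A : CommRingCat.{u}} (𝔞 : Ideal A) {P : Scheme.{u}} (π : P ⟶ Spec A)
  (hπ : BlowUp.IsBlowUp π (idealSpec A 𝔞)) (q : ∀ n, 𝔛.X n ⟶ Spec A)
  (hq : ∀ n, 𝔛.ι n ≫ q (n + 1) = q n)

include hπ in
theorem existsUnique_lift_spec {W : (𝔛.X 0).Opens}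
    (hW : GoodOpen (famHom h q hq '' (𝔞 : Set A)) W) :
    ∃! l : Spec (Sec 𝔛 h W) ⟶ P, l ≫ π = Spec.map (famHom h q hq ≫ res 𝔛 h le_top) := by
  obtain ⟨g, hg, hdvd, hnz⟩ := hW
  refine hπ.2 _ _ (isEffCartier_comap_spec _ 𝔞 (g := g) ?_ ?_)
  · apply le_antisymm
    · refine Ideal.map_le_iff_le_comap.2 fun a ha => ?_
      obtain ⟨c, hc⟩ := hdvd _ ⟨a, ha, rfl⟩
      refine Ideal.mem_span_singleton'.2 ⟨c, ?_⟩
      rw [mul_comm, ← hc]
      rfl
    · refine (Ideal.span_singleton_le_iff_mem _).2 ?_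
      rw [Ideal.map, CommRingCat.hom_comp, RingHom.coe_comp, Set.image_comp]
      exact hg
  · rw [mem_nonZeroDivisors_iff_right]
    intro t ht
    refine hnz W le_rfl t ?_
    rwa [res, FBlow.IdealSh.map_id_apply]

include hπ in
/-- A formal system over `Spec A` on which the ideal generated by `𝔞` is invertible maps uniquely
to a blow-up of `𝔞`. -/
theorem existsUnique_lift
    (hinv : (FBlow.schIdealMap 𝔛 h q hq (FBlow.IdealSh.ofData (idealSpec A 𝔞))).IsInvertible) :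
    ∃! k : ∀ n, 𝔛.X n ⟶ P, (∀ n, 𝔛.ι n ≫ k (n + 1) = k n) ∧ ∀ n, k n ≫ π = q n := by
  have hI := (isInvertible_iff_invOn (genOn_schIdealMap_spec (h := h) q hq 𝔞)).1 hinv
  set S := famHom h q hq '' (𝔞 : Set A) with hS
  choose W hxW hW using GoodOpen.of_invOn hI
  let l : ∀ {V : (𝔛.X 0).Opens}, GoodOpen S V → (Spec (Sec 𝔛 h V) ⟶ P) := fun hV =>
    (existsUnique_lift_spec 𝔞 π hπ q hq hV).choose
  have hl : ∀ {V : (𝔛.X 0).Opens} (hV : GoodOpen S V),
      l hV ≫ π = Spec.map (famHom h q hq ≫ res 𝔛 h le_top) := fun hV =>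
    (existsUnique_lift_spec 𝔞 π hπ q hq hV).choose_spec.1
  have hl_res : ∀ {V V' : (𝔛.X 0).Opens} (hV : GoodOpen S V) (hV' : GoodOpen S V') (i : V' ≤ V),
      Spec.map (res 𝔛 h i) ≫ l hV = l hV' := by
    intro V V' hV hV' i
    refine (existsUnique_lift_spec 𝔞 π hπ q hq hV').unique ?_ (hl hV')
    rw [Category.assoc, hl hV, ← Spec.map_comp, Category.assoc]
    congr 2
    exact ((𝔛.Osh h).obj.map_comp _ _).symm
  have hcov : ∀ n, ⨆ x, 𝔛.lvU h n (W x) = ⊤ := fun n =>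
    top_unique fun z _ => Opens.mem_iSup.2 ⟨𝔛.gInv h n z, hxW (𝔛.gInv h n z)⟩
  have main : ∀ n, ∃ k : 𝔛.X n ⟶ P, ∀ x, (𝔛.lvU h n (W x)).ι ≫ k =
      toSpecO 𝔛 h (W x) n ≫ l (hW x) := fun n => by
    refine exists_glue_opens _ (hcov n) _ fun x y => ?_
    have hxy : GoodOpen S (W x ⊓ W y) := (hW x).mono inf_le_left
    rw [← Category.assoc, ← Category.assoc]
    erw [← toSpecO_res 𝔛 h (inf_le_left : W x ⊓ W y ≤ W x) n,
      ← toSpecO_res 𝔛 h (inf_le_right : W x ⊓ W y ≤ W y) n]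
    exact (Category.assoc _ _ _).trans ((congrArg (toSpecO 𝔛 h (W x ⊓ W y) n ≫ ·)
      ((hl_res (hW x) hxy inf_le_left).trans (hl_res (hW y) hxy inf_le_right).symm)).trans
        (Category.assoc _ _ _).symm)
  choose k hk using main
  refine ⟨k, ⟨fun n => hom_ext_opens _ (hcov n) fun x => ?_,
    fun n => hom_ext_opens _ (hcov n) fun x => ?_⟩, fun k' hk' => funext fun n => ?_⟩
  · rw [hk, ← toSpecO_succ, Category.assoc, ← hk, Scheme.Hom.resLE_comp_ι_assoc]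
  · rw [← Category.assoc, hk, Category.assoc, hl (hW x), toSpecO_famHom]
  · have hcov' : ∀ z : 𝔛.X 0, ∃ (x : 𝔛.X 0) (V : (𝔛.X 0).Opens) (i : V ≤ W x), z ∈ V ∧
        (𝔛.lvU h n V).ι ≫ k' n = toSpecO 𝔛 h V n ≫ l ((hW x).mono i) := by
      intro z
      obtain ⟨Q, hQ, hzQ⟩ : ∃ Q : P.Opens, IsAffineOpen Q ∧ k' 0 z ∈ Q := by
        obtain ⟨_, ⟨Q, hQ, rfl⟩, hzQ, -⟩ := P.isBasis_affineOpens.exists_subset_of_mem_open
          (Set.mem_univ (k' 0 z)) isOpen_univ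
        exact ⟨Q, hQ, hzQ⟩
      set V : (𝔛.X 0).Opens := W z ⊓ (k' 0) ⁻¹ᵁ Q with hV
      refine ⟨z, V, inf_le_left, ⟨hxW z, hzQ⟩, ?_⟩
      have hrange : ∀ m, 𝔛.lvU h m V ≤ (k' m) ⁻¹ᵁ Q := fun m =>
        (FBlow.lvU_mono 𝔛 h m inf_le_right).trans (lvU_p 𝔛 h k' hk'.1 m Q).ge
      let a : ∀ m, (𝔛.lvU h m V).toScheme ⟶ Q.toScheme := fun m =>
        (k' m).resLE Q (𝔛.lvU h m V) (hrange m)
      have ha : ∀ m, a m ≫ Q.ι = (𝔛.lvU h m V).ι ≫ k' m := fun m => Scheme.Hom.resLE_comp_ι _ _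
      have : IsAffine Q.toScheme := hQ
      obtain ⟨ψ, hψ⟩ := exists_hom_of_family (h := h) V a fun m => by
        rw [← cancel_mono Q.ι, Category.assoc, ha, ← Category.assoc, Scheme.Hom.resLE_comp_ι,
          Category.assoc, hk'.1, ha]
      have e : Spec.map ψ ≫ Q.toScheme.isoSpec.inv ≫ Q.ι = l ((hW z).mono inf_le_left) := by
        refine (existsUnique_lift_spec 𝔞 π hπ q hq ((hW z).mono inf_le_left)).unique ?_
          (hl ((hW z).mono inf_le_left))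
        obtain ⟨χ, hχ⟩ := Spec.map_surjective ((Spec.map ψ ≫ Q.toScheme.isoSpec.inv ≫ Q.ι) ≫ π)
        rw [← hχ]
        congr 1
        refine hom_sec_ext_toSpecO fun m => ?_
        rw [hχ, toSpecO_famHom, ← Category.assoc, ← Category.assoc, ← Category.assoc,
          Category.assoc (toSpecO 𝔛 h V m), ← hψ m, ha, Category.assoc, hk'.2]
      rw [← ha, hψ n, Category.assoc, Category.assoc, e]
    choose x V i hzV hV using hcov'
    have hcovV : ⨆ z, 𝔛.lvU h n (V z) = ⊤ :=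
      top_unique fun z _ => Opens.mem_iSup.2 ⟨𝔛.gInv h n z, hzV (𝔛.gInv h n z)⟩
    refine hom_ext_opens _ hcovV fun z => ?_
    rw [hV z, ← (𝔛.X n).homOfLE_ι (FBlow.lvU_mono 𝔛 h n (i z)), Category.assoc, hk,
      ← Category.assoc, ← toSpecO_res 𝔛 h (i z), Category.assoc,
      hl_res (hW (x z)) ((hW (x z)).mono (i z))]

end Lift

end Groth.Agent.FBlow13
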