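import Groth.Agent.FBlow13.Chart
import Groth.Agent.FBlow13.UP
import Mathlib.AlgebraicGeometry.Gluing

/-!
Blow-ups of affine schemes exist: gluing of the affine blow-up algebras.
-/

set_option autoImplicit false

universe u

open CategoryTheory CategoryTheory.Limits AlgebraicGeometry TopologicalSpace

namespace Groth.Agent.FBlow13

variable {A : Type u} [CommRing A] (𝔞 : Ideal A)

theorem exists_factor {T P W : Scheme.{u}} (i : T ⟶ P) [IsOpenImmersion i] (h : W ⟶ P) (V : W.Opens)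
    (hV : V ≤ h ⁻¹ᵁ i.opensRange) : ∃ k : V.toScheme ⟶ T, k ≫ i = V.ι ≫ h :=
  ⟨IsOpenImmersion.lift i (V.ι ≫ h) (Set.range_subset_iff.2 fun y => hV y.2),
    IsOpenImmersion.lift_fac _ _ _⟩

namespace Glue

/-- Generators: all elements of the ideal. -/
abbrev Idx : Type u := {a : A // a ∈ 𝔞}

/-- The chart of a generator. -/
noncomputable abbrev Y (i : Idx 𝔞) : Scheme.{u} :=
  Spec (CommRingCat.of (BlowUp.affineAlgebra A 𝔞 i.1))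

/-- The structure map of a chart. -/
noncomputable abbrev p (i : Idx 𝔞) : Y 𝔞 i ⟶ Spec (CommRingCat.of A) := chartMor A 𝔞 i.1

theorem cartier {Z : Scheme.{u}} {g : Z ⟶ Spec (CommRingCat.of A)} {a : A} (ha : a ∈ 𝔞)
    (hg : ChartPred A 𝔞 a Z g) :
    BlowUp.IsEffCartierIdeal ((FSch.idealSpec A 𝔞).comap g) := by
  have e : (FSch.idealSpec A 𝔞).comap g = (FSch.idealSpec A (Ideal.span {a})).comap g :=
    le_antisymm hg.1 (Scheme.IdealSheafData.comap_mono _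
      (idealSpec_mono ((Ideal.span_singleton_le_iff_mem _).2 ha)))
  rw [e]
  exact hg.2

theorem cartier_p (i : Idx 𝔞) : BlowUp.IsEffCartierIdeal ((FSch.idealSpec A 𝔞).comap (p 𝔞 i)) :=
  cartier 𝔞 i.2 isRep_chart.1

/-- The overlap of two charts, in the first one. -/
noncomputable abbrev O (i j : Idx 𝔞) : (Y 𝔞 i).Opens := chartOpen (p 𝔞 i) 𝔞 j.1

theorem pred_left {Z : Scheme.{u}} (i : Idx 𝔞) (k : Z ⟶ Y 𝔞 i) [IsOpenImmersion k] :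
    ChartPred A 𝔞 i.1 Z (k ≫ p 𝔞 i) :=
  (MP99.goodAt_isLocal _ _).res k _ isRep_chart.1

theorem pred_right {Z : Scheme.{u}} (i j : Idx 𝔞) (k : Z ⟶ (O 𝔞 i j).toScheme)
    [IsOpenImmersion k] : ChartPred A 𝔞 j.1 Z (k ≫ (O 𝔞 i j).ι ≫ p 𝔞 i) :=
  (MP99.goodAt_isLocal _ _).res k _ (chartPred_chartOpen _ (cartier_p 𝔞 i) j.2)

/-- The map of an overlap into the other chart. -/
noncomputable def toOther (i j : Idx 𝔞) : (O 𝔞 i j).toScheme ⟶ Y 𝔞 j :=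
  (isRep_chart.2 _ _ (chartPred_chartOpen (p 𝔞 i) (cartier_p 𝔞 i) j.2)).choose

theorem toOther_p (i j : Idx 𝔞) : toOther 𝔞 i j ≫ p 𝔞 j = (O 𝔞 i j).ι ≫ p 𝔞 i :=
  (isRep_chart.2 _ _ (chartPred_chartOpen (p 𝔞 i) (cartier_p 𝔞 i) j.2)).choose_spec.1

theorem range_toOther (i j : Idx 𝔞) : Set.range (toOther 𝔞 i j) ⊆ Set.range (O 𝔞 j i).ι :=
  Set.range_subset_iff.2 fun z => (O 𝔞 j i).range_ι.symm ▸
    range_subset_chartOpen (p 𝔞 j) (cartier_p 𝔞 j) i.2 _ (by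
      rw [toOther_p]
      exact pred_left 𝔞 i (O 𝔞 i j).ι) z

/-- The transition map. -/
noncomputable def t (i j : Idx 𝔞) : (O 𝔞 i j).toScheme ⟶ (O 𝔞 j i).toScheme :=
  IsOpenImmersion.lift (O 𝔞 j i).ι (toOther 𝔞 i j) (range_toOther 𝔞 i j)

theorem t_ι (i j : Idx 𝔞) : t 𝔞 i j ≫ (O 𝔞 j i).ι = toOther 𝔞 i j :=
  IsOpenImmersion.lift_fac _ _ _

theorem t_p (i j : Idx 𝔞) : t 𝔞 i j ≫ (O 𝔞 j i).ι ≫ p 𝔞 j = (O 𝔞 i j).ι ≫ p 𝔞 i := by
  rw [← Category.assoc, t_ι, toOther_p]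

theorem mem_O_self (i : Idx 𝔞) (y : Y 𝔞 i) : y ∈ O 𝔞 i i :=
  range_subset_chartOpen (p 𝔞 i) (cartier_p 𝔞 i) i.2 (𝟙 _) (by
    rw [Category.id_comp]; exact isRep_chart.1) y

theorem range_triple (i j k : Idx 𝔞) :
    Set.range (pullback.fst (O 𝔞 i j).ι (O 𝔞 i k).ι ≫ toOther 𝔞 i j) ⊆ Set.range (O 𝔞 j k).ι :=
  Set.range_subset_iff.2 fun z => (O 𝔞 j k).range_ι.symm ▸
    range_subset_chartOpen (p 𝔞 j) (cartier_p 𝔞 j) k.2 _ (by
      rw [Category.assoc, toOther_p, pullback.condition_assoc]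
      exact pred_right 𝔞 i k _) z

/-- The map of triple overlaps. -/
noncomputable def t' (i j k : Idx 𝔞) :
    pullback (O 𝔞 i j).ι (O 𝔞 i k).ι ⟶ pullback (O 𝔞 j k).ι (O 𝔞 j i).ι :=
  pullback.lift (IsOpenImmersion.lift (O 𝔞 j k).ι _ (range_triple 𝔞 i j k))
    (pullback.fst _ _ ≫ t 𝔞 i j) (by
      rw [IsOpenImmersion.lift_fac, Category.assoc, t_ι])

theorem t'_fst_p (i j k : Idx 𝔞) :
    t' 𝔞 i j k ≫ pullback.fst _ _ ≫ (O 𝔞 j k).ι ≫ p 𝔞 j =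
      pullback.fst _ _ ≫ (O 𝔞 i j).ι ≫ p 𝔞 i := by
  rw [t', pullback.lift_fst_assoc, IsOpenImmersion.lift_fac_assoc, Category.assoc, toOther_p]

theorem cocycle (i j k : Idx 𝔞) : t' 𝔞 i j k ≫ t' 𝔞 j k i ≫ t' 𝔞 k i j = 𝟙 _ := by
  rw [← cancel_mono (pullback.fst (O 𝔞 i j).ι (O 𝔞 i k).ι ≫ (O 𝔞 i j).ι)]
  have hp : ChartPred A 𝔞 i.1 _
      ((pullback.fst (O 𝔞 i j).ι (O 𝔞 i k).ι ≫ (O 𝔞 i j).ι) ≫ p 𝔞 i) := pred_left 𝔞 i _
  refine (isRep_chart.2 _ _ hp).unique ?_ ?_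
  · simp only [Category.assoc]
    rw [t'_fst_p, t'_fst_p, t'_fst_p]
  · rw [Category.id_comp]

/-- The gluing datum of the charts. -/
noncomputable def data : Scheme.GlueData.{u} where
  J := Idx 𝔞
  U := Y 𝔞
  V ij := (O 𝔞 ij.1 ij.2).toScheme
  f i j := (O 𝔞 i j).ι
  f_id i := by
    have : Function.Surjective (O 𝔞 i i).ι.base := fun y => ⟨⟨y, mem_O_self 𝔞 i y⟩, rfl⟩
    have : Epi (O 𝔞 i i).ι.base := (TopCat.epi_iff_surjective _).2 this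
    exact IsOpenImmersion.isIso (O 𝔞 i i).ι
  t := t 𝔞
  t_id i := by
    rw [← cancel_mono (O 𝔞 i i).ι, t_ι, Category.id_comp]
    exact (isRep_chart.2 _ _ (pred_left 𝔞 i (O 𝔞 i i).ι)).unique (toOther_p 𝔞 i i) rfl
  t' := t' 𝔞
  t_fac i j k := pullback.lift_snd _ _ _
  cocycle := cocycle 𝔞
  f_open i j := inferInstance

/-- The inclusion of a chart in the glued scheme. -/
noncomputable abbrev chart (i : Idx 𝔞) : Y 𝔞 i ⟶ (data 𝔞).glued := (data 𝔞).ι i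

theorem chart_glue (i j : Idx 𝔞) :
    toOther 𝔞 i j ≫ chart 𝔞 j = (O 𝔞 i j).ι ≫ chart 𝔞 i := by
  rw [← t_ι, Category.assoc]
  exact (data 𝔞).glue_condition i j

/-- The structure map of the glued scheme. -/
noncomputable def toBase : (data 𝔞).glued ⟶ Spec (CommRingCat.of A) :=
  Multicoequalizer.desc _ _ (fun i => p 𝔞 i) fun ij => by
    change (O 𝔞 ij.1 ij.2).ι ≫ p 𝔞 ij.1 = (t 𝔞 ij.1 ij.2 ≫ (O 𝔞 ij.2 ij.1).ι) ≫ p 𝔞 ij.2
    exact (t_p 𝔞 ij.1 ij.2).symm.trans (Category.assoc _ _ _).symm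

instance isOpenImmersion_chart (i : Idx 𝔞) : IsOpenImmersion (chart 𝔞 i) :=
  Scheme.GlueData.ι_isOpenImmersion (data 𝔞) i

theorem chart_toBase (i : Idx 𝔞) : chart 𝔞 i ≫ toBase 𝔞 = p 𝔞 i := by
  change Multicoequalizer.π (data 𝔞).diagram i ≫ toBase 𝔞 = p 𝔞 i
  rw [toBase]
  exact Multicoequalizer.π_desc _ _ _ _ _

theorem apply_mem_range_chart {Z : Scheme.{u}} (k : Z ⟶ (data 𝔞).glued) (i : Idx 𝔞)
    (hk : ChartPred A 𝔞 i.1 Z (k ≫ toBase 𝔞)) (z : Z) : k z ∈ (chart 𝔞 i).opensRange := by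
  obtain ⟨j, y, hy⟩ : ∃ (j : Idx 𝔞) (y : Y 𝔞 j), chart 𝔞 j y = k z :=
    (data 𝔞).ι_jointly_surjective (k z)
  let W : Z.Opens := k ⁻¹ᵁ (chart 𝔞 j).opensRange
  have hzW : z ∈ W := ⟨y, hy⟩
  obtain ⟨l, hl⟩ := exists_factor (chart 𝔞 j) k W le_rfl
  have hl' : ChartPred A 𝔞 i.1 _ (l ≫ p 𝔞 j) := by
    rw [← chart_toBase, ← Category.assoc, hl, Category.assoc]
    exact (MP99.goodAt_isLocal _ _).res W.ι _ hk
  have hmem : l ⟨z, hzW⟩ ∈ O 𝔞 j i :=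
    range_subset_chartOpen (p 𝔞 j) (cartier_p 𝔞 j) i.2 l hl' ⟨z, hzW⟩
  refine ⟨toOther 𝔞 j i ⟨l ⟨z, hzW⟩, hmem⟩, ?_⟩
  change (toOther 𝔞 j i ≫ chart 𝔞 i) ⟨l ⟨z, hzW⟩, hmem⟩ = k z
  rw [chart_glue]
  change (l ≫ chart 𝔞 j) ⟨z, hzW⟩ = k z
  rw [hl]
  rfl

theorem hom_ext {Z : Scheme.{u}} (k k' : Z ⟶ (data 𝔞).glued)
    (hk : BlowUp.IsEffCartierIdeal ((FSch.idealSpec A 𝔞).comap (k ≫ toBase 𝔞)))
    (e : k ≫ toBase 𝔞 = k' ≫ toBase 𝔞) : k = k' := by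
  refine hom_ext_opens (fun i : Idx 𝔞 => chartOpen (k ≫ toBase 𝔞) 𝔞 i.1) ?_ fun i => ?_
  · refine top_unique fun z _ => ?_
    obtain ⟨a, ha, hz⟩ := exists_mem_chartOpen (k ≫ toBase 𝔞) hk z
    exact Opens.mem_iSup.2 ⟨⟨a, ha⟩, hz⟩
  · set W := chartOpen (k ≫ toBase 𝔞) 𝔞 i.1
    have hW : ChartPred A 𝔞 i.1 _ (W.ι ≫ k ≫ toBase 𝔞) := chartPred_chartOpen _ hk i.2
    have main : ∀ k'' : Z ⟶ (data 𝔞).glued, k'' ≫ toBase 𝔞 = k ≫ toBase 𝔞 →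
        ∃ l, l ≫ chart 𝔞 i = W.ι ≫ k'' ∧ l ≫ p 𝔞 i = W.ι ≫ k ≫ toBase 𝔞 := by
      intro k'' e''
      obtain ⟨l, hl⟩ := exists_factor (chart 𝔞 i) k'' W fun z hz =>
        apply_mem_range_chart 𝔞 (W.ι ≫ k'') i (by rw [Category.assoc, e'']; exact hW) ⟨z, hz⟩
      exact ⟨l, hl, by rw [← chart_toBase, ← Category.assoc, hl, Category.assoc, e'']⟩
    obtain ⟨l, hl, hlp⟩ := main k rfl
    obtain ⟨l', hl', hlp'⟩ := main k' e.symm
    rw [← hl, ← hl', (isRep_chart.2 _ _ hW).unique hlp hlp']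

theorem isBlowUp : BlowUp.IsBlowUp (toBase 𝔞) (FSch.idealSpec A 𝔞) := by
  refine ⟨MP99.isEffCartier_of_local fun y => ?_, fun Z g hg => ?_⟩
  · obtain ⟨i, z, hz⟩ : ∃ (i : Idx 𝔞) (z : Y 𝔞 i), chart 𝔞 i z = y :=
      (data 𝔞).ι_jointly_surjective y
    refine ⟨(chart 𝔞 i).opensRange, ⟨z, hz⟩, ?_⟩
    rw [← (chart 𝔞 i).isoOpensRange_inv_comp, Scheme.IdealSheafData.comap_comp,
      ← Scheme.IdealSheafData.comap_comp _ (chart 𝔞 i), chart_toBase]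
    exact MP99.isEffCartier_comap_isOpenImmersion (cartier_p 𝔞 i) _
  · have hl : ∀ i : Idx 𝔞, ∃ l : (chartOpen g 𝔞 i.1).toScheme ⟶ (data 𝔞).glued,
        l ≫ toBase 𝔞 = (chartOpen g 𝔞 i.1).ι ≫ g := fun i => by
      obtain ⟨l, hl, -⟩ := isRep_chart.2 _ _ (chartPred_chartOpen g hg i.2)
      exact ⟨l ≫ chart 𝔞 i, by rw [Category.assoc, chart_toBase]; exact hl⟩
    choose l hl using hl
    have hcov : ⨆ i : Idx 𝔞, chartOpen g 𝔞 i.1 = ⊤ := top_unique fun z _ => by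
      obtain ⟨a, ha, hz⟩ := exists_mem_chartOpen g hg z
      exact Opens.mem_iSup.2 ⟨⟨a, ha⟩, hz⟩
    obtain ⟨k, hk⟩ := exists_glue_opens _ hcov l fun i j => by
      refine hom_ext 𝔞 _ _ ?_ ?_
      · rw [Category.assoc, hl, Scheme.homOfLE_ι_assoc, Scheme.IdealSheafData.comap_comp]
        exact MP99.isEffCartier_comap_isOpenImmersion hg _
      · rw [Category.assoc, Category.assoc, hl, hl, Scheme.homOfLE_ι_assoc, Scheme.homOfLE_ι_assoc]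
    have hkg : k ≫ toBase 𝔞 = g := hom_ext_opens _ hcov fun i => by
      rw [← Category.assoc, hk, hl]
    exact ⟨k, hkg, fun k' hk' => hom_ext 𝔞 k' k (by rw [hk']; exact hg) (hk'.trans hkg.symm)⟩

end Glue

/-- Blow-ups of affine schemes exist. -/
theorem exists_isBlowUp_spec : ∃ (P : Scheme.{u}) (π : P ⟶ Spec (CommRingCat.of A)),
    BlowUp.IsBlowUp π (FSch.idealSpec A 𝔞) :=
  ⟨_, Glue.toBase 𝔞, Glue.isBlowUp 𝔞⟩

end Groth.Agent.FBlow13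

namespace Groth.Agent.FBlow13

/-- Blow-ups of schemes exist. -/
theorem exists_isBlowUp_scheme (X : Scheme.{u}) (𝓘 : X.IdealSheafData) :
    ∃ (X' : Scheme.{u}) (b : X' ⟶ X), BlowUp.IsBlowUp b 𝓘 := by
  let P : MP99.Pred X := fun _ g => BlowUp.IsEffCartierIdeal (𝓘.comap g)
  have hP : P.IsLocal :=
    { res := fun {Z W} j _ g hg => by
        change BlowUp.IsEffCartierIdeal _
        rw [Scheme.IdealSheafData.comap_comp]
        exact MP99.isEffCartier_comap_isOpenImmersion hg j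
      glue := fun {Z} g hg => MP99.isEffCartier_of_local fun x => by
        obtain ⟨W, hxW, hW⟩ := hg x
        exact ⟨W, hxW, by rw [← Scheme.IdealSheafData.comap_comp]; exact hW⟩ }
  refine MP99.Rep.exists_isRep (P := P) hP fun x => ?_
  obtain ⟨U, hxU, -⟩ := MP99.exists_affine_le x (W := ⊤) trivial
  have : IsAffine U.1.toScheme := U.2
  let e : Spec (CommRingCat.of Γ(U.1.toScheme, ⊤)) ≅ U.1.toScheme := U.1.toScheme.isoSpec.symm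
  let K := (𝓘.comap U.1.ι).comap e.hom
  obtain ⟨Y, π, hπ⟩ := exists_isBlowUp_spec (An92.FSch.toIdeal K)
  rw [An92.FSch.toIdeal_injective (An92.FSch.toIdeal_idealSpec _ _)] at hπ
  refine ⟨⟨U.1, _, π ≫ e.hom, MP99.isRep_comp_iso (P := MP99.Pred.pull P U.1.ι) e π ⟨?_, fun Z g hg => ?_⟩⟩, hxU⟩
  · change BlowUp.IsEffCartierIdeal _
    rw [Scheme.IdealSheafData.comap_comp, Scheme.IdealSheafData.comap_comp _ π e.hom]
    exact hπ.1
  · refine hπ.2 Z g ?_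
    have h' : BlowUp.IsEffCartierIdeal (𝓘.comap ((g ≫ e.hom) ≫ U.1.ι)) := hg
    rwa [Scheme.IdealSheafData.comap_comp, Scheme.IdealSheafData.comap_comp _ g e.hom] at h'

end Groth.Agent.FBlow13
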