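import Groth.Agent.FBlow13.UP
import Groth.Agent.An92.FSch.Thick
import Groth.Agent.An92.FSch.Spf
import Groth.Agent.S0440
import Groth.Agent.S2291

/-!
Formal systems adic over `Spec R` for an ideal `I`: levels over affine opens, completeness of the
rings of sections, surjectivity and kernels of the projections to the levels.
-/

set_option autoImplicit false

universe u

open CategoryTheory CategoryTheory.Limits AlgebraicGeometry TopologicalSpace Opposite

namespace Groth.Agent.FBlow13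

open _root_.FSch

variable {𝔛 : Sys.{u}} {h : 𝔛.IsFormal}

theorem lvU_zero (U : (𝔛.X 0).Opens) : 𝔛.lvU h 0 U = U := by
  change (Opens.map (𝔛.gInv h 0)).obj U = U
  have h0 : 𝔛.gInv h 0 = 𝟙 _ := by
    have := 𝔛.toX_base_gInv h 0
    simpa [Sys.toX] using this
  rw [h0]
  rfl

theorem toX_preimage_lvU (n : ℕ) (U : (𝔛.X 0).Opens) : 𝔛.toX n ⁻¹ᵁ 𝔛.lvU h n U = U := by
  change (Opens.map ((𝔛.toX n).base ≫ 𝔛.gInv h n)).obj U = U
  rw [𝔛.toX_base_gInv]
  rfl

/-- The levels over an affine open are affine. -/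
theorem isAffineOpen_lvU {U : (𝔛.X 0).Opens} (hU : IsAffineOpen U) (n : ℕ) :
    IsAffineOpen (𝔛.lvU h n U) := by
  have := 𝔛.toX_isClosedImmersion h n
  have : IsAffine (𝔛.toX n ⁻¹ᵁ 𝔛.lvU h n U).toScheme := by
    rw [toX_preimage_lvU n U]
    exact hU
  have : IsClosedImmersion (𝔛.toX n ∣_ 𝔛.lvU h n U) :=
    MorphismProperty.of_isPullback (isPullback_morphismRestrict (𝔛.toX n) (𝔛.lvU h n U)).flip
      inferInstance
  refine S0440.result (𝔛.toX n ∣_ 𝔛.lvU h n U) fun z => ?_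
  obtain ⟨y, hy⟩ := 𝔛.toX_surjective h n z.1
  refine ⟨⟨y, show (𝔛.toX n).base y ∈ 𝔛.lvU h n U from hy ▸ z.2⟩, Subtype.ext ?_⟩
  exact (morphismRestrict_base_coe _ _ _).trans hy

theorem appLE_of_eq {X Y : Scheme.{u}} (f : X ⟶ Y) {V : Y.Opens} {W : X.Opens} (e : W = f ⁻¹ᵁ V)
    (hle : W ≤ f ⁻¹ᵁ V) :
    (∀ t, Function.Surjective (f.app V) → ∃ s, f.appLE V W hle s = t) ∧
      RingHom.ker (f.appLE V W hle).hom = RingHom.ker (f.app V).hom := by
  subst e
  rw [← Scheme.Hom.app_eq_appLE f]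
  exact ⟨fun t hs => hs t, rfl⟩

theorem appLE_ι_surjective {U : (𝔛.X 0).Opens} (hU : IsAffineOpen U) (n : ℕ) :
    Function.Surjective ((𝔛.ι n).appLE (𝔛.lvU h (n + 1) U) (𝔛.lvU h n U) (𝔛.lvU_le h n U)) :=
  fun t => (appLE_of_eq (𝔛.ι n) (𝔛.lvU_succ h n U).symm _).1 t
    (haveI := (h n).1; (𝔛.ι n).app_surjective _ (isAffineOpen_lvU hU (n + 1)))

variable {R : CommRingCat.{u}} (I : Ideal R) (q : ∀ n, 𝔛.X n ⟶ Spec R)
  (hq : ∀ n, 𝔛.ι n ≫ q (n + 1) = q n)

/-- The system is adic over `Spec R` for the ideal `I`. -/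
def AdicOver : Prop :=
  ∀ n, (𝔛.ι n).ker = (idealSpec R (I ^ (n + 1))).comap (q (n + 1))

variable (h) in
/-- The structure map of the sections over `U`. -/
noncomputable def strHom (U : (𝔛.X 0).Opens) : R ⟶ Sec 𝔛 h U :=
  famHom h q hq ≫ res 𝔛 h le_top

theorem strHom_res {U V : (𝔛.X 0).Opens} (i : V ≤ U) :
    strHom h q hq U ≫ res 𝔛 h i = strHom h q hq V := by
  rw [strHom, strHom, Category.assoc]
  congr 1
  exact ((𝔛.Osh h).obj.map_comp _ _).symm

set_option backward.isDefEq.respectTransparency false in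
theorem strHom_proj (U : (𝔛.X 0).Opens) (n : ℕ) :
    strHom h q hq U ≫ proj 𝔛 h U n =
      (Scheme.ΓSpecIso R).inv ≫ (q n).appLE ⊤ (𝔛.lvU h n U) le_top := by
  rw [strHom, Category.assoc, proj_res, ← Category.assoc, famHom_proj, Category.assoc]
  congr 1

variable {I q hq}

theorem ker_appLE_ι (hA : AdicOver I q) {U : (𝔛.X 0).Opens} (hU : IsAffineOpen U) (n : ℕ) :
    RingHom.ker ((𝔛.ι n).appLE (𝔛.lvU h (n + 1) U) (𝔛.lvU h n U) (𝔛.lvU_le h n U)).hom =
      (I ^ (n + 1)).map (strHom h q hq U ≫ proj 𝔛 h U (n + 1)).hom := by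
  have := (h n).1
  rw [(appLE_of_eq (𝔛.ι n) (𝔛.lvU_succ h n U).symm (𝔛.lvU_le h n U)).2]
  have e1 := Scheme.Hom.ker_apply (𝔛.ι n) ⟨_, isAffineOpen_lvU (h := h) hU (n + 1)⟩
  rw [← e1, hA n, MP99.ideal_comap _ (q (n + 1)) ⟨⊤, isAffineOpen_top _⟩
    ⟨_, isAffineOpen_lvU (h := h) hU (n + 1)⟩ le_top, eq_of_ideal_top,
    An92.FSch.toIdeal_idealSpec, Ideal.map_map, ← CommRingCat.hom_comp, strHom_proj]
  rfl

/-- Surjectivity, kernels and completeness for sections over affine opens. -/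
theorem sec_affine (hA : AdicOver I q) (hI : I.FG) {U : (𝔛.X 0).Opens} (hU : IsAffineOpen U) :
    (∀ n, Function.Surjective (proj 𝔛 h U n) ∧
      RingHom.ker (proj 𝔛 h U n).hom = (I ^ (n + 1)).map (strHom h q hq U).hom) ∧
      IsAdicComplete (I.map (strHom h q hq U).hom) (Sec 𝔛 h U) := by
  algebraize [(strHom h q hq U).hom]
  let instM : ∀ n, Algebra R Γ(𝔛.X n, 𝔛.lvU h n U) := fun n =>
    (strHom h q hq U ≫ proj 𝔛 h U n).hom.toAlgebra
  let f : ∀ n, Γ(𝔛.X (n + 1), 𝔛.lvU h (n + 1) U) →ₐ[R] Γ(𝔛.X n, 𝔛.lvU h n U) := fun n =>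
    { ((𝔛.ι n).appLE (𝔛.lvU h (n + 1) U) (𝔛.lvU h n U) (𝔛.lvU_le h n U)).hom with
      commutes' := fun r => proj_succ_apply U n (strHom h q hq U r) }
  let π : ∀ n, Sec 𝔛 h U →ₐ[R] Γ(𝔛.X n, 𝔛.lvU h n U) := fun n =>
    { (proj 𝔛 h U n).hom with commutes' := fun r => rfl }
  have key := S2291.result R I hI (fun n => Γ(𝔛.X n, 𝔛.lvU h n U)) (fun n => (f n).toLinearMap)
    (fun n => appLE_ι_surjective hU n) (fun n => ?_) (Sec 𝔛 h U) (fun n => (π n).toLinearMap)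
    (fun n => LinearMap.ext fun s => proj_succ_apply U n s)
    (fun x hx => sec_ext fun n => (hx n).trans (map_zero (proj 𝔛 h U n).hom).symm)
    (fun y hy => exists_sec U y hy)
  · refine ⟨fun n => ⟨(key.2.1 n).1, ?_⟩, (IsAdicComplete.map_algebraMap_iff _ _).2 key.1⟩
    refine SetLike.ext fun x => (SetLike.ext_iff.1 (key.2.1 n).2 x).trans ?_
    rw [Ideal.smul_top_eq_map]
    rfl
  · refine SetLike.ext fun x => (SetLike.ext_iff.1 (ker_appLE_ι (hq := hq) hA hU n) x).trans ?_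
    rw [Ideal.smul_top_eq_map]
    rfl

/-- An adic morphism to a formal spectrum makes a system adic over the spectrum. -/
theorem adicOver_of_isAdicHom {A : Type u} [CommRing A] (K : Ideal A)
    (p : 𝔛 ⟶ FSch.spf A K) (hp : IsAdicHom p) :
    AdicOver (R := CommRingCat.of A) K (fun n => (p : Hom _ _).app n ≫ spfToSpec A K n) := fun n => by
  rw [An92.FSch.comap_ker_ι (An92.FSch.isFormal_spf K) hp n, Scheme.IdealSheafData.comap_comp]
  congr 1
  refine An92.FSch.toIdeal_injective (R := CommRingCat.of (A ⧸ K ^ (n + 1 + 1))) ?_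
  rw [An92.FSch.toIdeal_ker_ι]
  refine Eq.symm ((An92.FSch.toIdeal_comap _ (CommRingCat.ofHom (Ideal.Quotient.mk _))).trans ?_)
  rw [An92.FSch.toIdeal_idealSpec]
  rfl

theorem adicHom_fam_comm {A : Type u} [CommRing A] (K : Ideal A) (p : 𝔛 ⟶ FSch.spf A K) (n : ℕ) :
    𝔛.ι n ≫ (p : Hom _ _).app (n + 1) ≫ spfToSpec A K (n + 1) =
      (p : Hom _ _).app n ≫ spfToSpec A K n := by
  rw [← Category.assoc, ← (p : Hom _ _).comm n, Category.assoc, spfToSpec_comm]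

end Groth.Agent.FBlow13
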