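import Groth.Agent.FBlow13.OpenImm

/-!
Absence of torsion for the ideal of definition.
-/

set_option autoImplicit false

universe u

open CategoryTheory CategoryTheory.Limits AlgebraicGeometry TopologicalSpace Opposite

namespace Groth.Agent.FBlow13

open _root_.FSch

variable {R : Type u} [CommRing R] {I : Ideal R} {𝔛 𝔜 : Sys.{u}} {h : 𝔛.IsFormal} {hY : 𝔜.IsFormal}
  {p : 𝔛 ⟶ FSch.spf R I}

set_option backward.isDefEq.respectTransparency false in
/-- The structure maps of sections are compatible with morphisms. -/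
theorem baseSec_sharpLE (f : 𝔜 ⟶ 𝔛) {U : (𝔛.X 0).Opens} {V : (𝔜.X 0).Opens}
    (e : V ≤ (f : Hom 𝔜 𝔛).app 0 ⁻¹ᵁ U) :
    baseSec h p U ≫ sharpLE (hY := hY) (h := h) f e = baseSec hY (f ≫ p) V := by
  refine hom_ext_sec fun n => ?_
  rw [Category.assoc, sharpLE_proj, ← Category.assoc, strHom_proj, Category.assoc, strHom_proj,
    Scheme.Hom.appLE_comp_appLE]
  simp only [comp_app, Category.assoc]

theorem baseSec_res {U V : (𝔛.X 0).Opens} (i : V ≤ U) (r : R) :
    res 𝔛 h i (baseSec h p U r) = baseSec h p V r :=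
  congrArg (fun φ : CommRingCat.of R ⟶ _ => φ r) (strHom_res (h := h) _ _ i)

/-- No section is annihilated by the ideal of definition of the base. -/
def NoBaseTors (h : 𝔛.IsFormal) (p : 𝔛 ⟶ FSch.spf R I) : Prop :=
  ∀ (U : (𝔛.X 0).Opens) (s : Sec 𝔛 h U), (∀ t ∈ I, baseSec h p U t * s = 0) → s = 0

/-- On an affine open the hypothesis on the kernels gives the absence of torsion. -/
theorem noBaseTors_of_htf (hp : IsAdicHom p) (hR : AdicRing.IsBase R I)
    (htf : ∀ (U : (𝔛.X 0).Opens) (s : (𝔛.Osh h).obj.obj (op U)),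
      (∀ a ∈ (FBlow.IdealSh.ker (𝔛.OshProj h 0)).sect U, a * s = 0) → s = 0) :
    NoBaseTors h p := by
  intro U s hs
  refine (FBlow.IdealSh.bot (𝔛.Osh h)).mem_of_local (s := s) fun x hx => ?_
  obtain ⟨W, hxW, hW⟩ := MP99.exists_affine_le x (W := U) hx
  refine ⟨W.1, hW, hxW, ?_⟩
  change res 𝔛 h hW s = 0
  refine noPowTorsion_sec hp hR htf W.2 _ 1 fun a ha => ?_
  rw [pow_one] at ha
  rw [← baseSec_res hW, ← map_mul, hs a ha, map_zero]

theorem baseSec_mem_ker (hp : IsAdicHom p) (hR : AdicRing.IsBase R I) (U : (𝔛.X 0).Opens) {t : R}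
    (ht : t ∈ I) : baseSec h p U t ∈ (FBlow.IdealSh.ker (𝔛.OshProj h 0)).sect U := by
  refine FBlow.IdealSh.mem_of_local _ fun x hx => ?_
  obtain ⟨W, hxW, hW⟩ := MP99.exists_affine_le x (W := U) hx
  refine ⟨W.1, hW, hxW, ?_⟩
  change res 𝔛 h hW (baseSec h p U t) ∈ _
  rw [baseSec_res, ker_sect_eq hp hR W.2]
  exact Ideal.mem_map_of_mem _ ht

theorem htf_of_noBaseTors (hp : IsAdicHom p) (hR : AdicRing.IsBase R I) (hN : NoBaseTors h p)
    (U : (𝔛.X 0).Opens) (s : (𝔛.Osh h).obj.obj (op U))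
    (hs : ∀ a ∈ (FBlow.IdealSh.ker (𝔛.OshProj h 0)).sect U, a * s = 0) : s = 0 :=
  hN U s fun _ ht => hs _ (baseSec_mem_ker hp hR U ht)

/-- The absence of torsion is local. -/
theorem noBaseTors_of_openImm (hloc : ∀ x : 𝔛.X 0, ∃ (𝔓 : Sys.{u}) (hP : 𝔓.IsFormal) (k : 𝔓 ⟶ 𝔛),
    OpenImm k ∧ NoBaseTors hP (k ≫ p) ∧ x ∈ Set.range ((k : Hom 𝔓 𝔛).app 0)) : NoBaseTors h p := by
  intro U s hs
  refine (FBlow.IdealSh.bot (𝔛.Osh h)).mem_of_local (s := s) fun x hx => ?_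
  obtain ⟨𝔓, hP, k, hk, hN, y, rfl⟩ := hloc x
  refine ⟨hk.img ((k : Hom 𝔓 𝔛).app 0 ⁻¹ᵁ U), hk.img_le le_rfl, ⟨y, hx, rfl⟩, ?_⟩
  change res 𝔛 h (hk.img_le le_rfl) s = 0
  refine (hk.sharpLE_bijective (hY := hP) (h := h) _).1 ?_
  rw [map_zero, sharpLE_res_left]
  refine hN _ _ fun t ht => ?_
  rw [← baseSec_sharpLE (h := h) k le_rfl]
  rw [CommRingCat.comp_apply]
  erw [← map_mul, hs t ht, map_zero]

variable {A : Type u} [CommRing A] [Algebra R A] {P : Scheme.{u}} {π : P ⟶ Spec (CommRingCat.of A)}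
  {d : ∀ n, 𝔛.X n ⟶ P} (hd : ∀ n, 𝔛.ι n ≫ d (n + 1) = d n)

set_option backward.isDefEq.respectTransparency false in
/-- The structure map of sections of a completion factors through the functions of the scheme. -/
theorem baseSec_compSec
    (hq : ∀ n, (p : Hom 𝔛 (FSch.spf R I)).app n ≫ spfToSpec R I n =
      d n ≫ π ≫ Spec.map (CommRingCat.ofHom (algebraMap R A))) (Q : P.Opens) :
    baseSec h p (d 0 ⁻¹ᵁ Q) =
      CommRingCat.ofHom (algebraMap R A) ≫ baseHom π Q ≫ compSec (h := h) hd Q := by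
  refine hom_ext_sec fun n => ?_
  rw [strHom_proj, Category.assoc, Category.assoc, compSec_proj, baseHom, Category.assoc,
    Scheme.Hom.appLE_comp_appLE, Scheme.ΓSpecIso_inv_naturality_assoc]
  congr 1
  have key : ∀ {f g : 𝔛.X n ⟶ Spec (CommRingCat.of R)} (_ : f = g)
      (e₁ : 𝔛.lvU h n (d 0 ⁻¹ᵁ Q) ≤ f ⁻¹ᵁ ⊤) (e₂ : 𝔛.lvU h n (d 0 ⁻¹ᵁ Q) ≤ g ⁻¹ᵁ ⊤),
      f.appLE ⊤ (𝔛.lvU h n (d 0 ⁻¹ᵁ Q)) e₁ = g.appLE ⊤ (𝔛.lvU h n (d 0 ⁻¹ᵁ Q)) e₂ := by
    rintro f g rfl e₁ e₂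
    rfl
  refine (key (hq n) _ le_top).trans ?_
  refine (key (Category.assoc (d n) π _).symm le_top le_top).trans ?_
  exact Scheme.Hom.comp_appLE (d n ≫ π) _ ⊤ _ _

include hd in
/-- A completion has no torsion if the scheme has none on a basis of affine opens of finite type. -/
theorem IsComplOf.noBaseTors (hC : IsComplOf I π d) (hR : AdicRing.IsBase R I)
    (hA : AdicRing.TopFiniteType R I A)
    (hq : ∀ n, (p : Hom 𝔛 (FSch.spf R I)).app n ≫ spfToSpec R I n =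
      d n ≫ π ≫ Spec.map (CommRingCat.ofHom (algebraMap R A)))
    (hP : ∀ (z : P) (O : P.Opens), z ∈ O → ∃ Q : P.Opens, z ∈ Q ∧ Q ≤ O ∧ FTOpen π Q ∧
      ∀ x : Γ(P, Q), (∀ t ∈ I, baseHom π Q (algebraMap R A t) * x = 0) → x = 0) :
    NoBaseTors h p := by
  intro U s hs
  refine (FBlow.IdealSh.bot (𝔛.Osh h)).mem_of_local (s := s) fun y hy => ?_
  have := hC.isClosedImmersion 0
  obtain ⟨O, hO, hOU⟩ := (d 0).isClosedEmbedding.isInducing.isOpen_iff.1 U.isOpen
  obtain ⟨Q, hyQ, hQO, hQ, hinj⟩ := hP (d 0 y) ⟨O, hO⟩ (show d 0 y ∈ O from hOU.ge hy)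
  have hle : d 0 ⁻¹ᵁ Q ≤ U := fun z hz => hOU.le (hQO hz)
  refine ⟨d 0 ⁻¹ᵁ Q, hle, hyQ, ?_⟩
  change res 𝔛 h hle s = 0
  obtain ⟨m, t, ht⟩ := Submodule.fg_iff_exists_fin_generating_family.1 (Frg27.base_fg hR)
  refine hC.eq_zero_of_joint hd hR hA hQ.1 hQ.2 (ι := Fin m)
    (fun j => baseHom π Q (algebraMap R A (t j))) (fun x hx => hinj x fun r hr => ?_) _ fun j => ?_
  · rw [← ht] at hr
    induction hr using Submodule.span_induction with
    | mem r hr => obtain ⟨j, rfl⟩ := hr; exact hx j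
    | zero => rw [map_zero, map_zero, zero_mul]
    | add a b _ _ ha hb => rw [map_add, map_add, add_mul, ha, hb, add_zero]
    | smul c a _ ha => rw [smul_eq_mul, map_mul, map_mul, mul_assoc, ha, mul_zero]
  · have h1 := congrArg (fun φ => φ (t j)) (baseSec_compSec (h := h) hd hq Q)
    refine (congrArg (· * res 𝔛 h hle s) h1).symm.trans ?_
    show baseSec h p (d 0 ⁻¹ᵁ Q) (t j) * res 𝔛 h hle s = 0
    rw [← baseSec_res hle, ← map_mul, hs _ (ht ▸ Submodule.subset_span ⟨j, rfl⟩), map_zero]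

/-- Affine blow-up algebras inherit the absence of torsion. -/
theorem affineAlgebra_noTors (hA : AdicRing.NoPowTorsion I A) (hI : I.FG) (𝔞 : Ideal A) (a : A)
    (x : BlowUp.affineAlgebra A 𝔞 a)
    (hx : ∀ t ∈ I, algebraMap A (BlowUp.affineAlgebra A 𝔞 a) (algebraMap R A t) * x = 0) :
    x = 0 := by
  obtain ⟨⟨r, ⟨_, n, rfl⟩⟩, hr⟩ :=
    IsLocalization.surj (Submonoid.powers a) (x : Localization.Away a)
  have h0 : x * algebraMap A (BlowUp.affineAlgebra A 𝔞 a) (a ^ n) =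
      algebraMap A (BlowUp.affineAlgebra A 𝔞 a) r := Subtype.ext hr
  obtain ⟨m, t, ht⟩ := Submodule.fg_iff_exists_fin_generating_family.1 hI
  have hk : ∀ j, ∃ k : ℕ, a ^ k * (algebraMap R A (t j) * r) = 0 := fun j => by
    have h1 : algebraMap A (BlowUp.affineAlgebra A 𝔞 a) (algebraMap R A (t j) * r) = 0 := by
      rw [map_mul, ← h0, ← mul_assoc, hx _ (ht ▸ Submodule.subset_span ⟨j, rfl⟩), zero_mul]
    obtain ⟨⟨_, k, rfl⟩, hk⟩ := (IsLocalization.map_eq_zero_iff (Submonoid.powers a)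
      (Localization.Away a) _).1 (congrArg Subtype.val h1)
    exact ⟨k, hk⟩
  choose k hk using hk
  have h2 : a ^ (∑ j, k j) * r = 0 := by
    refine hA _ 1 fun c hc => ?_
    rw [pow_one, ← ht] at hc
    induction hc using Submodule.span_induction with
    | mem c hc =>
      obtain ⟨j, rfl⟩ := hc
      rw [Algebra.smul_def, ← Nat.add_sub_of_le (Finset.single_le_sum (fun i _ => Nat.zero_le (k i))
        (Finset.mem_univ j) : k j ≤ ∑ i, k i), pow_add]
      linear_combination (a ^ ((∑ i, k i) - k j)) * hk j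
    | zero => rw [zero_smul]
    | add c c' _ _ hc hc' => rw [add_smul, hc, hc', add_zero]
    | smul b c _ hc => rw [smul_eq_mul, mul_smul, hc, smul_zero]
  refine mem_nonZeroDivisors_iff_right.1
    (mul_mem (pow_mem (affineAlgebra_nzd (𝔞 := 𝔞) a) (∑ j, k j)) (pow_mem (affineAlgebra_nzd a) n)) x ?_
  rw [← map_pow, ← map_pow] at *
  rw [mul_left_comm, h0, ← map_mul, h2, map_zero]

/-- The blow-up of a ring without torsion has a basis of affine opens without torsion. -/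
theorem exists_ftOpen_noTors (hA : AdicRing.NoPowTorsion I A) (hI : I.FG) {𝔞 : Ideal A}
    (h𝔞 : 𝔞.FG) (hπ : BlowUp.IsBlowUp π (idealSpec A 𝔞)) (z : P) (O : P.Opens) (hz : z ∈ O) :
    ∃ Q : P.Opens, z ∈ Q ∧ Q ≤ O ∧ FTOpen π Q ∧
      ∀ x : Γ(P, Q), (∀ t ∈ I, baseHom π Q (algebraMap R A t) * x = 0) → x = 0 := by
  obtain ⟨a, ha, hza⟩ := exists_mem_chartOpen π hπ.1 z
  obtain ⟨ε, hε⟩ := exists_iso_sections π hπ ha
  have hQ := ftOpen_chartOpen π hπ h𝔞 ha
  obtain ⟨g, hgO, hzg⟩ := hQ.1.exists_basicOpen_le ⟨z, hz⟩ hza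
  refine ⟨P.basicOpen g, hzg, hgO, ⟨hQ.1.basicOpen g, ?_⟩, fun x hx => ?_⟩
  · have := hQ.1.isLocalization_basicOpen g
    rw [← baseHom_res (P.basicOpen_le g), CommRingCat.hom_comp]
    exact RingHom.FiniteType.comp (RingHom.finiteType_algebraMap.2
      (IsLocalization.finiteType_of_monoid_fg (Submonoid.powers g) _)) hQ.2
  · have := hQ.1.isLocalization_basicOpen g
    obtain ⟨⟨y, ⟨_, m, rfl⟩⟩, hy⟩ := IsLocalization.surj (Submonoid.powers g) x
    let ψ := P.presheaf.map (homOfLE (P.basicOpen_le g)).op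
    have hy' : x * ψ (g ^ m) = ψ y := hy
    have hb : ∀ r : A, ψ (baseHom π (chartOpen π 𝔞 a) r) = baseHom π (P.basicOpen g) r := fun r =>
      congrArg (fun φ => φ r) (baseHom_res (π := π) (P.basicOpen_le g))
    obtain ⟨l, t, ht⟩ := Submodule.fg_iff_exists_fin_generating_family.1 hI
    have hk : ∀ j, ∃ k : ℕ,
        g ^ k * (baseHom π (chartOpen π 𝔞 a) (algebraMap R A (t j)) * y) = 0 := fun j => by
      have h1 : ψ (baseHom π (chartOpen π 𝔞 a) (algebraMap R A (t j)) * y) = 0 := by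
        rw [map_mul, hb, ← hy', ← mul_assoc, hx _ (ht ▸ Submodule.subset_span ⟨j, rfl⟩), zero_mul]
      obtain ⟨⟨_, k, rfl⟩, hk⟩ := (IsLocalization.map_eq_zero_iff (Submonoid.powers g)
        Γ(P, P.basicOpen g) _).1 h1
      exact ⟨k, hk⟩
    choose k hk using hk
    have h2 : ε.symm (g ^ (∑ j, k j) * y) = 0 := by
      refine affineAlgebra_noTors hA hI 𝔞 a _ fun c hc => ε.injective ?_
      rw [map_mul, hε, ε.apply_symm_apply, map_zero]
      rw [← ht] at hc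
      induction hc using Submodule.span_induction with
      | mem c hc =>
        obtain ⟨j, rfl⟩ := hc
        rw [← Nat.add_sub_of_le (Finset.single_le_sum (fun i _ => Nat.zero_le (k i))
          (Finset.mem_univ j) : k j ≤ ∑ i, k i), pow_add]
        linear_combination (g ^ ((∑ i, k i) - k j)) * hk j
      | zero => rw [map_zero, map_zero, zero_mul]
      | add c c' _ _ hc hc' => rw [map_add, map_add, add_mul, hc, hc', add_zero]
      | smul b c _ hc => rw [smul_eq_mul, map_mul, map_mul, mul_assoc, hc, mul_zero]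
    replace h2 := congrArg ε h2
    rw [ε.apply_symm_apply, map_zero] at h2
    have h3 := congrArg ψ h2
    rw [map_mul, map_zero, ← hy'] at h3
    have hu : IsUnit (ψ g) :=
      IsLocalization.map_units (M := Submonoid.powers g) Γ(P, P.basicOpen g) ⟨g, Submonoid.mem_powers g⟩
    refine ((hu.pow (∑ j, k j)).mul (hu.pow m)).mul_left_eq_zero.1 ?_
    rw [← map_pow, ← map_pow, mul_left_comm]
    exact h3

end Groth.Agent.FBlow13
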