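import Groth.Agent.FBlow13.ExistAdm
import Groth.Agent.FBlow13.Torsion
import Groth.Agent.S11525

/-!
Local models of admissible formal blow-ups; they are admissible formal schemes.
-/

set_option autoImplicit false

universe u

open CategoryTheory CategoryTheory.Limits AlgebraicGeometry TopologicalSpace Opposite

namespace Groth.Agent.FBlow13

open _root_.FSch

variable {R : Type u} [CommRing R] {I : Ideal R} {𝔛 : Sys.{u}} {h : 𝔛.IsFormal}
  {p : 𝔛 ⟶ FSch.spf R I}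

/-- Near every point the ideal sheaf is generated over an affine open by a finitely generated ideal
of sections. -/
def LocFG (h : 𝔛.IsFormal) (J : FBlow.IdealSh (𝔛.Osh h)) : Prop :=
  ∀ x : 𝔛.X 0, ∀ O : (𝔛.X 0).Opens, x ∈ O → ∃ U : (𝔛.X 0).Opens, IsAffineOpen U ∧ x ∈ U ∧ U ≤ O ∧
    ∃ 𝔞 : Ideal (Sec 𝔛 h U), GenOn J U (𝔞 : Set (Sec 𝔛 h U)) ∧ 𝔞.FG

theorem locFG_of_isCohOpen (hp : IsAdicHom p) (hR : AdicRing.IsBase R I)
    {J : FBlow.IdealSh (𝔛.Osh h)} (hJ : FBlow.IsCohOpen 𝔛 h J) : LocFG h J := fun x O hxO =>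
  have ⟨U, hU, hxU, hUO, hgen, hfg, _⟩ := exists_affine_genOn hp hR hJ x hxO
  ⟨U, hU, hxU, hUO, J.sect U, hgen, hfg⟩

theorem LocFG.idealMap {𝔜 : Sys.{u}} {hY : 𝔜.IsFormal} (f : 𝔜 ⟶ 𝔛) {J : FBlow.IdealSh (𝔛.Osh h)}
    (hJ : LocFG h J) : LocFG hY (FBlow.idealMap f hY h J) := fun y O hyO => by
  obtain ⟨U, -, hxU, -, 𝔞, hgen, hfg⟩ := hJ ((f : Hom 𝔜 𝔛).app 0 y) ⊤ trivial
  obtain ⟨W, hyW, hW⟩ := MP99.exists_affine_le y (W := O ⊓ (f : Hom 𝔜 𝔛).app 0 ⁻¹ᵁ U) ⟨hyO, hxU⟩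
  refine ⟨W.1, W.2, hyW, hW.trans inf_le_left,
    𝔞.map (sharpLE (hY := hY) (h := h) f (hW.trans inf_le_right)).hom, ?_, hfg.map _⟩
  have h1 := (genOn_idealMap (hY := hY) f hgen).restrict (hW.trans inf_le_right)
  erw [Set.image_image] at h1
  refine h1.congr_span ?_
  rw [Ideal.span_eq, Ideal.map]
  rfl

/-- The local model over an affine open. -/
noncomputable abbrev locModel (h : 𝔛.IsFormal) (U : (𝔛.X 0).Opens) {P : Scheme.{u}}
    (π : P ⟶ Spec (Sec 𝔛 h U)) : Sys.{u} :=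
  modelSys (𝔖 := 𝔛.restrictOpen h U) (toSpecO 𝔛 h U) (toSpecO_comm U) π

/-- The morphism of the local model to the formal scheme. -/
noncomputable abbrev locModelMap (h : 𝔛.IsFormal) (U : (𝔛.X 0).Opens) {P : Scheme.{u}}
    (π : P ⟶ Spec (Sec 𝔛 h U)) : locModel h U π ⟶ 𝔛 :=
  modelProj (𝔖 := 𝔛.restrictOpen h U) (toSpecO 𝔛 h U) (toSpecO_comm U) π ≫ 𝔛.restrictOpenι h U

/-- The maps of the local model to the scheme-theoretic blow-up. -/
noncomputable abbrev locModelTo (h : 𝔛.IsFormal) (U : (𝔛.X 0).Opens) {P : Scheme.{u}}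
    (π : P ⟶ Spec (Sec 𝔛 h U)) (n : ℕ) : (locModel h U π).X n ⟶ P :=
  modelTo (𝔖 := 𝔛.restrictOpen h U) (toSpecO 𝔛 h U) (toSpecO_comm U) π n

theorem isFormal_locModel (U : (𝔛.X 0).Opens) {P : Scheme.{u}} (π : P ⟶ Spec (Sec 𝔛 h U)) :
    (locModel h U π).IsFormal :=
  isFormal_modelSys (𝔖 := 𝔛.restrictOpen h U) (toSpecO 𝔛 h U) (toSpecO_comm U) π
    (isFormal_restrictOpen h U)

theorem locModelTo_comm (U : (𝔛.X 0).Opens) {P : Scheme.{u}} (π : P ⟶ Spec (Sec 𝔛 h U)) (n : ℕ) :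
    (locModel h U π).ι n ≫ locModelTo h U π (n + 1) = locModelTo h U π n :=
  modelTo_comm (𝔖 := 𝔛.restrictOpen h U) (toSpecO 𝔛 h U) (toSpecO_comm U) π n

set_option backward.isDefEq.respectTransparency false in
/-- The local model is the completion of the blow-up. -/
theorem isComplOf_locModel (hp : IsAdicHom p) (hR : AdicRing.IsBase R I) {U : (𝔛.X 0).Opens}
    (hU : IsAffineOpen U) {P : Scheme.{u}} (π : P ⟶ Spec (Sec 𝔛 h U)) :
    letI := (baseSec h p U).hom.toAlgebra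
    IsComplOf (A := Sec 𝔛 h U) I π (locModelTo h U π) := by
  let := (baseSec h p U).hom.toAlgebra
  have hsq := fun n => modelProj_sq (𝔖 := 𝔛.restrictOpen h U) (toSpecO 𝔛 h U) (toSpecO_comm U) π n
  exact
    { isClosedImmersion := fun n => MorphismProperty.of_isPullback (hsq n)
        (isClosedImmersion_toSpecO (h := h) hp hR hU n).1
      ker_eq := fun n => by
        have := (isClosedImmersion_toSpecO (h := h) hp hR hU n).1
        rw [An92.FSch.comap_ker_of_isPullback (hsq n).flip, (isClosedImmersion_toSpecO (h := h) hp hR hU n).2]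
        rfl }

/-- A blow-up is, near every point, a local model. -/
theorem exists_locModel (hp : IsAdicHom p) (hR : AdicRing.IsBase R I)
    (hfp : ∀ n, LocallyOfFinitePresentation ((p : Hom 𝔛 (FSch.spf R I)).app n))
    (htf : ∀ (U : (𝔛.X 0).Opens) (s : (𝔛.Osh h).obj.obj (op U)),
      (∀ a ∈ (FBlow.IdealSh.ker (𝔛.OshProj h 0)).sect U, a * s = 0) → s = 0)
    {J : FBlow.IdealSh (𝔛.Osh h)} (hJ : LocFG h J) {𝔓 : Sys.{u}} {hP : 𝔓.IsFormal}
    {b : 𝔓 ⟶ 𝔛} (hb : FBlow.IsAdmBlowUp b hP h J) (y : 𝔓.X 0) :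
    ∃ (U : (𝔛.X 0).Opens) (𝔞 : Ideal (Sec 𝔛 h U)),
      IsAffineOpen U ∧ GenOn J U (𝔞 : Set (Sec 𝔛 h U)) ∧ 𝔞.FG ∧
      ∃ (P : Scheme.{u}) (π : P ⟶ Spec (Sec 𝔛 h U)),
        BlowUp.IsBlowUp π (idealSpec (Sec 𝔛 h U) 𝔞) ∧
        ∃ k : locModel h U π ⟶ 𝔓, OpenImm k ∧ k ≫ b = locModelMap h U π ∧
          y ∈ Set.range ((k : Hom _ 𝔓).app 0) := by
  obtain ⟨U, hU, hyU, -, 𝔞, hgen, hfg⟩ := hJ ((b : Hom 𝔓 𝔛).app 0 y) ⊤ trivial
  obtain ⟨P, π, hπ⟩ := exists_isBlowUp_spec 𝔞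
  refine ⟨U, 𝔞, hU, hgen, hfg, P, π, hπ, ?_⟩
  have h1 := (isBlowUpOver_top_iff.2 hb).restrict (le_top (a := U))
  have h2 := isBlowUpOver_model hp hR hfp htf hU hgen hfg π hπ
  obtain ⟨e, he⟩ := h2.exists_iso h1
  have hiso : ∀ n, IsIso ((e.hom : Hom _ _).app n) := fun n =>
    ⟨(e.inv : Hom _ _).app n, congrArg (fun t : Hom _ (locModel h U π) => t.app n) e.hom_inv_id,
      congrArg (fun t : Hom _ (𝔓.restrictOpen hP _) => t.app n) e.inv_hom_id⟩
  refine ⟨e.hom ≫ 𝔓.restrictOpenι hP _, fun n => ?_, (Category.assoc _ _ _).trans he, ?_⟩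
  · have := hiso n
    have := openImm_restrictOpenι (h := hP) ((b : Hom 𝔓 𝔛).app 0 ⁻¹ᵁ U) n
    rw [comp_app]
    infer_instance
  · have := hiso 0
    let z : (𝔓.restrictOpen hP ((b : Hom 𝔓 𝔛).app 0 ⁻¹ᵁ U)).X 0 :=
      ⟨y, (lvU_zero (h := hP) ((b : Hom 𝔓 𝔛).app 0 ⁻¹ᵁ U)).ge hyU⟩
    obtain ⟨w, hw⟩ := ((e.hom : Hom _ _).app 0).surjective z
    exact ⟨w, (Scheme.Hom.comp_apply _ _ _).trans ((congrArg _ hw).trans rfl)⟩

/-- A blow-up of a formal scheme without torsion has none. -/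
theorem noBaseTors_blowUp (hp : IsAdicHom p) (hR : AdicRing.IsBase R I)
    (hfp : ∀ n, LocallyOfFinitePresentation ((p : Hom 𝔛 (FSch.spf R I)).app n))
    (htf : ∀ (U : (𝔛.X 0).Opens) (s : (𝔛.Osh h).obj.obj (op U)),
      (∀ a ∈ (FBlow.IdealSh.ker (𝔛.OshProj h 0)).sect U, a * s = 0) → s = 0)
    {J : FBlow.IdealSh (𝔛.Osh h)} (hJ : LocFG h J) {𝔓 : Sys.{u}} {hP : 𝔓.IsFormal}
    {b : 𝔓 ⟶ 𝔛} (hb : FBlow.IsAdmBlowUp b hP h J) : NoBaseTors hP (b ≫ p) := by
  refine noBaseTors_of_openImm fun y => ?_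
  obtain ⟨U, 𝔞, hU, hgen, hfg, P, π, hπ, k, hk, hkb, hy⟩ := exists_locModel hp hR hfp htf hJ hb y
  refine ⟨_, isFormal_locModel U π, k, hk, ?_, hy⟩
  rw [← Category.assoc, hkb]
  let := (baseSec h p U).hom.toAlgebra
  have hA := admissible_sec (h := h) hp hR hfp htf hU
  have hAT : AdicRing.TopFiniteType R I (Sec 𝔛 h U) := hA.1.imp fun _ e => e.imp fun _ e => e.1
  refine (isComplOf_locModel hp hR hU π).noBaseTors (A := Sec 𝔛 h U) (locModelTo_comm U π) hR hAT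
    (fun n => ?_) fun z O hz => exists_ftOpen_noTors (A := Sec 𝔛 h U) hA.2 (Frg27.base_fg hR) hfg hπ z O hz
  let f : (locModel h U π).X n ⟶ (𝔛.lvU h n U).toScheme := pullback.fst (toSpecO 𝔛 h U n) π
  let g : 𝔛.X n ⟶ Spec (CommRingCat.of R) := (p : Hom 𝔛 (FSch.spf R I)).app n ≫ spfToSpec R I n
  show f ≫ (𝔛.lvU h n U).ι ≫ g = pullback.snd (toSpecO 𝔛 h U n) π ≫ π ≫
    Spec.map (CommRingCat.ofHom (baseSec h p U).hom)
  rw [← pullback.condition_assoc]
  congr 1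
  exact (toSpecO_famHom (h := h) (fun n => (p : Hom 𝔛 (FSch.spf R I)).app n ≫ spfToSpec R I n)
    (adicHom_fam_comm I p) U n).symm

set_option backward.isDefEq.respectTransparency false in
/-- A blow-up of a scheme in a finitely generated ideal is locally of finite type. -/
theorem locallyOfFiniteType_of_locPrincipalFT {A : Type u} [CommRing A] {𝔞 : Ideal A}
    {P : Scheme.{u}} (π : P ⟶ Spec (CommRingCat.of A)) (hloc : LocPrincipalFT π 𝔞) :
    LocallyOfFiniteType π := by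
  choose Q hzQ hQ _ using hloc
  refine (IsZariskiLocalAtSource.iff_of_iSup_eq_top (P := @LocallyOfFiniteType) Q
    (top_unique fun z _ => Opens.mem_iSup.mpr ⟨z, hzQ z⟩)).2 fun z => ?_
  have : IsAffine (Q z) := (hQ z).1
  rw [HasRingHomProperty.iff_of_isAffine (P := @LocallyOfFiniteType)]
  have h2 := (hQ z).2
  rw [baseHom, CommRingCat.hom_comp] at h2
  have h3 := (RingHom.FiniteType.of_surjective _
    (ConcreteCategory.bijective_of_isIso (Q z).topIso.inv).2).comp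
      (RingHom.FiniteType.of_comp_finiteType h2)
  rw [← CommRingCat.hom_comp] at h3
  refine (congrArg (fun φ : Γ(Spec (CommRingCat.of A), ⊤) ⟶ Γ((Q z).toScheme, ⊤) => φ.hom.FiniteType)
    ?_).mp h3
  rw [Scheme.Hom.comp_appTop, Scheme.Opens.topIso_inv, Scheme.Opens.ι_appTop, Scheme.Hom.appTop,
    Scheme.Hom.app_eq_appLE, Scheme.Hom.appLE_map, Scheme.Hom.appLE_map]

/-- A blow-up is levelwise locally of finite type. -/
theorem locallyOfFiniteType_blowUp (hp : IsAdicHom p) (hR : AdicRing.IsBase R I)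
    (hfp : ∀ n, LocallyOfFinitePresentation ((p : Hom 𝔛 (FSch.spf R I)).app n))
    (htf : ∀ (U : (𝔛.X 0).Opens) (s : (𝔛.Osh h).obj.obj (op U)),
      (∀ a ∈ (FBlow.IdealSh.ker (𝔛.OshProj h 0)).sect U, a * s = 0) → s = 0)
    {J : FBlow.IdealSh (𝔛.Osh h)} (hJ : LocFG h J) {𝔓 : Sys.{u}} {hP : 𝔓.IsFormal}
    {b : 𝔓 ⟶ 𝔛} (hb : FBlow.IsAdmBlowUp b hP h J) (n : ℕ) :
    LocallyOfFiniteType ((b : Hom 𝔓 𝔛).app n) := by
  choose U 𝔞 hU hgen hfg P π hπ k hk hkb hy using fun y => exists_locModel hp hR hfp htf hJ hb y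
  have := fun y => hk y n
  refine (IsZariskiLocalAtSource.iff_of_iSup_eq_top (P := @LocallyOfFiniteType)
    (fun y => ((k y : Hom _ 𝔓).app n).opensRange) (top_unique fun z _ => ?_)).2 fun y => ?_
  · obtain ⟨w, rfl⟩ := 𝔓.toX_surjective hP n z
    obtain ⟨v, hv⟩ := hy w
    refine Opens.mem_iSup.mpr ⟨w, ⟨(locModel h (U w) (π w)).toX n v, ?_⟩⟩
    exact ((Scheme.Hom.comp_apply _ _ _).symm.trans (congrArg
      (fun φ : (locModel h (U w) (π w)).X 0 ⟶ 𝔓.X n => φ v) (Hom.toX_comm (k w) n))).trans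
        ((Scheme.Hom.comp_apply _ _ _).trans (congrArg _ hv))
  · rw [← Scheme.Hom.isoOpensRange_inv_comp ((k y : Hom _ 𝔓).app n), Category.assoc]
    have : LocallyOfFiniteType ((locModelMap h (U y) (π y) : Hom _ 𝔛).app n) := by
      have hπft : LocallyOfFiniteType (π y) :=
        locallyOfFiniteType_of_locPrincipalFT (A := Sec 𝔛 h (U y)) (π y)
          (locPrincipalFT_of_isBlowUp (π y) (hπ y) (hfg y))
      have h1 : LocallyOfFiniteType (pullback.fst (toSpecO 𝔛 h (U y) n) (π y)) :=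
        MorphismProperty.pullback_fst _ _ hπft
      let f : (locModel h (U y) (π y)).X n ⟶ (𝔛.lvU h n (U y)).toScheme :=
        pullback.fst (toSpecO 𝔛 h (U y) n) (π y)
      have : LocallyOfFiniteType f := h1
      exact inferInstanceAs (LocallyOfFiniteType (f ≫ (𝔛.lvU h n (U y)).ι))
    have e : (k y : Hom _ 𝔓).app n ≫ (b : Hom 𝔓 𝔛).app n =
        (locModelMap h (U y) (π y) : Hom _ 𝔛).app n :=
      congrArg (fun t : Hom _ 𝔛 => t.app n) (hkb y)
    rw [e]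
    infer_instance

set_option backward.isDefEq.respectTransparency false in
/-- An adic formal system, levelwise locally of finite type over an admitted base and without
torsion, is levelwise locally of finite presentation. -/
theorem lfp_of_noBaseTors (hp : IsAdicHom p) (hR : AdicRing.IsBase R I)
    (hft : ∀ n, LocallyOfFiniteType ((p : Hom 𝔛 (FSch.spf R I)).app n)) (hN : NoBaseTors h p)
    (n : ℕ) : LocallyOfFinitePresentation ((p : Hom 𝔛 (FSch.spf R I)).app n) := by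
  refine (IsZariskiLocalAtSource.iff_of_iSup_eq_top (P := @LocallyOfFinitePresentation)
    (fun W : (𝔛.X 0).affineOpens => 𝔛.lvU h n W.1)
    (iSup_lvU h (fun W : (𝔛.X 0).affineOpens => W.1) (fun x => ?_) n)).2 fun W => ?_
  · obtain ⟨W, hxW, -⟩ := MP99.exists_affine_le x (W := ⊤) trivial
    exact ⟨W, hxW⟩
  have : IsAffine (𝔛.lvU h n W.1) := isAffineOpen_lvU (h := h) W.2 n
  have : IsAffine ((FSch.spf R I).X n) := inferInstanceAs (IsAffine (Spec _))
  rw [HasRingHomProperty.iff_of_isAffine (P := @LocallyOfFinitePresentation)]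
  let := (baseSec h p W.1).hom.toAlgebra
  have hc : IsAdicComplete (I.map (algebraMap R (Sec 𝔛 h W.1))) (Sec 𝔛 h W.1) :=
    (sec_props hp hR W.2).2
  have hT : AdicRing.TopFiniteType R I (Sec 𝔛 h W.1) := by
    refine Frg27.tft_of_finiteType_quotient (Frg27.base_fg hR) ?_
    obtain ⟨hsurj, hker⟩ := (sec_props (h := h) hp hR W.2).1 0
    rw [zero_add, pow_one] at hker
    rw [← RingHom.finiteType_algebraMap]
    let e := (Ideal.quotEquivOfEq hker.symm).trans (RingHom.quotientKerEquivOfSurjective hsurj)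
    have h0 := (hft 0).finiteType_appLE (isAffineOpen_top (Spec (CommRingCat.of (R ⧸ I ^ (0 + 1))))) (isAffineOpen_lvU (h := h) W.2 0)
      (le_top (a := 𝔛.lvU h 0 W.1))
    have h1 : (baseSec h p W.1 ≫ proj 𝔛 h W.1 0).hom.FiniteType := by
      rw [strHom_proj, Scheme.Hom.comp_appLE, CommRingCat.hom_comp, CommRingCat.hom_comp]
      refine RingHom.FiniteType.comp (RingHom.FiniteType.comp h0 ?_) (RingHom.FiniteType.of_surjective _
        (ConcreteCategory.bijective_of_isIso (Scheme.ΓSpecIso (CommRingCat.of R)).inv).2)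
      have : IsClosedImmersion (spfToSpec R I 0) := IsClosedImmersion.spec_of_surjective
        (CommRingCat.ofHom (Ideal.Quotient.mk (I ^ (0 + 1)))) Ideal.Quotient.mk_surjective
      exact RingHom.FiniteType.of_surjective _ ((spfToSpec R I 0).app_surjective ⊤ (isAffineOpen_top _))
    have h2 := (RingHom.FiniteType.of_surjective e.symm.toRingHom e.symm.surjective).comp h1
    have h3 : e.toRingHom.comp (algebraMap R (Sec 𝔛 h W.1 ⧸ I.map (algebraMap R (Sec 𝔛 h W.1)))) =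
        (baseSec h p W.1 ≫ proj 𝔛 h W.1 0).hom := RingHom.ext fun r => rfl
    rw [← h3, ← RingHom.comp_assoc, RingEquiv.symm_toRingHom_comp_toRingHom, RingHom.id_comp] at h2
    exact h2
  have hNP : AdicRing.NoPowTorsion I (Sec 𝔛 h W.1) := fun x m hx =>
    noPowTorsion_sec hp hR (htf_of_noBaseTors hp hR hN) W.2 x m hx
  have hq := (S11530.result R I hR (Sec 𝔛 h W.1)).1
    (S11525.result R I hR (Sec 𝔛 h W.1) hT hNP) n
  obtain ⟨e, key⟩ := exists_trunc_equiv (h := h) hp hR W.2 n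
  have h2 := (RingHom.FinitePresentation.of_bijective (f := e.toRingHom) e.bijective).comp hq
  erw [key] at h2
  have h3 := h2.comp (RingHom.FinitePresentation.of_bijective
    (Scheme.ΓSpecIso (CommRingCat.of (R ⧸ I ^ (n + 1)))).commRingCatIsoToRingEquiv.bijective)
  have h4 := (RingHom.FinitePresentation.of_bijective (f := (𝔛.lvU h n W.1).topIso.inv.hom)
    (ConcreteCategory.bijective_of_isIso _)).comp h3
  refine (congrArg RingHom.FinitePresentation ?_).mp h4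
  refine RingHom.ext fun r => ?_
  change (𝔛.lvU h n W.1).topIso.inv (((p : Hom 𝔛 (FSch.spf R I)).app n).appLE ⊤ (𝔛.lvU h n W.1) le_top
    ((Scheme.ΓSpecIso _).inv ((Scheme.ΓSpecIso _).hom r))) = _
  rw [← CommRingCat.comp_apply (Scheme.ΓSpecIso _).hom, Iso.hom_inv_id]
  refine (CommRingCat.comp_apply _ _ r).symm.trans
    (congrArg (fun φ : Γ((FSch.spf R I).X n, ⊤) ⟶ Γ((𝔛.lvU h n W.1).toScheme, ⊤) => φ r) ?_)
  rw [Scheme.Hom.comp_appTop, Scheme.Opens.topIso_inv, Scheme.Opens.ι_appTop, Scheme.Hom.appTop,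
    Scheme.Hom.app_eq_appLE, Scheme.Hom.appLE_map, Scheme.Hom.appLE_map]

end Groth.Agent.FBlow13
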