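import Groth.Agent.FBlow13.Restrict
import Groth.Agent.FBlow13.Exist
import Groth.Agent.S11530

/-!
Admissible formal schemes over an admitted base: rings of sections over affine opens, coherent
open ideals there, and the local admissible formal blow-up.
-/

set_option autoImplicit false

universe u

open CategoryTheory CategoryTheory.Limits AlgebraicGeometry TopologicalSpace Opposite

namespace Groth.Agent.FBlow13

open _root_.FSch

variable {R : Type u} [CommRing R] {I : Ideal R} {𝔛 : Sys.{u}} (h : 𝔛.IsFormal)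
  (p : 𝔛 ⟶ FSch.spf R I)

/-- The structure map of the sections over `U` given by the morphism to the base. -/
noncomputable abbrev baseSec (U : (𝔛.X 0).Opens) : CommRingCat.of R ⟶ Sec 𝔛 h U :=
  strHom h (fun n => (p : Hom _ _).app n ≫ spfToSpec R I n) (adicHom_fam_comm I p) U

variable {h p}

theorem sec_props (hp : IsAdicHom p) (hR : AdicRing.IsBase R I) {U : (𝔛.X 0).Opens}
    (hU : IsAffineOpen U) :
    (∀ n, Function.Surjective (proj 𝔛 h U n) ∧
      RingHom.ker (proj 𝔛 h U n).hom = (I ^ (n + 1)).map (baseSec h p U).hom) ∧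
      IsAdicComplete (I.map (baseSec h p U).hom) (Sec 𝔛 h U) :=
  sec_affine (R := CommRingCat.of R) (adicOver_of_isAdicHom I p hp) (Frg27.base_fg hR) hU

/-- The kernel of the projection to the bottom level on an affine open. -/
theorem ker_sect_eq (hp : IsAdicHom p) (hR : AdicRing.IsBase R I) {U : (𝔛.X 0).Opens}
    (hU : IsAffineOpen U) :
    (FBlow.IdealSh.ker (𝔛.OshProj h 0)).sect U = I.map (baseSec h p U).hom := by
  refine ((sec_props hp hR hU).1 0).2.trans ?_
  rw [zero_add, pow_one]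

/-- No torsion for the ideal of definition over an affine open. -/
theorem noPowTorsion_sec (hp : IsAdicHom p) (hR : AdicRing.IsBase R I)
    (htf : ∀ (U : (𝔛.X 0).Opens) (s : (𝔛.Osh h).obj.obj (op U)),
      (∀ a ∈ (FBlow.IdealSh.ker (𝔛.OshProj h 0)).sect U, a * s = 0) → s = 0)
    {U : (𝔛.X 0).Opens} (hU : IsAffineOpen U) (x : Sec 𝔛 h U) :
    ∀ n : ℕ, (∀ a ∈ I ^ n, baseSec h p U a * x = 0) → x = 0 := by
  intro n
  induction n generalizing x with
  | zero =>
    intro hx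
    have := hx 1 (by rw [pow_zero, Ideal.one_eq_top]; trivial)
    rwa [map_one, one_mul] at this
  | succ n ih =>
    intro hx
    refine ih x fun a ha => htf U _ fun c hc => ?_
    rw [ker_sect_eq hp hR hU] at hc
    induction hc using Submodule.span_induction with
    | mem c hc =>
      obtain ⟨b, hb, rfl⟩ := hc
      rw [← mul_assoc]
      exact (map_mul (baseSec h p U).hom b a).symm ▸ hx (b * a) (by
        rw [pow_succ']; exact Ideal.mul_mem_mul hb ha)
    | zero => rw [zero_mul]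
    | add c d _ _ hc hd => rw [add_mul, hc, hd, add_zero]
    | smul r c _ hc => rw [smul_eq_mul, mul_assoc, hc, mul_zero]

set_option backward.isDefEq.respectTransparency false in
/-- The reductions of the ring of sections over an affine open are the functions on the levels. -/
theorem exists_trunc_equiv (hp : IsAdicHom p) (hR : AdicRing.IsBase R I) {U : (𝔛.X 0).Opens}
    (hU : IsAffineOpen U) (n : ℕ) :
    ∃ e : (Sec 𝔛 h U) ⧸ ((I ^ (n + 1)).map (baseSec h p U).hom) ≃+* Γ(𝔛.X n, 𝔛.lvU h n U),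
      e.toRingHom.comp (Ideal.quotientMap ((I ^ (n + 1)).map (baseSec h p U).hom)
          (baseSec h p U).hom Ideal.le_comap_map) =
        (((p : Hom 𝔛 (FSch.spf R I)).app n).appLE ⊤ (𝔛.lvU h n U) le_top).hom.comp
          (Scheme.ΓSpecIso (CommRingCat.of (R ⧸ I ^ (n + 1)))).inv.hom := by
  obtain ⟨hsurj, hker⟩ := (sec_props (h := h) hp hR hU).1 n
  refine ⟨(Ideal.quotEquivOfEq hker.symm).trans (RingHom.quotientKerEquivOfSurjective hsurj), ?_⟩
  refine Ideal.Quotient.ringHom_ext (RingHom.ext fun r => ?_)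
  have h1 : proj 𝔛 h U n (baseSec h p U r) =
      (((p : Hom _ _).app n ≫ spfToSpec R I n).appLE ⊤ (𝔛.lvU h n U) le_top)
        ((Scheme.ΓSpecIso (CommRingCat.of R)).inv r) :=
    congrArg (fun φ => φ r) (strHom_proj (h := h)
      (fun n => (p : Hom _ _).app n ≫ spfToSpec R I n) (adicHom_fam_comm I p) U n)
  refine h1.trans ?_
  rw [Scheme.Hom.comp_appLE, CommRingCat.comp_apply]
  change _ = ((p : Hom 𝔛 (FSch.spf R I)).app n).appLE ⊤ (𝔛.lvU h n U) le_top
    ((Scheme.ΓSpecIso (CommRingCat.of (R ⧸ I ^ (n + 1)))).inv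
      ((CommRingCat.ofHom (Ideal.Quotient.mk (I ^ (n + 1)))) r))
  exact congrArg (((p : Hom 𝔛 (FSch.spf R I)).app n).appLE ⊤ (𝔛.lvU h n U) le_top)
    (congrArg (fun φ => φ r) (Scheme.ΓSpecIso_inv_naturality
      (CommRingCat.ofHom (Ideal.Quotient.mk (I ^ (n + 1)))))).symm

set_option backward.isDefEq.respectTransparency false in
/-- The ring of sections over an affine open of an admissible formal scheme is admissible. -/
theorem admissible_sec (hp : IsAdicHom p) (hR : AdicRing.IsBase R I)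
    (hfp : ∀ n, LocallyOfFinitePresentation ((p : Hom 𝔛 (FSch.spf R I)).app n))
    (htf : ∀ (U : (𝔛.X 0).Opens) (s : (𝔛.Osh h).obj.obj (op U)),
      (∀ a ∈ (FBlow.IdealSh.ker (𝔛.OshProj h 0)).sect U, a * s = 0) → s = 0)
    {U : (𝔛.X 0).Opens} (hU : IsAffineOpen U) :
    letI := (baseSec h p U).hom.toAlgebra
    AdicRing.Admissible R I (Sec 𝔛 h U) := by
  let := (baseSec h p U).hom.toAlgebra
  have : IsAdicComplete (I.map (algebraMap R (Sec 𝔛 h U))) (Sec 𝔛 h U) := (sec_props hp hR hU).2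
  refine ⟨(S11530.result R I hR (Sec 𝔛 h U)).2 fun n => ?_, fun x m hx =>
    noPowTorsion_sec hp hR htf hU x m hx⟩
  obtain ⟨e, key⟩ := exists_trunc_equiv (h := h) hp hR hU n
  have hfp' := (hfp n).finitePresentation_appLE
    (isAffineOpen_top (Spec (CommRingCat.of (R ⧸ I ^ (n + 1))))) (isAffineOpen_lvU (h := h) hU n) le_top
  have h2 : (e.toRingHom.comp (Ideal.quotientMap ((I ^ (n + 1)).map (baseSec h p U).hom)
      (baseSec h p U).hom Ideal.le_comap_map)).FinitePresentation := by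
    rw [key]
    exact hfp'.comp (RingHom.FinitePresentation.of_bijective
      (Scheme.ΓSpecIso (CommRingCat.of (R ⧸ I ^ (n + 1)))).symm.commRingCatIsoToRingEquiv.bijective)
  have h3 := (RingHom.FinitePresentation.of_bijective (f := e.symm.toRingHom) e.symm.bijective).comp h2
  rw [← RingHom.comp_assoc, RingEquiv.symm_toRingHom_comp_toRingHom, RingHom.id_comp] at h3
  exact h3

theorem isClosedImmersion_toSpecO (hp : IsAdicHom p) (hR : AdicRing.IsBase R I)
    {U : (𝔛.X 0).Opens} (hU : IsAffineOpen U) (n : ℕ) :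
    IsClosedImmersion (toSpecO 𝔛 h U n) ∧
      (toSpecO 𝔛 h U n).ker = idealSpec (Sec 𝔛 h U) (I.map (baseSec h p U).hom ^ (n + 1)) := by
  obtain ⟨hsurj, hker⟩ := (sec_props (h := h) hp hR hU).1 n
  have := IsClosedImmersion.spec_of_surjective (proj 𝔛 h U n) hsurj
  have : IsIso (𝔛.lvU h n U).toSpecΓ :=
    (IsAffineOpen.isoSpec_hom (isAffineOpen_lvU hU n)) ▸ inferInstance
  refine ⟨inferInstanceAs (IsClosedImmersion (_ ≫ _)), ?_⟩
  rw [toSpecO, Scheme.Hom.ker_comp_of_isIso]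
  refine An92.FSch.toIdeal_injective ?_
  rw [An92.FSch.toIdeal_ker, An92.FSch.toIdeal_idealSpec, hker, Ideal.map_pow]

theorem mem_ideal_of_memData {X : Scheme.{u}} (𝒜 : X.IdealSheafData) (V : X.affineOpens)
    {s : Γ(X, V.1)} (hs : s ∈ (FBlow.IdealSh.ofData 𝒜).sect V.1) : s ∈ 𝒜.ideal V := by
  rw [← 𝒜.ker_subschemeι_app V, RingHom.mem_ker]
  have hloc : ∀ x : (𝒜.subschemeι ⁻¹ᵁ V.1 : 𝒜.subscheme.Opens), ∃ (W : X.affineOpens) (j : W.1 ≤ V.1),
      𝒜.subschemeι x.1 ∈ W.1 ∧ X.presheaf.map (homOfLE j).op s ∈ 𝒜.ideal W := fun x =>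
    hs _ x.2
  choose W j hxW hW using hloc
  refine 𝒜.subscheme.sheaf.eq_of_locally_eq' (fun x => 𝒜.subschemeι ⁻¹ᵁ (W x).1) _
    (fun x => homOfLE (Scheme.Hom.preimage_mono _ (j x)))
    (fun x hx => Opens.mem_iSup.2 ⟨⟨x, hx⟩, hxW ⟨x, hx⟩⟩) _ 0 fun x => ?_
  erw [map_zero]
  have h1 := hW x
  rw [← 𝒜.ker_subschemeι_app (W x), RingHom.mem_ker] at h1
  refine Eq.trans ?_ h1
  exact (congrArg (fun φ => φ s) (𝒜.subschemeι.naturality (homOfLE (j x)).op)).symm

/-- Over an affine open where a coherent open ideal is given by finite type ideal data on a level it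
is generated by its sections, which form a finitely generated open ideal. -/
theorem genOn_affine (hp : IsAdicHom p) (hR : AdicRing.IsBase R I) {U : (𝔛.X 0).Opens}
    (hU : IsAffineOpen U) {J : FBlow.IdealSh (𝔛.Osh h)} (n : ℕ) (𝒜 : (𝔛.X n).IdealSheafData)
    (hFT : IdealFT 𝒜)
    (hJ : ∀ V : (𝔛.X 0).Opens, V ≤ U → J.sect V = (FBlow.ofLevel 𝔛 h n 𝒜).sect V) :
    GenOn J U (J.sect U : Set (Sec 𝔛 h U)) ∧ (J.sect U).FG ∧
      (I ^ (n + 1)).map (baseSec h p U).hom ≤ J.sect U := by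
  obtain ⟨hsurjU, hkerU⟩ := (sec_props (h := h) hp hR hU).1 n
  have hJU : J.sect U = (𝒜.ideal ⟨_, isAffineOpen_lvU (h := h) hU n⟩).comap (proj 𝔛 h U n).hom := by
    rw [hJ U le_rfl]
    refine le_antisymm (fun s hs => ?_) (fun s hs => ?_)
    · exact mem_ideal_of_memData 𝒜 ⟨_, isAffineOpen_lvU (h := h) hU n⟩ hs
    · exact (genOn_ofData 𝒜 ⟨_, isAffineOpen_lvU (h := h) hU n⟩).1 hs
  have hopen : (I ^ (n + 1)).map (baseSec h p U).hom ≤ J.sect U := by
    rw [hJU, ← hkerU]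
    exact fun s hs => by rw [Ideal.mem_comap, RingHom.mem_ker.1 hs]; exact zero_mem _
  refine ⟨⟨subset_rfl, fun V i s hs x hx => ?_⟩, ?_, hopen⟩
  · rw [hJ V i] at hs
    obtain ⟨V', j, hxV', hV'⟩ := hs ((𝔛.toX n).base x)
      (show x ∈ 𝔛.toX n ⁻¹ᵁ 𝔛.lvU h n V from (toX_preimage_lvU n V).ge hx)
    obtain ⟨W, hxW, hW⟩ := MP99.exists_affine_le x (W := V ⊓ 𝔛.toX n ⁻¹ᵁ V'.1) ⟨hx, hxV'⟩
    have hWV : W.1 ≤ V := hW.trans inf_le_left
    have hWV' : 𝔛.lvU h n W.1 ≤ V'.1 := by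
      intro y hy
      obtain ⟨z, rfl⟩ := 𝔛.toX_surjective h n y
      exact (hW ((toX_preimage_lvU (h := h) n W.1).le hy)).2
    refine ⟨W.1, hWV, hxW, ?_⟩
    set t := res 𝔛 h hWV s with ht
    obtain ⟨hsurjW, hkerW⟩ := (sec_props (h := h) hp hR W.2).1 n
    have hWU : W.1 ≤ U := hWV.trans i
    have h1 : proj 𝔛 h W.1 n t ∈ 𝒜.ideal ⟨_, isAffineOpen_lvU (h := h) W.2 n⟩ := by
      rw [ht, proj_res_apply]
      have := FBlow.res_mem_ofData 𝒜 (V := V') (W := ⟨_, isAffineOpen_lvU (h := h) W.2 n⟩) hWV' hV'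
      erw [FBlow.sch_map_comp_apply] at this
      exact this
    rw [← 𝒜.map_ideal (U := ⟨_, isAffineOpen_lvU (h := h) W.2 n⟩)
      (V := ⟨_, isAffineOpen_lvU (h := h) hU n⟩) (FBlow.lvU_mono 𝔛 h n hWU)] at h1
    have hrew : (𝒜.ideal ⟨_, isAffineOpen_lvU (h := h) hU n⟩).map
        ((𝔛.X n).presheaf.map (homOfLE (FBlow.lvU_mono 𝔛 h n hWU)).op).hom =
        ((J.sect U).map (res 𝔛 h hWU).hom).map (proj 𝔛 h W.1 n).hom := by
      rw [Ideal.map_map, ← CommRingCat.hom_comp, proj_res, CommRingCat.hom_comp, ← Ideal.map_map,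
        hJU, Ideal.map_comap_of_surjective _ hsurjU]
    replace h1 : proj 𝔛 h W.1 n t ∈ ((J.sect U).map (res 𝔛 h hWU).hom).map (proj 𝔛 h W.1 n).hom :=
      hrew.le h1
    have h2 := Ideal.mem_comap.2 h1
    rw [Ideal.comap_map_of_surjective _ hsurjW, ← RingHom.ker_eq_comap_bot, hkerW,
      show baseSec h p W.1 = baseSec h p U ≫ res 𝔛 h hWU from (strHom_res (h := h) _ _ hWU).symm,
      CommRingCat.hom_comp, ← Ideal.map_map,
      sup_eq_left.2 (Ideal.map_mono hopen)] at h2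
    exact h2
  · rw [hJU]
    refine Ideal.fg_of_fg_map_of_fg_inf_ker_of_surjective (f := (proj 𝔛 h U n).hom) ?_ ?_ hsurjU
    · rw [Ideal.map_comap_of_surjective _ hsurjU]
      exact hFT _
    · rw [inf_eq_right.2 (fun s hs => Ideal.mem_comap.2 ((RingHom.mem_ker.1 hs).symm ▸ zero_mem _)),
        hkerU]
      exact (Ideal.FG.pow (Frg27.base_fg hR)).map _

end Groth.Agent.FBlow13
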