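import Groth.Agent.FBlow13.AdmModel
import Groth.Agent.S1680

/-!
Flat base change of admissible formal blow-ups.
-/

set_option autoImplicit false

universe u

open CategoryTheory CategoryTheory.Limits AlgebraicGeometry TopologicalSpace Opposite

namespace Groth.Agent.FBlow13

open _root_.FSch

variable {R : Type u} [CommRing R] {I : Ideal R} {𝔛 𝔜 : Sys.{u}} {h : 𝔛.IsFormal}
  {hY : 𝔜.IsFormal} {p : 𝔛 ⟶ FSch.spf R I}

set_option backward.isDefEq.respectTransparency false in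
/-- A morphism which, level by level, pulls back over an open to a blow-up over it restricts to a
blow-up over it. -/
theorem IsBlowUpOver.of_levelwise {U : (𝔛.X 0).Opens} {J : FBlow.IdealSh (𝔛.Osh h)}
    {𝔐 𝔓 : Sys.{u}} {hM : 𝔐.IsFormal} {hP : 𝔓.IsFormal} {c : 𝔐 ⟶ 𝔛} (hc : IsBlowUpOver h U J hM c)
    (b : 𝔓 ⟶ 𝔛) (k : 𝔐 ⟶ 𝔓) (hk : k ≫ b = c) (l : ∀ n, 𝔐.X n ⟶ (𝔛.lvU h n U).toScheme)
    (hsq : ∀ n, IsPullback (l n) ((k : Hom 𝔐 𝔓).app n) (𝔛.lvU h n U).ι ((b : Hom 𝔓 𝔛).app n)) :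
    IsBlowUpOver h U J (isFormal_restrictOpen hP ((b : Hom 𝔓 𝔛).app 0 ⁻¹ᵁ U))
      (𝔓.restrictOpenι hP ((b : Hom 𝔓 𝔛).app 0 ⁻¹ᵁ U) ≫ b) := by
  obtain ⟨m, hm, -⟩ := existsUnique_liftOpen (h := hP) k hM
    (U := (b : Hom 𝔓 𝔛).app 0 ⁻¹ᵁ U) (by
      rw [← Scheme.Hom.comp_preimage, ← comp_app]
      exact (congrArg (fun t : Hom _ 𝔛 => t.app 0 ⁻¹ᵁ U) hk).trans hc.2.1)
  have hiso : IsIso m := isIso_sys m fun n => by
    have hpb := isPullback_resLE ((b : Hom 𝔓 𝔛).app n) (Hom.lvU_preimage b hP h n U).symm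
      (Hom.lvU_preimage b hP h n U).ge
    have e1 : ((hsq n).isoIsPullback _ _ hpb).hom = (m : Hom _ _).app n := by
      refine (cancel_mono (Scheme.Opens.ι _)).1 ((IsPullback.isoIsPullback_hom_snd _ _ _ _).trans ?_)
      exact (congrArg (fun t : Hom _ 𝔓 => t.app n) hm).symm
    exact e1 ▸ inferInstance
  exact hc.of_iso (asIso m) (by rw [asIso_hom, ← Category.assoc, hm, hk])

set_option backward.isDefEq.respectTransparency false in
/-- Over a good affine open a blow-up is, level by level, the local model. -/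
theorem exists_model_square (hp : IsAdicHom p) (hR : AdicRing.IsBase R I)
    (hfp : ∀ n, LocallyOfFinitePresentation ((p : Hom 𝔛 (FSch.spf R I)).app n))
    (htf : ∀ (U : (𝔛.X 0).Opens) (s : (𝔛.Osh h).obj.obj (op U)),
      (∀ a ∈ (FBlow.IdealSh.ker (𝔛.OshProj h 0)).sect U, a * s = 0) → s = 0)
    {J : FBlow.IdealSh (𝔛.Osh h)} {𝔓 : Sys.{u}} {hP : 𝔓.IsFormal} {b : 𝔓 ⟶ 𝔛}
    (hb : FBlow.IsAdmBlowUp b hP h J) {U : (𝔛.X 0).Opens} (hU : IsAffineOpen U)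
    (hgen : GenOn J U (J.sect U : Set (Sec 𝔛 h U))) (hfg : (J.sect U).FG) {P : Scheme.{u}}
    (π : P ⟶ Spec (Sec 𝔛 h U)) (hπ : BlowUp.IsBlowUp π (idealSpec (Sec 𝔛 h U) (J.sect U))) :
    ∃ k : locModel h U π ⟶ 𝔓, k ≫ b = locModelMap h U π ∧
      ∀ n, IsPullback (pullback.fst (toSpecO 𝔛 h U n) π) ((k : Hom _ 𝔓).app n) (𝔛.lvU h n U).ι
        ((b : Hom 𝔓 𝔛).app n) := by
  have h1 := (isBlowUpOver_top_iff.2 hb).restrict (le_top (a := U))
  have h2 := isBlowUpOver_model hp hR hfp htf hU hgen hfg π hπ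
  obtain ⟨e, he⟩ := h2.exists_iso h1
  refine ⟨e.hom ≫ 𝔓.restrictOpenι hP _, (Category.assoc _ _ _).trans he, fun n => ?_⟩
  have hpb := isPullback_resLE ((b : Hom 𝔓 𝔛).app n) (Hom.lvU_preimage b hP h n U).symm
    (Hom.lvU_preimage b hP h n U).ge
  have hiso : IsIso ((e.hom : Hom _ _).app n) :=
    ⟨(e.inv : Hom _ _).app n, congrArg (fun t : Hom _ (locModel h U π) => t.app n) e.hom_inv_id,
      congrArg (fun t : Hom _ (𝔓.restrictOpen hP _) => t.app n) e.inv_hom_id⟩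
  refine hpb.of_iso (asIso ((e.hom : Hom _ _).app n)).symm (Iso.refl _) (Iso.refl _) (Iso.refl _)
    ?_ ?_ (by simp) (by simp)
  · rw [Iso.refl_hom, Category.comp_id, Iso.symm_hom, asIso_inv, IsIso.eq_inv_comp]
    refine (cancel_mono (𝔛.lvU h n U).ι).1 ((Category.assoc _ _ _).trans ?_)
    rw [Scheme.Hom.resLE_comp_ι]
    exact congrArg (fun t : Hom _ 𝔛 => t.app n) he
  · rw [Iso.refl_hom, Category.comp_id, Iso.symm_hom, asIso_inv, IsIso.eq_inv_comp]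
    rfl

set_option backward.isDefEq.respectTransparency false in
theorem isAdicHom_pullbackSnd {𝔖 : Sys.{u}} (f : 𝔛 ⟶ 𝔖) (g : 𝔜 ⟶ 𝔖) (hf : IsAdicHom f) :
    IsAdicHom (FSch.pullbackSnd f g) := fun n => by
  have h1 : IsPullback (pullback.fst ((f : Hom 𝔛 𝔖).app n) ((g : Hom 𝔜 𝔖).app n) ≫ 𝔛.ι n)
      (pullback.snd ((f : Hom 𝔛 𝔖).app n) ((g : Hom 𝔜 𝔖).app n)) ((f : Hom 𝔛 𝔖).app (n + 1))
      ((g : Hom 𝔜 𝔖).app n ≫ 𝔖.ι n) := (IsPullback.of_hasPullback _ _).paste_horiz (hf n)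
  have h2 : IsPullback ((FSch.pullbackSys f g).ι n ≫ pullback.fst _ _)
      (pullback.snd ((f : Hom 𝔛 𝔖).app n) ((g : Hom 𝔜 𝔖).app n)) ((f : Hom 𝔛 𝔖).app (n + 1))
      (𝔜.ι n ≫ (g : Hom 𝔜 𝔖).app (n + 1)) := by
    rw [← (g : Hom 𝔜 𝔖).comm n]
    refine h1.of_iso (Iso.refl _) (Iso.refl _) (Iso.refl _) (Iso.refl _) ?_ (by simp) (by simp) (by simp)
    rw [Iso.refl_hom, Iso.refl_hom, Category.comp_id, Category.id_comp]
    exact (pullback.lift_fst _ _ _).symm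
  exact h2.of_right (pullback.lift_snd _ _ _)
    (IsPullback.of_hasPullback ((f : Hom 𝔛 𝔖).app (n + 1)) ((g : Hom 𝔜 𝔖).app (n + 1)))

set_option backward.isDefEq.respectTransparency false in
/-- Flat base change of a blow-up is a blow-up near every point. -/
theorem isBlowUpOver_baseChange (hp : IsAdicHom p) (hR : AdicRing.IsBase R I)
    (hfp : ∀ n, LocallyOfFinitePresentation ((p : Hom 𝔛 (FSch.spf R I)).app n))
    (htf : ∀ (U : (𝔛.X 0).Opens) (s : (𝔛.Osh h).obj.obj (op U)),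
      (∀ a ∈ (FBlow.IdealSh.ker (𝔛.OshProj h 0)).sect U, a * s = 0) → s = 0)
    {φ : 𝔜 ⟶ 𝔛} (hφ : IsAdicHom φ)
    (hYfp : ∀ n, LocallyOfFinitePresentation ((φ ≫ p : Hom 𝔜 (FSch.spf R I)).app n))
    (hYtf : ∀ (U : (𝔜.X 0).Opens) (s : (𝔜.Osh hY).obj.obj (op U)),
      (∀ a ∈ (FBlow.IdealSh.ker (𝔜.OshProj hY 0)).sect U, a * s = 0) → s = 0)
    {J : FBlow.IdealSh (𝔛.Osh h)} {𝔓 : Sys.{u}} {hP : 𝔓.IsFormal} {b : 𝔓 ⟶ 𝔛}
    (hb : FBlow.IsAdmBlowUp b hP h J) {hQ : (FSch.pullbackSys b φ).IsFormal}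
    {U : (𝔛.X 0).Opens} (hU : IsAffineOpen U)
    (hgen : GenOn J U (J.sect U : Set (Sec 𝔛 h U))) (hfg : (J.sect U).FG)
    {U' : (𝔜.X 0).Opens} (hU' : IsAffineOpen U') (e : U' ≤ (φ : Hom 𝔜 𝔛).app 0 ⁻¹ᵁ U)
    (hflat : (sharpLE (hY := hY) (h := h) φ e).hom.Flat) :
    IsBlowUpOver hY U' (FBlow.idealMap φ hY h J)
      (isFormal_restrictOpen hQ ((FSch.pullbackSnd b φ : Hom _ _).app 0 ⁻¹ᵁ U'))
      ((FSch.pullbackSys b φ).restrictOpenι hQ ((FSch.pullbackSnd b φ : Hom _ _).app 0 ⁻¹ᵁ U') ≫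
        FSch.pullbackSnd b φ) := by
  obtain ⟨P, π, hπ⟩ := exists_isBlowUp_spec (J.sect U)
  obtain ⟨kX, hkX, hsqX⟩ := exists_model_square hp hR hfp htf hb hU hgen hfg π hπ
  let χ : Sec 𝔛 h U ⟶ Sec 𝔜 hY U' := sharpLE (hY := hY) (h := h) φ e
  have hFl : Flat (Spec.map χ) := (HasRingHomProperty.Spec_iff (P := @Flat)).2 hflat
  have hπ' : BlowUp.IsBlowUp (pullback.fst (Spec.map χ) π)
      (idealSpec (Sec 𝔜 hY U') ((J.sect U).map χ.hom)) := by
    have h1 := S1680.result (Spec.map χ) _ π hπ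
    convert h1 using 1
    refine (An92.FSch.toIdeal_injective ?_)
    rw [An92.FSch.toIdeal_comap, An92.FSch.toIdeal_idealSpec, An92.FSch.toIdeal_idealSpec]
  let π' := pullback.fst (Spec.map χ) π
  have hgen' : GenOn (FBlow.idealMap φ hY h J) U'
      ((J.sect U).map χ.hom : Set (Sec 𝔜 hY U')) := by
    have h1 := (genOn_idealMap (hY := hY) φ hgen).restrict e
    erw [Set.image_image] at h1
    refine h1.congr_span ?_
    rw [Ideal.span_eq, Ideal.map]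
    rfl
  have hM := isBlowUpOver_model (p := φ ≫ p) (isAdicHom_comp hφ hp) hR hYfp hYtf hU' hgen'
    (hfg.map _) π' hπ'
  have hw : ∀ n, toSpecO 𝔜 hY U' n ≫ Spec.map χ =
      ((φ : Hom 𝔜 𝔛).app n).resLE (𝔛.lvU h n U) (𝔜.lvU hY n U') (lvU_le_preimage φ e n) ≫
        toSpecO 𝔛 h U n := fun n => toSpecO_sharpLE φ e n
  let m : ∀ n, pullback (toSpecO 𝔜 hY U' n) π' ⟶ pullback (toSpecO 𝔛 h U n) π := fun n =>
    pullback.map _ _ _ _ (((φ : Hom 𝔜 𝔛).app n).resLE (𝔛.lvU h n U) (𝔜.lvU hY n U')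
      (lvU_le_preimage φ e n)) (pullback.snd (Spec.map χ) π) (Spec.map χ) (hw n) pullback.condition
  have hm : ∀ n, IsPullback (m n) (pullback.fst (toSpecO 𝔜 hY U' n) π')
      (pullback.fst (toSpecO 𝔛 h U n) π) (((φ : Hom 𝔜 𝔛).app n).resLE (𝔛.lvU h n U) (𝔜.lvU hY n U')
      (lvU_le_preimage φ e n)) := fun n => by
    have h1 : IsPullback (pullback.snd (toSpecO 𝔜 hY U' n) π' ≫ pullback.snd (Spec.map χ) π)
        (pullback.fst (toSpecO 𝔜 hY U' n) π') π (toSpecO 𝔜 hY U' n ≫ Spec.map χ) :=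
      (IsPullback.of_hasPullback (toSpecO 𝔜 hY U' n) π').flip.paste_horiz
        (IsPullback.of_hasPullback (Spec.map χ) π).flip
    rw [hw] at h1
    refine IsPullback.of_right ?_ (pullback.lift_fst _ _ _)
      (IsPullback.of_hasPullback (toSpecO 𝔛 h U n) π).flip
    rw [show m n ≫ pullback.snd (toSpecO 𝔛 h U n) π =
      pullback.snd (toSpecO 𝔜 hY U' n) π' ≫ pullback.snd (Spec.map χ) π from pullback.lift_snd _ _ _]
    exact h1
  have hX : ∀ n, IsPullback (m n ≫ (kX : Hom _ 𝔓).app n) (pullback.fst (toSpecO 𝔜 hY U' n) π')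
      ((b : Hom 𝔓 𝔛).app n) ((𝔜.lvU hY n U').ι ≫ (φ : Hom 𝔜 𝔛).app n) := fun n => by
    rw [← Scheme.Hom.resLE_comp_ι ((φ : Hom 𝔜 𝔛).app n) (lvU_le_preimage (h := h) φ e n)]
    exact (hm n).paste_horiz (hsqX n).flip
  have hmc : ∀ n, (locModel hY U' π').ι n ≫ m (n + 1) = m n ≫ (locModel h U π).ι n := fun n => by
    refine pullback.hom_ext ?_ ?_
    · refine (cancel_mono (𝔛.lvU h (n + 1) U).ι).1 ?_
      simp only [m, locModel, modelSys, pullback.map, Category.assoc, pullback.lift_fst,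
        pullback.lift_fst_assoc, Sys.restrictOpen, Scheme.Hom.resLE_comp_ι,
        Scheme.Hom.resLE_comp_ι_assoc]
      rw [(φ : Hom 𝔜 𝔛).comm n]
    · simp only [m, locModel, modelSys, pullback.map, Category.assoc, pullback.lift_snd,
        pullback.lift_snd_assoc, Category.comp_id]
  let k : locModel hY U' π' ⟶ FSch.pullbackSys b φ :=
    ⟨fun n => pullback.lift (m n ≫ (kX : Hom _ 𝔓).app n)
      (pullback.fst (toSpecO 𝔜 hY U' n) π' ≫ (𝔜.lvU hY n U').ι)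
      ((hX n).w.trans (Category.assoc _ _ _).symm), fun n => by
      refine pullback.hom_ext ?_ ?_
      · simp only [FSch.pullbackSys, pullback.map, Category.assoc, pullback.lift_fst,
          pullback.lift_fst_assoc]
        rw [reassoc_of% hmc n, (kX : Hom _ 𝔓).comm n]
      · simp only [FSch.pullbackSys, pullback.map, Category.assoc, pullback.lift_snd,
          pullback.lift_snd_assoc]
        simp only [locModel, modelSys, pullback.map, pullback.lift_fst_assoc, Category.assoc,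
          Sys.restrictOpen, Scheme.Hom.resLE_comp_ι]⟩
  refine hM.of_levelwise (hP := hQ) (FSch.pullbackSnd b φ) k
    (Hom.ext (funext fun n => pullback.lift_snd _ _ _))
    (fun n => pullback.fst (toSpecO 𝔜 hY U' n) π') fun n => ?_
  refine (IsPullback.of_right ?_ (pullback.lift_snd _ _ _)
    (IsPullback.of_hasPullback ((b : Hom 𝔓 𝔛).app n) ((φ : Hom 𝔜 𝔛).app n))).flip
  rw [show (k : Hom _ _).app n ≫ pullback.fst ((b : Hom 𝔓 𝔛).app n) ((φ : Hom 𝔜 𝔛).app n) =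
    m n ≫ (kX : Hom _ 𝔓).app n from pullback.lift_fst _ _ _]
  exact hX n

end Groth.Agent.FBlow13
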