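import Groth.Agent.FBlow13.Dominant

/-!
The universal property of the chart algebras for formal systems.
-/

set_option autoImplicit false

universe u

open CategoryTheory CategoryTheory.Limits AlgebraicGeometry TopologicalSpace Opposite

namespace Groth.Agent.FBlow13

open _root_.FSch

section Family

variable {𝔛 : Sys.{u}} {h : 𝔛.IsFormal} {A B : CommRingCat.{u}}

theorem comp_specMap_comm (q : ∀ n, 𝔛.X n ⟶ Spec B) (hq : ∀ n, 𝔛.ι n ≫ q (n + 1) = q n)
    (φ : A ⟶ B) (n : ℕ) : 𝔛.ι n ≫ q (n + 1) ≫ Spec.map φ = q n ≫ Spec.map φ := by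
  rw [← Category.assoc, hq]

theorem famHom_postcomp (q : ∀ n, 𝔛.X n ⟶ Spec B) (hq : ∀ n, 𝔛.ι n ≫ q (n + 1) = q n)
    (φ : A ⟶ B) :
    famHom h (fun n => q n ≫ Spec.map φ) (comp_specMap_comm q hq φ) = φ ≫ famHom h q hq := by
  refine hom_ext_sec fun n => ?_
  rw [Category.assoc, famHom_proj, famHom_proj, Scheme.Hom.comp_appTop]
  exact ((reassoc_of% Scheme.ΓSpecIso_inv_naturality φ) (q n).appTop).symm

theorem famHom_congr {q q' : ∀ n, 𝔛.X n ⟶ Spec B} (e : ∀ n, q n = q' n)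
    (hq : ∀ n, 𝔛.ι n ≫ q (n + 1) = q n) (hq' : ∀ n, 𝔛.ι n ≫ q' (n + 1) = q' n) :
    famHom h q hq = famHom h q' hq' := by
  obtain rfl : q = q' := funext e
  rfl

end Family

variable {R : Type u} [CommRing R] {I : Ideal R} {A : Type u} [CommRing A] [Algebra R A] {r : ℕ}
  {f : Fin (r + 1) → A} {i : Fin (r + 1)} {𝔚 : Sys.{u}} {hW : 𝔚.IsFormal}

/-- The images of the family in the global sections of a system over `Spf A`. -/
noncomputable def famF (hW : 𝔚.IsFormal) (g : 𝔚 ⟶ FSch.spf A (I.map (algebraMap R A)))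
    (f : Fin (r + 1) → A) : Fin (r + 1) → Sec 𝔚 hW ⊤ := fun j =>
  famHom hW (fun n => (g : Hom _ _).app n ≫ spfToSpec A (I.map (algebraMap R A)) n)
    (adicHom_fam_comm _ g) (f j)

/-- The image of the `i`-th element is regular and locally generates the images of all. -/
def ChartOver (hW : 𝔚.IsFormal) (g : 𝔚 ⟶ FSch.spf A (I.map (algebraMap R A)))
    (f : Fin (r + 1) → A) (i : Fin (r + 1)) : Prop :=
  RegOn (famF hW g f) i ∧ ∀ x, ∃ V, x ∈ V ∧ DvdOn (famF hW g f) i V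

set_option backward.isDefEq.respectTransparency false in
/-- Over an affine open, a system over `Spf A` with regular dominating `i`-th generator receives
exactly one map from the chart algebra. -/
theorem existsUnique_chartHom (hR : AdicRing.IsBase R I) (hA : AdicRing.Admissible R I A) {k : ℕ}
    (hopen : (I ^ k).map (algebraMap R A) ≤ Ideal.span (Set.range f))
    {g : 𝔚 ⟶ FSch.spf A (I.map (algebraMap R A))} (hg : IsAdicHom g) (hc : ChartOver hW g f i)
    {W : (𝔚.X 0).Opens} (hWa : IsAffineOpen W) :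
    ∃! χ : CommRingCat.of (AdicRing.chartAdm I f i) ⟶ Sec 𝔚 hW W,
      CommRingCat.ofHom (algebraMap A (AdicRing.chartAdm I f i)) ≫ χ = baseSec hW g W := by
  let : Algebra A (Sec 𝔚 hW W) := (baseSec hW g W).hom.toAlgebra
  let : Algebra R (Sec 𝔚 hW W) :=
    ((baseSec hW g W).hom.comp (algebraMap R A)).toAlgebra
  have : IsScalarTower R A (Sec 𝔚 hW W) := IsScalarTower.of_algebraMap_eq fun _ => rfl
  have hcomp : IsAdicComplete (I.map (algebraMap R (Sec 𝔚 hW W))) (Sec 𝔚 hW W) := by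
    have h1 := (sec_affine (R := CommRingCat.of A) (h := hW)
      (q := fun n => (g : Hom _ _).app n ≫ spfToSpec A _ n) (hq := adicHom_fam_comm _ g)
      (adicOver_of_isAdicHom _ g hg) ((Frg27.base_fg hR).map _) hWa).2
    rw [Ideal.map_map] at h1
    exact h1
  let F := famF hW g f
  have hF : ∀ j, baseSec hW g W (f j) = res 𝔚 hW le_top (F j) := fun j => rfl
  let φ : A →ₐ[R] Sec 𝔚 hW W := IsScalarTower.toAlgHom R A _
  have hφ : ∀ j, φ (f j) = res 𝔚 hW le_top (F j) := hF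
  have hnzd : φ (f i) ∈ nonZeroDivisors (Sec 𝔚 hW W) := by
    rw [mem_nonZeroDivisors_iff_right]
    exact fun t ht => hc.1 W t (by rwa [hφ] at ht)
  have hgen : (Ideal.span (Set.range f)).map φ = Ideal.span {φ (f i)} := by
    refine le_antisymm ?_ ((Ideal.span_singleton_le_iff_mem _).2
      (Ideal.mem_map_of_mem _ (Ideal.subset_span ⟨i, rfl⟩)))
    rw [Ideal.map_span, Ideal.span_le]
    rintro _ ⟨_, ⟨j, rfl⟩, rfl⟩
    obtain ⟨t, ht⟩ := exists_eq_mul_of_locally (O := 𝔚.Osh hW) (g := res 𝔚 hW le_top (F i))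
      (fun V e t ht => hc.1 V t (by
        change t * res 𝔚 hW e (res 𝔚 hW le_top (F i)) = 0 at ht
        simp only [res, FBlow.IdealSh.map_comp_apply] at ht ⊢
        exact ht)) (le_refl W) (s := res 𝔚 hW le_top (F j)) fun x hx => by
      obtain ⟨V, hxV, hV⟩ := hc.2 x
      obtain ⟨c, hc'⟩ := (hV.mono (inf_le_right : W ⊓ V ≤ V)) j
      refine ⟨W ⊓ V, inf_le_left, ⟨hx, hxV⟩, c, ?_⟩
      simp only [res, rs, FBlow.IdealSh.map_comp_apply] at hc' ⊢
      exact hc'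
    rw [SetLike.mem_coe, Ideal.mem_span_singleton', hφ, hφ]
    exact ⟨t, (ht.trans (congrArg (t * ·)
      (FBlow.IdealSh.map_id_apply (O := 𝔚.Osh hW) (le_refl W) _))).symm⟩
  obtain ⟨ψ, hψ, hψu⟩ := S11545.result R I hR A hA r f k hopen i (Sec 𝔚 hW W) φ hnzd hgen
  refine ⟨CommRingCat.ofHom ψ.toRingHom, CommRingCat.hom_ext (RingHom.ext (AlgHom.congr_fun hψ)),
    fun χ hχ => ?_⟩
  have h1 : ∀ a : A, χ (algebraMap A (AdicRing.chartAdm I f i) a) = φ a := fun a =>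
    congrArg (fun ξ : CommRingCat.of A ⟶ Sec 𝔚 hW W => ξ a) hχ
  let χ' : AdicRing.chartAdm I f i →ₐ[R] Sec 𝔚 hW W :=
    { χ.hom with
      commutes' := fun a => by
        show χ (algebraMap R (AdicRing.chartAdm I f i) a) = _
        rw [IsScalarTower.algebraMap_apply R A (AdicRing.chartAdm I f i), h1]
        rfl }
  have h2 : χ' = ψ := hψu χ' (AlgHom.ext h1)
  rw [← h2]
  rfl

theorem isClosedImmersion_spfToSpec {C : Type u} [CommRing C] (K : Ideal C) (n : ℕ) :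
    IsClosedImmersion (spfToSpec C K n) :=
  IsClosedImmersion.spec_of_surjective (CommRingCat.ofHom (Ideal.Quotient.mk (K ^ (n + 1))))
    Ideal.Quotient.mk_surjective

set_option backward.isDefEq.respectTransparency false in
/-- The universal property of the chart algebra for formal systems. -/
theorem existsUnique_chartLift (hR : AdicRing.IsBase R I) (hA : AdicRing.Admissible R I A) {k : ℕ}
    (hopen : (I ^ k).map (algebraMap R A) ≤ Ideal.span (Set.range f))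
    {g : 𝔚 ⟶ FSch.spf A (I.map (algebraMap R A))} (hg : IsAdicHom g) (hc : ChartOver hW g f i) :
    ∃! l : 𝔚 ⟶ FSch.spf (AdicRing.chartAdm I f i) (I.map (algebraMap R (AdicRing.chartAdm I f i))),
      ∀ n, (l : Hom _ _).app n ≫ spfToSpec _ _ n ≫
        Spec.map (CommRingCat.ofHom (algebraMap A (AdicRing.chartAdm I f i))) =
          (g : Hom _ _).app n ≫ spfToSpec A (I.map (algebraMap R A)) n := by
  set C := AdicRing.chartAdm I f i
  set K := I.map (algebraMap R C) with hK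
  let φ : CommRingCat.of A ⟶ CommRingCat.of C := CommRingCat.ofHom (algebraMap A C)
  have := fun n => isClosedImmersion_spfToSpec K n
  choose χ hχ hχu using fun W : (𝔚.X 0).affineOpens =>
    existsUnique_chartHom (hW := hW) hR hA hopen hg hc W.2
  have hres : ∀ {W W' : (𝔚.X 0).affineOpens} (e : W'.1 ≤ W.1), χ W ≫ res 𝔚 hW e = χ W' :=
    fun {W W'} e => hχu W' _ ((Category.assoc _ _ _).symm.trans
      ((congrArg (· ≫ res 𝔚 hW e) (hχ W)).trans (strHom_res (h := hW) _ _ e)))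
  have hcover : ∀ x : 𝔚.X 0, ∃ W : (𝔚.X 0).affineOpens, x ∈ W.1 := fun x =>
    have ⟨W, hxW, _⟩ := MP99.exists_affine_le x (W := ⊤) trivial
    ⟨W, hxW⟩
  have hcov := fun n => iSup_lvU hW (fun W : (𝔚.X 0).affineOpens => W.1) hcover n
  have huni : ∀ (l : 𝔚 ⟶ FSch.spf C K), (∀ n, (l : Hom _ _).app n ≫ spfToSpec C K n ≫ Spec.map φ =
      (g : Hom _ _).app n ≫ spfToSpec A (I.map (algebraMap R A)) n) →
      ∀ n (W : (𝔚.X 0).affineOpens), (𝔚.lvU hW n W.1).ι ≫ (l : Hom _ _).app n ≫ spfToSpec C K n =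
        toSpecO 𝔚 hW W.1 n ≫ Spec.map (χ W) := fun l hl n W => by
    let q := fun n => (l : Hom _ _).app n ≫ spfToSpec C K n
    have hq : ∀ n, 𝔚.ι n ≫ q (n + 1) = q n := adicHom_fam_comm K l
    rw [← hχu W (famHom hW q hq ≫ res 𝔚 hW le_top) ?_]
    · exact (toSpecO_famHom (h := hW) q hq W.1 n).symm
    · show φ ≫ famHom hW q hq ≫ res 𝔚 hW le_top = baseSec hW g W.1
      rw [← Category.assoc, ← famHom_postcomp q hq φ,
        famHom_congr (q' := fun n => (g : Hom _ _).app n ≫ spfToSpec A _ n)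
          (fun n => (Category.assoc _ _ _).trans (hl n)) _ (adicHom_fam_comm _ g)]
      rfl
  have hker : ∀ n (W : (𝔚.X 0).affineOpens), ∀ c ∈ K ^ (n + 1),
      (χ W ≫ proj 𝔚 hW W.1 n) c = 0 := fun n W c hc' => by
    have h1 := ((sec_affine (R := CommRingCat.of A) (h := hW)
      (q := fun n => (g : Hom _ _).app n ≫ spfToSpec A _ n) (hq := adicHom_fam_comm _ g)
      (adicOver_of_isAdicHom _ g hg) ((Frg27.base_fg hR).map _) W.2).1 n).2
    refine (RingHom.mem_ker (f := (χ W ≫ proj 𝔚 hW W.1 n).hom)).1 ?_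
    refine (?_ : K ^ (n + 1) ≤ _) hc'
    rw [hK, IsScalarTower.algebraMap_eq R A C, ← Ideal.map_map, ← Ideal.map_pow,
      Ideal.map_le_iff_le_comap]
    intro a ha
    rw [Ideal.mem_comap, RingHom.mem_ker]
    have h2 : χ W (algebraMap A C a) = baseSec hW g W.1 a :=
      congrArg (fun ξ : CommRingCat.of A ⟶ Sec 𝔚 hW W.1 => ξ a) (hχ W)
    change proj 𝔚 hW W.1 n (χ W (algebraMap A C a)) = 0
    rw [h2]
    exact (RingHom.mem_ker (f := (proj 𝔚 hW W.1 n).hom)).1 (h1.ge (Ideal.mem_map_of_mem _ ha))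
  have hlW₀ : ∀ n (W : (𝔚.X 0).affineOpens), ∃ l : (𝔚.lvU hW n W.1).toScheme ⟶ (FSch.spf C K).X n,
      l ≫ spfToSpec C K n = toSpecO 𝔚 hW W.1 n ≫ Spec.map (χ W) := fun n W => by
    refine ⟨(𝔚.lvU hW n W.1).toSpecΓ ≫ Spec.map (CommRingCat.ofHom (Ideal.Quotient.lift _
      (χ W ≫ proj 𝔚 hW W.1 n).hom (hker n W))), ?_⟩
    change ((𝔚.lvU hW n W.1).toSpecΓ ≫ _) ≫ Spec.map (CommRingCat.ofHom (Ideal.Quotient.mk _)) = _
    rw [toSpecO, Category.assoc, Category.assoc, ← Spec.map_comp, ← Spec.map_comp]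
    rfl
  choose lW hlW using hlW₀
  have hlev : ∀ n, ∃ l : 𝔚.X n ⟶ (FSch.spf C K).X n,
      ∀ W, (𝔚.lvU hW n W.1).ι ≫ l = lW n W := fun n => by
    refine exists_glue_opens (fun W : (𝔚.X 0).affineOpens => 𝔚.lvU hW n W.1) (hcov n) (lW n)
      fun W W' => ?_
    refine (cancel_mono (spfToSpec C K n)).1 ?_
    rw [Category.assoc, Category.assoc, hlW, hlW]
    refine hom_ext_opens (fun V : {V : (𝔚.X 0).affineOpens // V.1 ≤ W.1 ⊓ W'.1} =>
      (𝔚.lvU hW n W.1 ⊓ 𝔚.lvU hW n W'.1).ι ⁻¹ᵁ 𝔚.lvU hW n V.1.1) (top_unique fun z _ => ?_)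
      fun V => ?_
    · obtain ⟨V, hzV, hV⟩ := MP99.exists_affine_le (𝔚.gInv hW n z.1) (W := W.1 ⊓ W'.1) z.2
      exact Opens.mem_iSup.mpr ⟨⟨V, hV⟩, hzV⟩
    · let O := 𝔚.lvU hW n W.1 ⊓ 𝔚.lvU hW n W'.1
      have hVO : 𝔚.lvU hW n V.1.1 ≤ O := FBlow.lvU_mono 𝔚 hW n V.2
      have e : (O.ι ⁻¹ᵁ 𝔚.lvU hW n V.1.1).ι ≫ O.ι =
          ((O.ι ⁻¹ᵁ 𝔚.lvU hW n V.1.1).ι ≫ O.ι) := rfl
      let j : (O.ι ⁻¹ᵁ 𝔚.lvU hW n V.1.1).toScheme ⟶ (𝔚.lvU hW n V.1.1).toScheme :=
        IsOpenImmersion.lift (𝔚.lvU hW n V.1.1).ι ((O.ι ⁻¹ᵁ 𝔚.lvU hW n V.1.1).ι ≫ O.ι) (by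
          rw [Scheme.Opens.range_ι]
          rintro _ ⟨w, rfl⟩
          exact w.2)
      have key : ∀ (W₀ : (𝔚.X 0).affineOpens) (le : 𝔚.lvU hW n V.1.1 ≤ 𝔚.lvU hW n W₀.1)
          (le' : O ≤ 𝔚.lvU hW n W₀.1) (hV' : V.1.1 ≤ W₀.1),
          (O.ι ⁻¹ᵁ 𝔚.lvU hW n V.1.1).ι ≫ (𝔚.X n).homOfLE le' ≫ toSpecO 𝔚 hW W₀.1 n ≫
            Spec.map (χ W₀) = j ≫ toSpecO 𝔚 hW V.1.1 n ≫ Spec.map (χ V.1) := by
        intro W₀ le le' hV'
        rw [← hres hV', Spec.map_comp, ← Category.assoc (toSpecO 𝔚 hW V.1.1 n), toSpecO_res,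
          Category.assoc]
        simp only [← Category.assoc]
        congr 2
        rw [← cancel_mono (𝔚.lvU hW n W₀.1).ι]
        simp only [Category.assoc, Scheme.homOfLE_ι, j, IsOpenImmersion.lift_fac]
      exact (key W (hVO.trans inf_le_left) inf_le_left (V.2.trans inf_le_left)).trans
        (key W' (hVO.trans inf_le_right) inf_le_right (V.2.trans inf_le_right)).symm
  choose l hl using hlev
  have hlcomm : ∀ n, l n ≫ (FSch.spf C K).ι n = 𝔚.ι n ≫ l (n + 1) := fun n => by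
    refine (cancel_mono (spfToSpec C K (n + 1))).1 (hom_ext_opens _ (hcov n) fun W => ?_)
    simp only [Category.assoc]
    rw [spfToSpec_comm, reassoc_of% hl n W, hlW,
      ← Scheme.Hom.resLE_comp_ι_assoc (𝔚.ι n) (𝔚.lvU_le hW n W.1), reassoc_of% hl (n + 1) W, hlW,
      ← Category.assoc ((𝔚.ι n).resLE _ _ _), toSpecO_succ]
  have hlg : ∀ n, l n ≫ spfToSpec C K n ≫ Spec.map φ =
      (g : Hom _ _).app n ≫ spfToSpec A (I.map (algebraMap R A)) n := fun n => by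
    refine hom_ext_opens _ (hcov n) fun W => ?_
    rw [reassoc_of% hl n W, reassoc_of% hlW n W, ← Spec.map_comp, hχ]
    exact toSpecO_famHom (h := hW) (fun n => (g : Hom _ _).app n ≫ spfToSpec A _ n)
      (adicHom_fam_comm _ g) W.1 n
  refine ⟨⟨l, hlcomm⟩, hlg, fun l' hl' => Hom.ext (funext fun n => ?_)⟩
  refine (cancel_mono (spfToSpec C K n)).1 (hom_ext_opens _ (hcov n) fun W => ?_)
  rw [huni l' hl' n W]
  exact (huni ⟨l, hlcomm⟩ hlg n W).symm

end Groth.Agent.FBlow13
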