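import Groth.Agent.FBlow13.AdmModel
import Groth.Agent.FBlow13.ChartLift

/-!
The charts of an admissible formal blow-up, and the approximation of their sections by quotients
of sections of the base by powers of the distinguished generator.
-/

set_option autoImplicit false

universe u

open CategoryTheory CategoryTheory.Limits AlgebraicGeometry TopologicalSpace Opposite

namespace Groth.Agent.FBlow13

open _root_.FSch

variable {R : Type u} [CommRing R] {I : Ideal R} {𝔛 : Sys.{u}} {h : 𝔛.IsFormal}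
  {p : 𝔛 ⟶ FSch.spf R I}

theorem sharpLE_congr {𝔜 : Sys.{u}} {hY : 𝔜.IsFormal} {f g : 𝔜 ⟶ 𝔛} (e : f = g)
    {U : (𝔛.X 0).Opens} {V : (𝔜.X 0).Opens} (i : V ≤ (f : Hom 𝔜 𝔛).app 0 ⁻¹ᵁ U)
    (i' : V ≤ (g : Hom 𝔜 𝔛).app 0 ⁻¹ᵁ U) :
    sharpLE (hY := hY) (h := h) f i = sharpLE (hY := hY) (h := h) g i' := by
  subst e
  rfl

set_option backward.isDefEq.respectTransparency false in
/-- Over an affine open of the base a blow-up is quasi-compact, and covered by charts, one for each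
generator, whose sections are approximated by quotients. -/
theorem exists_charts_over (hp : IsAdicHom p) (hR : AdicRing.IsBase R I)
    (hfp : ∀ n, LocallyOfFinitePresentation ((p : Hom 𝔛 (FSch.spf R I)).app n))
    (htf : ∀ (U : (𝔛.X 0).Opens) (s : (𝔛.Osh h).obj.obj (op U)),
      (∀ a ∈ (FBlow.IdealSh.ker (𝔛.OshProj h 0)).sect U, a * s = 0) → s = 0)
    {U : (𝔛.X 0).Opens} (hU : IsAffineOpen U) {J : FBlow.IdealSh (𝔛.Osh h)}
    {S : Set (Sec 𝔛 h U)} (hS : S.Finite) (hgen : GenOn J U S)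
    {𝔓 : Sys.{u}} {hP : 𝔓.IsFormal} {b : 𝔓 ⟶ 𝔛} (hb : FBlow.IsAdmBlowUp b hP h J) :
    IsCompact (((b : Hom 𝔓 𝔛).app 0 ⁻¹ᵁ U : (𝔓.X 0).Opens) : Set (𝔓.X 0)) ∧
      ∃ (D : S → (𝔓.X 0).Opens) (e : ∀ a, D a ≤ (b : Hom 𝔓 𝔛).app 0 ⁻¹ᵁ U),
        (∀ y ∈ (b : Hom 𝔓 𝔛).app 0 ⁻¹ᵁ U, ∃ a, y ∈ D a) ∧ (∀ a, IsAffineOpen (D a)) ∧
        (∀ a, GenOn (FBlow.idealMap b hP h J) (D a) {sharpLE (hY := hP) (h := h) b (e a) a.1}) ∧
        (∀ a (c : Sec 𝔓 hP (D a)) (m : ℕ), ∃ (k : ℕ) (z : Sec 𝔛 h U) (c' : Sec 𝔓 hP (D a)),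
          proj 𝔓 hP (D a) m c' = proj 𝔓 hP (D a) m c ∧
            sharpLE (hY := hP) (h := h) b (e a) a.1 ^ k * c' =
              sharpLE (hY := hP) (h := h) b (e a) z) ∧
        ∀ a a' : S, ∃ f : Sec 𝔓 hP (D a'),
          sharpLE (hY := hP) (h := h) b (e a') a.1 = f * sharpLE (hY := hP) (h := h) b (e a') a'.1 ∧
            ∀ M, 𝔓.toX M ⁻¹ᵁ (𝔓.X M).basicOpen (proj 𝔓 hP (D a') M f) ≤ D a := by
  classical
  let := (baseSec h p U).hom.toAlgebra
  have h𝔞 : (Ideal.span S).FG := Submodule.fg_span hS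
  have hgen' : GenOn J U ((Ideal.span S : Ideal (Sec 𝔛 h U)) : Set (Sec 𝔛 h U)) :=
    hgen.congr_span (Ideal.span_eq _).symm
  obtain ⟨P, π, hπ⟩ := exists_isBlowUp_spec (A := Sec 𝔛 h U) (Ideal.span S)
  obtain ⟨e₀, he₀⟩ := (isBlowUpOver_model hp hR hfp htf hU hgen' h𝔞 π hπ).exists_iso
    ((isBlowUpOver_top_iff.2 hb).restrict (le_top (a := U)))
  let k : locModel h U π ⟶ 𝔓 := e₀.hom ≫ 𝔓.restrictOpenι hP ((b : Hom 𝔓 𝔛).app 0 ⁻¹ᵁ U)
  have hiso : ∀ n, IsIso ((e₀.hom : Hom _ _).app n) := fun n =>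
    ⟨(e₀.inv : Hom _ _).app n, congrArg (fun t : Hom _ (locModel h U π) => t.app n) e₀.hom_inv_id,
      congrArg (fun t : Hom _ (𝔓.restrictOpen hP _) => t.app n) e₀.inv_hom_id⟩
  have hk : OpenImm k := fun n => by
    have := hiso n
    have := openImm_restrictOpenι (h := hP) ((b : Hom 𝔓 𝔛).app 0 ⁻¹ᵁ U) n
    rw [comp_app]
    infer_instance
  have hkb : k ≫ b = locModelMap h U π := (Category.assoc _ _ _).trans he₀
  have hrange : ∀ y ∈ (b : Hom 𝔓 𝔛).app 0 ⁻¹ᵁ U, y ∈ Set.range ((k : Hom _ 𝔓).app 0) := by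
    intro y hy
    have := hiso 0
    let z : (𝔓.restrictOpen hP ((b : Hom 𝔓 𝔛).app 0 ⁻¹ᵁ U)).X 0 :=
      ⟨y, (lvU_zero (h := hP) ((b : Hom 𝔓 𝔛).app 0 ⁻¹ᵁ U)).ge hy⟩
    obtain ⟨w, hw⟩ := ((e₀.hom : Hom _ _).app 0).surjective z
    exact ⟨w, (Scheme.Hom.comp_apply _ _ _).trans ((congrArg _ hw).trans rfl)⟩
  have hPf := isFormal_locModel (h := h) U π
  have hd := locModelTo_comm (h := h) U π
  have hC := isComplOf_locModel (h := h) hp hR hU π
  let g := locModelMap h U π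
  have hgU : ∀ V : ((locModel h U π).X 0).Opens,
      V ≤ (g : Hom (locModel h U π) 𝔛).app 0 ⁻¹ᵁ U := by
    intro V v _
    rw [show (g : Hom (locModel h U π) 𝔛).app 0 =
      ((modelProj (𝔖 := 𝔛.restrictOpen h U) (toSpecO 𝔛 h U) (toSpecO_comm U) π :
        Hom _ _).app 0) ≫ (𝔛.restrictOpenι h U : Hom _ 𝔛).app 0 from rfl, Scheme.Hom.comp_preimage]
    exact (restrictOpenι_preimage (h := h) U).ge (show _ ∈ (⊤ : ((𝔛.restrictOpen h U).X 0).Opens) from trivial)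
  have hkey : ∀ (Q : P.Opens) (r : Sec 𝔛 h U),
      sharpLE (hY := hPf) (h := h) g (hgU (locModelTo h U π 0 ⁻¹ᵁ Q)) r =
        compSec (h := hPf) hd Q (baseHom (A := Sec 𝔛 h U) π Q r) := by
    intro Q r
    have h1 := famHom_liftOpen (hY := hPf) (h := h)
      (modelProj (𝔖 := 𝔛.restrictOpen h U) (toSpecO 𝔛 h U) (toSpecO_comm U) π) g rfl (hgU ⊤)
    have h2 := famHom_congr (h := hPf) (B := Sec 𝔛 h U) (fun n => (modelProj_sq (𝔖 := 𝔛.restrictOpen h U)
      (toSpecO 𝔛 h U) (toSpecO_comm U) π n).w) (comp_fam_comm'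
        (modelProj (𝔖 := 𝔛.restrictOpen h U) (toSpecO 𝔛 h U) (toSpecO_comm U) π)
        (toSpecO 𝔛 h U) (toSpecO_comm U))
      (comp_fam_comm (A := Sec 𝔛 h U) hd)
    have h3 := congrArg (fun φ => φ r)
      (famHom_res_eq (h := hPf) (A := Sec 𝔛 h U) (π := π) hd Q (le_refl (locModelTo h U π 0 ⁻¹ᵁ Q)))
    rw [← h2, h1] at h3
    simp only [CommRingCat.comp_apply] at h3
    erw [sharpLE_res, FBlow.IdealSh.map_id_apply (O := (locModel h U π).Osh hPf) le_rfl] at h3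
    exact h3
  constructor
  · have hPc : CompactSpace P := by
      have hcov : (Set.univ : Set P) = ⋃ a ∈ S, (chartOpen π (Ideal.span S) a : Set P) := by
        refine (Set.eq_univ_of_forall fun z => ?_).symm
        obtain ⟨a, ha, hz⟩ := exists_mem_chartOpen_of_span π hπ.1 (S := S) rfl z
        exact Set.mem_iUnion₂.2 ⟨a, ha, hz⟩
      refine ⟨?_⟩
      rw [hcov]
      exact hS.isCompact_biUnion fun a ha =>
        (isAffineOpen_chartOpen π hπ (Ideal.subset_span ha)).isCompact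
    have := hC.isClosedImmersion 0
    have : CompactSpace ((locModel h U π).X 0) := (locModelTo h U π 0).isClosedEmbedding.compactSpace
    have himg : (((b : Hom 𝔓 𝔛).app 0 ⁻¹ᵁ U : (𝔓.X 0).Opens) : Set (𝔓.X 0)) =
        Set.range ((k : Hom _ 𝔓).app 0) := by
      refine Set.Subset.antisymm hrange ?_
      rintro _ ⟨w, rfl⟩
      have : (g : Hom (locModel h U π) 𝔛).app 0 w ∈ U := hgU ⊤ (show w ∈ (⊤ : ((locModel h U π).X 0).Opens) from trivial)
      rw [← show ((k ≫ b : locModel h U π ⟶ 𝔛) : Hom _ 𝔛).app 0 = (g : Hom _ 𝔛).app 0 from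
        congrArg (fun t : Hom _ 𝔛 => t.app 0) hkb] at this
      exact this
    rw [himg]
    exact isCompact_range ((k : Hom _ 𝔓).app 0).continuous
  have ha' : ∀ a : S, a.1 ∈ Ideal.span S := fun a => Ideal.subset_span a.2
  let Q := fun a : S => chartOpen π (Ideal.span S) a.1
  have hQ : ∀ a, IsAffineOpen (Q a) := fun a => isAffineOpen_chartOpen π hπ (ha' a)
  let D₀ := fun a : S => locModelTo h U π 0 ⁻¹ᵁ Q a
  have hD₀ : ∀ a, IsAffineOpen (D₀ a) := fun a =>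
    have := hC.isClosedImmersion 0
    (hQ a).preimage (locModelTo h U π 0)
  have e : ∀ a, hk.img (D₀ a) ≤ (b : Hom 𝔓 𝔛).app 0 ⁻¹ᵁ U := by
    rintro a _ ⟨v, hv, rfl⟩
    have h1 : (g : Hom (locModel h U π) 𝔛).app 0 v ∈ U := hgU (D₀ a) hv
    rw [← show ((k ≫ b : locModel h U π ⟶ 𝔛) : Hom _ 𝔛).app 0 = (g : Hom _ 𝔛).app 0 from
      congrArg (fun t : Hom _ 𝔛 => t.app 0) hkb] at h1
    exact h1
  let τ := fun a => sharpLE (hY := hPf) (h := hP) k (hk.le_preimage_img (D₀ a))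
  let σ := fun a => sharpLE (hY := hP) (h := h) b (e a)
  have hτ := fun a => hk.sharpLE_bijective (hY := hPf) (h := hP) (D₀ a)
  have hcomp : ∀ a r, τ a (σ a r) =
      compSec (h := hPf) hd (Q a) (baseHom (A := Sec 𝔛 h U) π (Q a) r) := fun a r => by
    rw [← hkey]
    have e₃ : D₀ a ≤ ((k ≫ b : locModel h U π ⟶ 𝔛) : Hom _ 𝔛).app 0 ⁻¹ᵁ U :=
      fun z hz => e a (hk.le_preimage_img (D₀ a) hz)
    exact (congrArg (fun φ : Sec 𝔛 h U ⟶ Sec _ hPf (D₀ a) => φ r)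
      (sharpLE_sharpLE (hY := hP) k b (e a) (hk.le_preimage_img (D₀ a)) e₃)).trans
        (congrArg (fun φ : Sec 𝔛 h U ⟶ Sec _ hPf (D₀ a) => φ r) (sharpLE_congr hkb e₃ (hgU (D₀ a))))
  have hdiv : ∀ (a : S) (s : Sec 𝔛 h U), s ∈ S → ∃ (c : Γ(P, Q a)) (f : Sec 𝔓 hP (hk.img (D₀ a))),
      σ a s = f * σ a a.1 ∧ τ a f = compSec (h := hPf) hd (Q a) c ∧
        baseHom (A := Sec 𝔛 h U) π (Q a) s = c * baseHom (A := Sec 𝔛 h U) π (Q a) a.1 := by
    intro a s hs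
    obtain ⟨ε, hε⟩ := exists_iso_sections π hπ (ha' a)
    obtain ⟨c, hc⟩ := affineAlgebra_div (a := a.1) (Ideal.subset_span hs : s ∈ Ideal.span S)
    obtain ⟨f, hf⟩ := (hτ a).2 (compSec (h := hPf) hd (Q a) (ε c))
    have h1 := congrArg ε hc
    rw [map_mul, hε, hε] at h1
    refine ⟨ε c, f, (hτ a).1 ?_, hf, h1⟩
    change τ a (σ a s) = τ a (f * σ a a.1)
    rw [map_mul, hcomp, hcomp, h1, map_mul]
    exact congrArg (· * _) hf.symm
  refine ⟨fun a => hk.img (D₀ a), e, fun y hy => ?_,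
    fun a => have := hk 0; (hD₀ a).image_of_isOpenImmersion ((k : Hom _ 𝔓).app 0),
    fun a => ?_, fun a c m => ?_, fun a a' => ?_⟩
  · obtain ⟨w, rfl⟩ := hrange y hy
    obtain ⟨a, ha, hwa⟩ := exists_mem_chartOpen_of_span π hπ.1 (S := S) rfl (locModelTo h U π 0 w)
    exact ⟨⟨a, ha⟩, w, hwa, rfl⟩
  · refine ((genOn_idealMap (hY := hP) b hgen).restrict (e a)).congr_span
      (le_antisymm (Ideal.span_le.2 ?_) (Ideal.span_le.2 (Set.singleton_subset_iff.2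
        (Ideal.subset_span ⟨_, ⟨a.1, a.2, rfl⟩, rfl⟩))))
    rintro _ ⟨_, ⟨s, hs, rfl⟩, rfl⟩
    obtain ⟨c, f, hf, -⟩ := hdiv a s hs
    exact Ideal.mem_span_singleton'.2 ⟨f, hf.symm⟩
  · obtain ⟨ε, hε⟩ := exists_iso_sections π hπ (ha' a)
    obtain ⟨q, hq⟩ := (hC.proj_schSharp (h := hPf) hd (hQ a) m).1 (proj _ hPf (D₀ a) m (τ a c))
    obtain ⟨⟨r, ⟨_, n, rfl⟩⟩, hr⟩ :=
      IsLocalization.surj (Submonoid.powers a.1) ((ε.symm q : BlowUp.affineAlgebra (Sec 𝔛 h U)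
        (Ideal.span S) a.1) : Localization.Away a.1)
    have h0 : ε.symm q * algebraMap (Sec 𝔛 h U) (BlowUp.affineAlgebra _ (Ideal.span S) a.1) (a.1 ^ n) =
        algebraMap (Sec 𝔛 h U) _ r := Subtype.ext hr
    have h0' := congrArg ε h0
    rw [map_mul, ε.apply_symm_apply, hε, hε] at h0'
    obtain ⟨c', hc'⟩ := (hτ a).2 (compSec (h := hPf) hd (Q a) q)
    refine ⟨n, r, c', ?_, (hτ a).1 ?_⟩
    · have := hk.isIso_appLE (hY := hPf) (h := hP) (D₀ a) m
      refine (ConcreteCategory.bijective_of_isIso (((k : Hom _ 𝔓).app m).appLE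
        (𝔓.lvU hP m (hk.img (D₀ a))) ((locModel h U π).lvU hPf m (D₀ a))
        (lvU_le_preimage k (hk.le_preimage_img (D₀ a)) m))).1 ?_
      rw [← CommRingCat.comp_apply, ← CommRingCat.comp_apply,
        ← sharpLE_proj (hY := hPf) (h := hP) k (hk.le_preimage_img (D₀ a)) m, CommRingCat.comp_apply,
        CommRingCat.comp_apply, hc']
      exact hq
    · let θ : Γ(P, Q a) →+* Sec (locModel h U π) hPf (D₀ a) := (compSec (h := hPf) hd (Q a)).hom
      have hq' : θ q = τ a c' := hc'.symm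
      have h1 := congrArg θ h0'
      rw [map_mul, hq', map_pow (baseHom (A := Sec 𝔛 h U) π (Q a)).hom, map_pow θ] at h1
      change τ a (σ a a.1 ^ n * c') = τ a (σ a r)
      rw [map_mul, map_pow, hcomp, hcomp, mul_comm]
      exact h1
  · obtain ⟨c, f, hf, hfc, hc⟩ := hdiv a' a.1 a.2
    refine ⟨f, hf, fun M y hy => ?_⟩
    have hyD : y ∈ hk.img (D₀ a') :=
      (toX_preimage_lvU (h := hP) M _).le ((𝔓.X M).basicOpen_le _ hy)
    obtain ⟨w, hw, rfl⟩ := hyD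
    have h1 : (locModel h U π).toX M w ∈
        ((locModel h U π).X M).basicOpen (proj _ hPf (D₀ a') M (τ a' f)) := by
      have h2 := ConcreteCategory.congr_hom
        (sharpLE_proj (hY := hPf) (h := hP) k (hk.le_preimage_img (D₀ a')) M) f
      simp only [CommRingCat.comp_apply] at h2
      rw [h2, Scheme.basicOpen_appLE]
      refine ⟨(toX_preimage_lvU (h := hPf) M (D₀ a')).ge hw, ?_⟩
      have h3 : (k : Hom _ 𝔓).app M ((locModel h U π).toX M w) = 𝔓.toX M ((k : Hom _ 𝔓).app 0 w) :=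
        ((Scheme.Hom.comp_apply _ _ _).symm.trans (congrArg
          (fun φ : (locModel h U π).X 0 ⟶ 𝔓.X M => φ w) (Hom.toX_comm k M))).trans
          (Scheme.Hom.comp_apply _ _ _)
      show (k : Hom _ 𝔓).app M ((locModel h U π).toX M w) ∈
        (𝔓.X M).basicOpen (proj 𝔓 hP (hk.img (D₀ a')) M f)
      rw [h3]
      exact hy
    rw [hfc] at h1
    have h4 := ConcreteCategory.congr_hom (compSec_proj (h := hPf) hd (Q a') M) c
    simp only [CommRingCat.comp_apply] at h4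
    rw [h4, Scheme.basicOpen_appLE] at h1
    have h5 : locModelTo h U π M ((locModel h U π).toX M w) = locModelTo h U π 0 w :=
      (Scheme.Hom.comp_apply _ _ _).symm.trans (congrArg
        (fun φ : (locModel h U π).X 0 ⟶ P => φ w) (toX_p (locModel h U π) (locModelTo h U π) hd M))
    have h6 : locModelTo h U π 0 w ∈ P.basicOpen c := h5 ▸ h1.2
    refine ⟨w, ?_, rfl⟩
    show locModelTo h U π 0 w ∈ chartOpen π (Ideal.span S) a.1
    refine MP99.le_maxLE (W := P.basicOpen c) (MP99.comap_le_of_ideal_le fun z hz =>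
      ⟨⟨P.basicOpen c, (hQ a').basicOpen c⟩, hz, le_rfl, ?_⟩) h6
    have hle : (⟨P.basicOpen c, (hQ a').basicOpen c⟩ : P.affineOpens) ≤ ⟨Q a', hQ a'⟩ :=
      P.basicOpen_le c
    obtain ⟨ε, hε⟩ := exists_iso_sections π hπ (ha' a')
    have eK : ∀ K : Ideal (Sec 𝔛 h U), ((FSch.idealSpec (Sec 𝔛 h U) K).comap π).ideal ⟨Q a', hQ a'⟩ =
        K.map (baseHom (A := Sec 𝔛 h U) π (Q a')).hom := fun K => by
      rw [MP99.ideal_comap _ π ⟨⊤, isAffineOpen_top _⟩ ⟨Q a', hQ a'⟩ le_top, idealSpec_ideal_top,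
        Ideal.map_map, ← CommRingCat.hom_comp]
    have e1 : ((FSch.idealSpec (Sec 𝔛 h U) (Ideal.span S)).comap π).ideal ⟨Q a', hQ a'⟩ =
        Ideal.span {baseHom (A := Sec 𝔛 h U) π (Q a') a'.1} := by
      refine (eK _).trans (le_antisymm (Ideal.map_le_iff_le_comap.2 fun x hx => ?_) ?_)
      · obtain ⟨d, hd'⟩ := affineAlgebra_div (a := a'.1) hx
        exact Ideal.mem_comap.2 (Ideal.mem_span_singleton'.2 ⟨ε d, by rw [← hε, ← hε, hd', map_mul]⟩)
      · exact (Ideal.span_singleton_le_iff_mem _).2 (Ideal.mem_map_of_mem _ (ha' a'))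
    have e2 : ((FSch.idealSpec (Sec 𝔛 h U) (Ideal.span {a.1})).comap π).ideal ⟨Q a', hQ a'⟩ =
        Ideal.span {baseHom (A := Sec 𝔛 h U) π (Q a') a.1} := by
      refine (eK _).trans ?_
      rw [Ideal.map_span, Set.image_singleton]
    rw [MP99.ideal_restrict _ hle e1, MP99.ideal_restrict _ hle e2, hc, map_mul]
    exact le_of_eq (Ideal.span_singleton_mul_left_unit
      (RingedSpace.isUnit_res_basicOpen _ c) _).symm

end Groth.Agent.FBlow13
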