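import Groth.Agent.FBlow13.ChartLift

/-!
The chart covering of an admissible formal blow-up of a formal spectrum.
-/

set_option autoImplicit false
set_option maxHeartbeats 400000

universe u

open CategoryTheory CategoryTheory.Limits AlgebraicGeometry TopologicalSpace Opposite

namespace Groth.Agent.FBlow13

open _root_.FSch

variable {R : Type u} [CommRing R] {I : Ideal R} {A : Type u} [CommRing A] [Algebra R A]

/-- A map of rings carrying the ideal of definition onto the ideal of definition gives an adic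
morphism of formal spectra. -/
theorem isAdicHom_spfMap {B : Type u} [CommRing B] (K : Ideal A) (L : Ideal B) (φ : A →+* B)
    (hle : K ≤ L.comap φ) (hKL : K.map φ = L) : IsAdicHom (FSch.spfMap L K φ hle) := fun n => by
  have := (An92.FSch.isFormal_spf L n).1
  have := (An92.FSch.isFormal_spf K n).1
  refine isPullback_of_isClosedImmersion ((FSch.spf B L).ι n) ((FSch.spf A K).ι n) _
    ((FSch.spfMap L K φ hle : Hom _ _).app (n + 1))
    ((FSch.spfMap L K φ hle : Hom _ _).comm n).symm ?_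
  refine An92.FSch.toIdeal_injective (R := CommRingCat.of (B ⧸ L ^ (n + 1 + 1))) ?_
  have h1 : An92.FSch.toIdeal (R := CommRingCat.of (B ⧸ L ^ (n + 1 + 1)))
      (((FSch.spf A K).ι n).ker.comap ((FSch.spfMap L K φ hle : Hom _ _).app (n + 1))) =
      ((K ^ (n + 1)).map (Ideal.Quotient.mk (K ^ (n + 1 + 1)))).map
        (FSch.quotPowMap L K φ hle (n + 1)) := by
    refine (An92.FSch.toIdeal_comap _ (CommRingCat.ofHom (FSch.quotPowMap L K φ hle (n + 1)))).trans ?_
    rw [An92.FSch.toIdeal_ker_ι]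
    rfl
  refine h1.trans (Eq.trans ?_ (An92.FSch.toIdeal_ker_ι L n).symm)
  rw [Ideal.map_map, show (FSch.quotPowMap L K φ hle (n + 1)).comp (Ideal.Quotient.mk _) =
    (Ideal.Quotient.mk _).comp φ from RingHom.ext fun _ => rfl, ← Ideal.map_map, Ideal.map_pow, hKL]

theorem spfMap_spfToSpec {B : Type u} [CommRing B] (K : Ideal A) (L : Ideal B) (φ : A →+* B)
    (hle : K ≤ L.comap φ) (n : ℕ) :
    (FSch.spfMap L K φ hle : Hom _ _).app n ≫ spfToSpec A K n =
      spfToSpec B L n ≫ Spec.map (CommRingCat.ofHom φ) := by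
  change Spec.map _ ≫ Spec.map _ = Spec.map _ ≫ Spec.map _
  rw [← Spec.map_comp, ← Spec.map_comp]
  rfl

variable {r : ℕ} {f : Fin (r + 1) → A}

/-- The chart algebras are topologically of finite type. -/
theorem tft_chartAdm (hR : AdicRing.IsBase R I) (hA : AdicRing.Admissible R I A) (i : Fin (r + 1)) :
    AdicRing.TopFiniteType R I (AdicRing.chartAdm I f i) := by
  obtain ⟨n, φ, hφ⟩ := Frg27.tft_compl_of_finiteType (S := A) (C := AdicRing.chartAlg f i)
    (Frg27.base_fg hR) (hA.1.imp fun _ e => e.imp fun _ e => e.1)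
  refine ⟨n, (Ideal.Quotient.mkₐ R _).comp φ, ?_⟩
  exact (Ideal.Quotient.mkₐ_surjective R _).comp hφ

/-- In a chart algebra all the elements are multiples of the `i`-th one. -/
theorem chartAdm_dvd (i j : Fin (r + 1)) : algebraMap A (AdicRing.chartAdm I f i) (f i) ∣
    algebraMap A (AdicRing.chartAdm I f i) (f j) := by
  by_cases hj : j = i
  · rw [hj]
  · exact ⟨algebraMap (AdicRing.chartAlg f i) (AdicRing.chartAdm I f i) (Frg27.chartVar f i ⟨j, hj⟩), by
      rw [IsScalarTower.algebraMap_apply A (AdicRing.chartAlg f i) (AdicRing.chartAdm I f i),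
        IsScalarTower.algebraMap_apply A (AdicRing.chartAlg f i) (AdicRing.chartAdm I f i),
        ← map_mul, Frg27.mul_chartVar]⟩

/-- The `i`-th element is regular in the chart algebra. -/
theorem chartAdm_regular (i : Fin (r + 1)) :
    algebraMap A (AdicRing.chartAdm I f i) (f i) ∈ nonZeroDivisors (AdicRing.chartAdm I f i) := by
  rw [mem_nonZeroDivisors_iff_right]
  intro x hx
  obtain ⟨y, rfl⟩ := Ideal.Quotient.mk_surjective x
  rw [IsScalarTower.algebraMap_apply A (AdicRing.chartCompl I f i) (AdicRing.chartAdm I f i)] at hx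
  change Ideal.Quotient.mk _ y * Ideal.Quotient.mk _ _ = 0 at hx
  rw [← map_mul, Ideal.Quotient.eq_zero_iff_mem] at hx
  rw [Ideal.Quotient.eq_zero_iff_mem]
  have hdir : Directed (· ≤ ·) fun n : ℕ => Submodule.torsionBy (AdicRing.chartCompl I f i)
      (AdicRing.chartCompl I f i) (algebraMap A (AdicRing.chartCompl I f i) (f i) ^ n) := fun m n =>
    ⟨m + n, Submodule.torsionBy_le_torsionBy_of_dvd _ _ (pow_dvd_pow _ (Nat.le_add_right m n)),
      Submodule.torsionBy_le_torsionBy_of_dvd _ _ (pow_dvd_pow _ (Nat.le_add_left n m))⟩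
  rw [Submodule.mem_iSup_of_directed _ hdir] at hx ⊢
  obtain ⟨n, hn⟩ := hx
  refine ⟨n + 1, ?_⟩
  rw [Submodule.mem_torsionBy_iff, smul_eq_mul] at hn ⊢
  rw [pow_succ, mul_assoc, mul_comm _ y]
  exact hn

variable {𝔚 : Sys.{u}} {hW : 𝔚.IsFormal}

/-- The family generates the inverse image of the ideal it generates. -/
theorem genOn_famF (g : 𝔚 ⟶ FSch.spf A (I.map (algebraMap R A)))
    {hX : (FSch.spf A (I.map (algebraMap R A))).IsFormal} (T : Set (Fin (r + 1))) :
    GenOn (FBlow.idealMap g hW hX (FBlow.schIdealMap (FSch.spf A (I.map (algebraMap R A))) hX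
      (spfToSpec A (I.map (algebraMap R A))) (spfToSpec_comm A (I.map (algebraMap R A)))
      (FBlow.IdealSh.ofData (idealSpec A (Ideal.span (f '' T)))))) ⊤ (famF hW g f '' T) := by
  rw [idealMap_schIdealMap (A := CommRingCat.of A)]
  refine (genOn_schIdealMap_spec (A := CommRingCat.of A) _ _ _).congr_span ?_
  have h1 := Ideal.map_span (famHom hW (fun n => (g : Hom _ _).app n ≫
    spfToSpec A (I.map (algebraMap R A)) n) (adicHom_fam_comm _ g)).hom (f '' T)
  rw [Set.image_image] at h1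
  exact h1

/-- Where the `i`-th generator dominates, it generates the same ideal as all. -/
theorem sect_eq_of_dvdOn {g : 𝔚 ⟶ FSch.spf A (I.map (algebraMap R A))}
    {hX : (FSch.spf A (I.map (algebraMap R A))).IsFormal} {i : Fin (r + 1)} {V : (𝔚.X 0).Opens}
    (hV : DvdOn (famF hW g f) i V) (V' : (𝔚.X 0).Opens) (e : V' ≤ V) :
    (FBlow.idealMap g hW hX (FBlow.schIdealMap (FSch.spf A (I.map (algebraMap R A))) hX
      (spfToSpec A (I.map (algebraMap R A))) (spfToSpec_comm A (I.map (algebraMap R A)))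
      (FBlow.IdealSh.ofData (idealSpec A (Ideal.span (Set.range f)))))).sect V' =
    (FBlow.idealMap g hW hX (FBlow.schIdealMap (FSch.spf A (I.map (algebraMap R A))) hX
      (spfToSpec A (I.map (algebraMap R A))) (spfToSpec_comm A (I.map (algebraMap R A)))
      (FBlow.IdealSh.ofData (idealSpec A (Ideal.span {f i}))))).sect V' := by
  have h1 := (genOn_famF (f := f) (hW := hW) (hX := hX) g Set.univ).restrict (le_top (a := V))
  have h2 := (genOn_famF (f := f) (hW := hW) (hX := hX) g {i}).restrict (le_top (a := V))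
  rw [Set.image_univ, Set.image_univ] at h1
  rw [Set.image_singleton, Set.image_singleton] at h2
  have h3 := h1.congr_span (S' := rs (𝔚.Osh hW) le_top '' {famF hW g f i}) (by
    refine le_antisymm (Ideal.span_le.2 ?_)
      (Ideal.span_mono (Set.image_mono (Set.singleton_subset_iff.2 ⟨i, rfl⟩)))
    rintro _ ⟨_, ⟨j, rfl⟩, rfl⟩
    obtain ⟨c, hc⟩ := hV j
    exact hc.symm ▸ Ideal.mul_mem_left _ c (Ideal.subset_span ⟨_, rfl, rfl⟩))
  rw [h3.sect_eq e, h2.sect_eq e]

/-- Conversely. -/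
theorem exists_dvdOn_of_sect_eq {g : 𝔚 ⟶ FSch.spf A (I.map (algebraMap R A))}
    {hX : (FSch.spf A (I.map (algebraMap R A))).IsFormal} {i : Fin (r + 1)} {V : (𝔚.X 0).Opens}
    (hV : (FBlow.idealMap g hW hX (FBlow.schIdealMap (FSch.spf A (I.map (algebraMap R A))) hX
      (spfToSpec A (I.map (algebraMap R A))) (spfToSpec_comm A (I.map (algebraMap R A)))
      (FBlow.IdealSh.ofData (idealSpec A (Ideal.span (Set.range f)))))).sect V =
      (FBlow.idealMap g hW hX (FBlow.schIdealMap (FSch.spf A (I.map (algebraMap R A))) hX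
      (spfToSpec A (I.map (algebraMap R A))) (spfToSpec_comm A (I.map (algebraMap R A)))
      (FBlow.IdealSh.ofData (idealSpec A (Ideal.span {f i}))))).sect V)
    {x : 𝔚.X 0} (hx : x ∈ V) : ∃ V', x ∈ V' ∧ DvdOn (famF hW g f) i V' := by
  have h1 := genOn_famF (f := f) (hW := hW) (hX := hX) g Set.univ
  have h2 := genOn_famF (f := f) (hW := hW) (hX := hX) g {i}
  rw [Set.image_univ, Set.image_univ] at h1
  rw [Set.image_singleton, Set.image_singleton] at h2
  have hmem : ∀ j, res 𝔚 hW le_top (famF hW g f j) ∈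
      locSpan ({famF hW g f i} : Set (Sec 𝔚 hW ⊤)) (le_top (a := V)) := fun j => by
    rw [← h2.sect_eq (le_top (a := V)), ← hV]
    exact h1.span_le le_top (Ideal.subset_span ⟨_, ⟨j, rfl⟩, rfl⟩)
  choose W e hxW hW' using fun j => hmem j x hx
  refine ⟨Finset.univ.inf W, ?_, fun j => ?_⟩
  · rw [← SetLike.mem_coe, Opens.coe_finset_inf, Finset.inf_eq_iInf]
    simpa using hxW
  · have hj := hW' j
    rw [Set.image_singleton, Ideal.mem_span_singleton'] at hj
    obtain ⟨c, hc⟩ := hj
    refine ⟨res 𝔚 hW (Finset.inf_le (Finset.mem_univ j)) c, ?_⟩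
    have h3 := congrArg (res 𝔚 hW (Finset.inf_le (Finset.mem_univ j) : Finset.univ.inf W ≤ W j)) hc
    rw [map_mul] at h3
    simp only [res, rs, FBlow.IdealSh.map_comp_apply] at h3 ⊢
    exact h3.symm

/-- A regular dominating family is invertible. -/
theorem invOn_of_chartOver {g : 𝔚 ⟶ FSch.spf A (I.map (algebraMap R A))} {i : Fin (r + 1)}
    (hc : ChartOver hW g f i) : InvOn ⊤ (Set.range (famF hW g f)) := fun x _ => by
  obtain ⟨V, hxV, hV⟩ := hc.2 x
  refine ⟨V, le_top, hxV, res 𝔚 hW le_top (famF hW g f i),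
    Ideal.subset_span ⟨_, ⟨i, rfl⟩, rfl⟩, ?_, fun V' e t ht => hc.1 V' t ?_⟩
  · rintro _ ⟨j, rfl⟩
    obtain ⟨c, hc'⟩ := hV j
    exact ⟨c, hc'.trans (mul_comm _ _)⟩
  · simp only [rs, res, FBlow.IdealSh.map_comp_apply] at ht ⊢
    exact ht

theorem invOn_famF {g : 𝔚 ⟶ FSch.spf A (I.map (algebraMap R A))}
    {hX : (FSch.spf A (I.map (algebraMap R A))).IsFormal}
    (hg : (FBlow.idealMap g hW hX (FBlow.schIdealMap (FSch.spf A (I.map (algebraMap R A))) hX
      (spfToSpec A (I.map (algebraMap R A))) (spfToSpec_comm A (I.map (algebraMap R A)))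
      (FBlow.IdealSh.ofData (idealSpec A (Ideal.span (Set.range f)))))).IsInvertible) :
    InvOn ⊤ (Set.range (famF hW g f)) := by
  have h1 := genOn_famF (f := f) (hW := hW) (hX := hX) g Set.univ
  rw [Set.image_univ, Set.image_univ] at h1
  exact (isInvertible_iff_invOn h1).1 hg

variable {𝔜 : Sys.{u}} {hY : 𝔜.IsFormal}

theorem famF_comp (k : 𝔜 ⟶ 𝔚) (g : 𝔚 ⟶ FSch.spf A (I.map (algebraMap R A))) (j : Fin (r + 1)) :
    famF hY (k ≫ g) f j =
      sharpLE (hY := hY) (h := hW) k (U := ⊤) (V := ⊤) (le_preimage_top _ _) (famF hW g f j) := by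
  have h1 := famHom_comp (h := hW) (hY := hY) k
    (fun n => (g : Hom _ _).app n ≫ spfToSpec A (I.map (algebraMap R A)) n) (adicHom_fam_comm _ g)
  refine Eq.trans ?_ (congrArg (fun φ : CommRingCat.of A ⟶ Sec 𝔜 hY ⊤ => φ (f j)) h1).symm
  exact congrArg (fun φ : CommRingCat.of A ⟶ Sec 𝔜 hY ⊤ => φ (f j))
    (famHom_congr (fun n => Category.assoc _ _ _) _ _)

theorem DvdOn.pullback {g : 𝔚 ⟶ FSch.spf A (I.map (algebraMap R A))} (k : 𝔜 ⟶ 𝔚) {i : Fin (r + 1)}
    {V : (𝔚.X 0).Opens} (hV : DvdOn (famF hW g f) i V) :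
    DvdOn (famF hY (k ≫ g) f) i ((k : Hom 𝔜 𝔚).app 0 ⁻¹ᵁ V) := fun j => by
  obtain ⟨c, hc⟩ := hV j
  refine ⟨sharpLE (hY := hY) (h := hW) k (le_refl _) c, ?_⟩
  have h1 := congrArg (sharpLE (hY := hY) (h := hW) k
    (le_refl ((k : Hom 𝔜 𝔚).app 0 ⁻¹ᵁ V))) hc
  rw [map_mul, sharpLE_res_left, sharpLE_res_left] at h1
  rw [famF_comp (hW := hW), famF_comp (hW := hW), sharpLE_res, sharpLE_res]
  exact h1

variable {k : ℕ} {hX : (FSch.spf A (I.map (algebraMap R A))).IsFormal} {𝔓 : Sys.{u}}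
  {hP : 𝔓.IsFormal} {b : 𝔓 ⟶ FSch.spf A (I.map (algebraMap R A))}

/-- The locus where the `i`-th element dominates. -/
noncomputable def chartLocus (hP : 𝔓.IsFormal) (b : 𝔓 ⟶ FSch.spf A (I.map (algebraMap R A)))
    (f : Fin (r + 1) → A) (i : Fin (r + 1)) : (𝔓.X 0).Opens :=
  ⟨{x | ∃ V, x ∈ V ∧ DvdOn (famF hP b f) i V},
    isOpen_iff_forall_mem_open.2 fun _ ⟨V, hxV, hV⟩ => ⟨V, fun _ hy => ⟨V, hy, hV⟩, V.isOpen, hxV⟩⟩

set_option backward.isDefEq.respectTransparency false in
/-- On the chart the `i`-th element is regular and dominates. -/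
theorem chartOver_spfMap (hR : AdicRing.IsBase R I) {C : Type u} [CommRing C] [Algebra R C]
    [Algebra A C] [IsScalarTower R A C] (hCT : AdicRing.TopFiniteType R I C) (i : Fin (r + 1))
    (hdvdC : ∀ j, algebraMap A C (f i) ∣ algebraMap A C (f j))
    (hregC : algebraMap A C (f i) ∈ nonZeroDivisors C)
    (hi : (FSch.spf C (I.map (algebraMap R C))).IsFormal)
    (hle : (I.map (algebraMap R A)) ≤ (I.map (algebraMap R C)).comap (algebraMap A C)) :
    DvdOn (famF hi (FSch.spfMap (I.map (algebraMap R C)) (I.map (algebraMap R A)) (algebraMap A C) hle)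
      f) i ⊤ ∧
    ChartOver hi (FSch.spfMap (I.map (algebraMap R C)) (I.map (algebraMap R A)) (algebraMap A C) hle)
      f i := by
  let KA := I.map (algebraMap R A)
  let K := I.map (algebraMap R C)
  let φ : CommRingCat.of A ⟶ CommRingCat.of C := CommRingCat.ofHom (algebraMap A C)
  let s := FSch.spfMap K KA (algebraMap A C) hle
  have hs : ∀ n, (s : Hom _ _).app n ≫ spfToSpec A KA n = spfToSpec C K n ≫ Spec.map φ :=
    spfMap_spfToSpec KA K _ hle
  have hfs : ∀ j, famF hi s f j =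
      famHom hi (spfToSpec C K) (spfToSpec_comm C K) (algebraMap A C (f j)) := fun j => by
    refine congrArg (fun ξ : CommRingCat.of A ⟶ Sec (FSch.spf C K) hi ⊤ => ξ (f j))
      ((famHom_congr hs _ _).trans (famHom_postcomp (spfToSpec C K) (spfToSpec_comm C K) φ))
  have hdvd : DvdOn (famF hi s f) i ⊤ := fun j => by
    obtain ⟨c, hc⟩ := hdvdC j
    refine ⟨res _ hi le_top (famHom hi (spfToSpec C K) (spfToSpec_comm C K) c), ?_⟩
    rw [hfs, hfs, ← map_mul, ← map_mul, hc, mul_comm]
  have hreg : RegOn (famF hi s f) i := by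
    have hC : IsComplOf (R := R) (A := C) I (𝟙 (Spec (CommRingCat.of C))) (spfToSpec C K) :=
      { isClosedImmersion := fun n => isClosedImmersion_spfToSpec K n
        ker_eq := fun n => by
          have := isClosedImmersion_spfToSpec K n
          rw [Scheme.IdealSheafData.comap_id]
          refine An92.FSch.toIdeal_injective ?_
          rw [An92.FSch.toIdeal_idealSpec]
          exact An92.FSch.toIdeal_ker.trans Ideal.mk_ker }
    have hinv := hC.isInvertible (h := hi) (spfToSpec_comm C K) hR hCT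
      (𝔞 := Ideal.span {algebraMap A C (f i)}) fun z => ⟨⊤, trivial,
        ⟨isAffineOpen_top _, RingHom.FiniteType.of_surjective _ ?_⟩, algebraMap A C (f i),
        Ideal.mem_span_singleton_self _, ?_, ?_⟩
    · have h1 := genOn_schIdealMap_spec (h := hi) (A := CommRingCat.of C)
        (fun n => spfToSpec C K n ≫ 𝟙 _) (comp_fam_comm (spfToSpec_comm C K))
        (Ideal.span {algebraMap A C (f i)})
      have h2 := (isInvertible_iff_invOn (h1.congr_span (S' := Set.range fun _ : Unit => famF hi s f i)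
        (by
          refine Eq.trans (Ideal.map_span _ _).symm.symm ?_
          rw [Set.image_singleton, Set.range_const, hfs]
          exact congrArg (fun ξ : CommRingCat.of C ⟶ Sec (FSch.spf C K) hi ⊤ =>
            Ideal.span {ξ (algebraMap A C (f i))})
              (famHom_congr (fun n => Category.comp_id _) _ _)))).1 hinv
      exact fun V t ht => regOn_of_invOn (i := ()) h2
        (fun x => ⟨⊤, trivial, fun _ => ⟨1, (one_mul _).symm⟩⟩) V t ht
    all_goals
      have hid : baseHom (𝟙 (Spec (CommRingCat.of C))) ⊤ = (Scheme.ΓSpecIso (CommRingCat.of C)).inv := by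
        simp [baseHom, Scheme.Hom.appLE]
    · rw [hid]
      exact (ConcreteCategory.bijective_of_isIso _).2
    · rw [hid]
      let e := (Scheme.ΓSpecIso (CommRingCat.of C)).symm.commRingCatIsoToRingEquiv
      exact MulEquivClass.map_nonZeroDivisors e ▸
        Submonoid.mem_map.2 ⟨_, hregC, rfl⟩
    · rw [hid, Ideal.map_span, Set.image_singleton]
  exact ⟨hdvd, hreg, fun x => ⟨⊤, trivial, hdvd⟩⟩

/-- A system over `Spf A` with regular dominating generator factors through the blow-up. -/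
theorem existsUnique_of_chartOver
    (hb : FBlow.IsAdmBlowUp b hP hX (FBlow.schIdealMap (FSch.spf A (I.map (algebraMap R A))) hX
      (spfToSpec A (I.map (algebraMap R A))) (spfToSpec_comm A (I.map (algebraMap R A)))
      (FBlow.IdealSh.ofData (idealSpec A (Ideal.span (Set.range f))))))
    {g : 𝔚 ⟶ FSch.spf A (I.map (algebraMap R A))} (hg : IsAdicHom g) {i : Fin (r + 1)}
    (hc : ChartOver hW g f i) : ∃! u : 𝔚 ⟶ 𝔓, u ≫ b = g := by
  have h1 := genOn_famF (f := f) (hW := hW) (hX := hX) g Set.univ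
  rw [Set.image_univ, Set.image_univ] at h1
  exact hb.2.2 _ hW g hg ((isInvertible_iff_invOn h1).2 (invOn_of_chartOver hc))

set_option backward.isDefEq.respectTransparency false in
/-- An object with the universal property of the chart is the chart of the blow-up. -/
theorem exists_chart_of_lift
    (hb : FBlow.IsAdmBlowUp b hP hX (FBlow.schIdealMap (FSch.spf A (I.map (algebraMap R A))) hX
      (spfToSpec A (I.map (algebraMap R A))) (spfToSpec_comm A (I.map (algebraMap R A)))
      (FBlow.IdealSh.ofData (idealSpec A (Ideal.span (Set.range f))))))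
    (i : Fin (r + 1)) {𝔖 : Sys.{u}} (hi : 𝔖.IsFormal)
    (s : 𝔖 ⟶ FSch.spf A (I.map (algebraMap R A))) (hsadic : IsAdicHom s)
    (hdvd : DvdOn (famF hi s f) i ⊤) (hcs : ChartOver hi s f i)
    (hlift : ∀ (𝔚 : Sys.{u}) (hW : 𝔚.IsFormal) (g : 𝔚 ⟶ FSch.spf A (I.map (algebraMap R A))),
      IsAdicHom g → ChartOver hW g f i → ∃! l : 𝔚 ⟶ 𝔖, l ≫ s = g) :
    ∃ u : 𝔖 ⟶ 𝔓, u ≫ b = s ∧ OpenImm u ∧
      Set.range ((u : Hom 𝔖 𝔓).app 0).base = (chartLocus hP b f i : Set (𝔓.X 0)) := by
  obtain ⟨u, hu, -⟩ := existsUnique_of_chartOver (f := f) hb hsadic hcs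
  let U := chartLocus hP b f i
  have hU' := isFormal_restrictOpen hP U
  have hcU : ChartOver hU' (𝔓.restrictOpenι hP U ≫ b) f i := by
    have hdom : ∀ x, ∃ V, x ∈ V ∧ DvdOn (famF hU' (𝔓.restrictOpenι hP U ≫ b) f) i V := fun x => by
      obtain ⟨V, hxV, hV⟩ : (𝔓.restrictOpenι hP U : Hom _ _).app 0 x ∈ U :=
        (restrictOpenι_preimage (h := hP) U).ge (show x ∈ (⊤ : Opens _) from trivial)
      exact ⟨_, hxV, hV.pullback (hY := hU') _⟩
    exact ⟨regOn_of_invOn (invOn_famF (isInvertible_restrict hP b U hb.2.1)) hdom, hdom⟩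
  obtain ⟨v, hvs, -⟩ := hlift _ hU' _ (isAdicHom_comp (isAdicHom_restrictOpenι U) hb.1) hcU
  have hvu : v ≫ u = 𝔓.restrictOpenι hP U :=
    (hb.2.2 _ hU' _ (isAdicHom_comp (isAdicHom_restrictOpenι U) hb.1)
      (isInvertible_restrict hP b U hb.2.1)).unique (y₁ := v ≫ u)
        (by rw [Category.assoc, hu, hvs]) rfl
  have huU : (u : Hom _ 𝔓).app 0 ⁻¹ᵁ U = ⊤ := top_unique fun y _ => by
    obtain ⟨V, j₀, hyV, hV⟩ := exists_dominant (invOn_famF (hX := hX) hb.2.1) ((u : Hom _ 𝔓).app 0 y)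
    obtain ⟨c, hc⟩ := hV i
    let W := (u : Hom _ 𝔓).app 0 ⁻¹ᵁ V
    have hfu : ∀ j, res _ hi le_top (famF hi s f j) = sharpLE (hY := hi) (h := hP) u (le_refl W)
        (res 𝔓 hP le_top (famF hP b f j)) := fun j => by
      rw [← hu, famF_comp (hW := hP) u b j, sharpLE_res_left, sharpLE_res]
    obtain ⟨d, hd⟩ := (hdvd.mono (le_top (a := W))) j₀
    have hunit : IsUnit (sharpLE (hY := hi) (h := hP) u (le_refl W) c) := by
      refine isUnit_iff_exists_inv.2 ⟨d, sub_eq_zero.1 (hcs.1 W _ ?_)⟩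
      have hc' : res _ hi le_top (famF hi s f i) =
          sharpLE (hY := hi) (h := hP) u (le_refl W) c * res _ hi le_top (famF hi s f j₀) := by
        rw [hfu i, hfu j₀, hc, map_mul]
      linear_combination (-sharpLE (hY := hi) (h := hP) u (le_refl W) c) * hd - hc'
    obtain ⟨V', e, hyV', w, hw⟩ := exists_isUnit_of_sharpLE u (le_refl W) c (y := y) hyV hunit
    refine ⟨V', hyV', fun j => ?_⟩
    obtain ⟨cj, hcj⟩ := hV j
    refine ⟨res 𝔓 hP e cj * ↑w⁻¹, ?_⟩
    have h1 : ∀ j (z : Sec 𝔓 hP V), res 𝔓 hP le_top (famF hP b f j) = z * res 𝔓 hP le_top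
        (famF hP b f j₀) → res 𝔓 hP le_top (famF hP b f j) =
          res 𝔓 hP e z * res 𝔓 hP le_top (famF hP b f j₀) := fun j z hz => by
      have := congrArg (res 𝔓 hP e) hz
      rw [map_mul] at this
      simp only [res, FBlow.IdealSh.map_comp_apply] at this ⊢
      exact this
    rw [h1 j cj hcj, h1 i c hc, ← hw]
    linear_combination -(res 𝔓 hP e cj * res 𝔓 hP le_top (famF hP b f j₀)) * w.mul_inv
  obtain ⟨u', hu', -⟩ := existsUnique_liftOpen (h := hP) u hi huU
  have h₁ : u' ≫ v = 𝟙 _ := (hlift _ hi s hsadic hcs).unique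
    (by rw [Category.assoc, hvs, ← Category.assoc, hu', hu]) (Category.id_comp s)
  have h₂ : v ≫ u' = 𝟙 _ := (existsUnique_liftOpen (h := hP) (𝔓.restrictOpenι hP U) hU'
    (restrictOpenι_preimage U)).unique (by rw [Category.assoc, hu', hvu]) (Category.id_comp _)
  have hiso : ∀ n, IsIso ((u' : Hom _ (𝔓.restrictOpen hP U)).app n) := fun n =>
    ⟨(v : Hom (𝔓.restrictOpen hP U) _).app n, congrArg (fun t : Hom _ _ => t.app n) h₁,
      congrArg (fun t : Hom _ _ => t.app n) h₂⟩
  refine ⟨u, hu, fun n => ?_, ?_⟩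
  · have := hiso n
    have := openImm_restrictOpenι (h := hP) U n
    rw [← hu', comp_app]
    infer_instance
  · have := hiso 0
    refine Set.Subset.antisymm (Set.range_subset_iff.2 fun y =>
      huU.ge (show y ∈ (⊤ : Opens _) from trivial)) fun x hx => ?_
    obtain ⟨w, hw⟩ := ((u' : Hom _ (𝔓.restrictOpen hP U)).app 0).surjective
      ⟨x, (lvU_zero (h := hP) U).ge hx⟩
    refine ⟨w, ?_⟩
    rw [← hu']
    exact (Scheme.Hom.comp_apply _ _ _).trans ((congrArg _ hw).trans rfl)

/-- The chart lifting in terms of morphisms of formal spectra. -/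
theorem existsUnique_chartLift_spfMap (hR : AdicRing.IsBase R I) (hA : AdicRing.Admissible R I A)
    (hopen : (I ^ k).map (algebraMap R A) ≤ Ideal.span (Set.range f)) {i : Fin (r + 1)}
    (hle : (I.map (algebraMap R A)) ≤ (I.map (algebraMap R (AdicRing.chartAdm I f i))).comap
      (algebraMap A (AdicRing.chartAdm I f i)))
    {g : 𝔚 ⟶ FSch.spf A (I.map (algebraMap R A))} (hg : IsAdicHom g) (hc : ChartOver hW g f i) :
    ∃! l : 𝔚 ⟶ FSch.spf (AdicRing.chartAdm I f i) (I.map (algebraMap R (AdicRing.chartAdm I f i))),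
      l ≫ FSch.spfMap (I.map (algebraMap R (AdicRing.chartAdm I f i))) (I.map (algebraMap R A))
        (algebraMap A (AdicRing.chartAdm I f i)) hle = g := by
  obtain ⟨l, hl, hlu⟩ := existsUnique_chartLift hR hA hopen hg hc
  have := fun n => isClosedImmersion_spfToSpec (I.map (algebraMap R A)) n
  refine ⟨l, Hom.ext (funext fun n => (cancel_mono (spfToSpec A _ n)).1 ?_),
    fun l' hl' => hlu l' fun n => ?_⟩
  · rw [comp_app, Category.assoc, spfMap_spfToSpec]
    exact hl n
  · rw [← spfMap_spfToSpec (I.map (algebraMap R A)) _ _ hle, ← Category.assoc, ← comp_app]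
    exact congrArg (fun t : Hom 𝔚 (FSch.spf A (I.map (algebraMap R A))) =>
      t.app n ≫ spfToSpec A _ n) hl'

end Groth.Agent.FBlow13
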