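import Groth.Agent.FBlow13.AdmModel

/-!
Blow-ups of products of ideals.
-/

set_option autoImplicit false

universe u

open CategoryTheory CategoryTheory.Limits AlgebraicGeometry TopologicalSpace Opposite

namespace Groth.Agent.FBlow13

open _root_.FSch

variable {R : Type u} [CommRing R] {I : Ideal R} {𝔛 𝔜 : Sys.{u}} {h : 𝔛.IsFormal}
  {hY : 𝔜.IsFormal} {p : 𝔛 ⟶ FSch.spf R I}

/-- A generator of an invertible ideal generates it. -/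
theorem genOn_singleton {A : FBlow.IdealSh (𝔛.Osh h)} {U : (𝔛.X 0).Opens} {a : Sec 𝔛 h U}
    (ha : a ∈ A.sect U) (hA : ∀ (V : (𝔛.X 0).Opens) (i : V ≤ U),
      (∀ t : Sec 𝔛 h V, t * res 𝔛 h i a = 0 → t = 0) ∧
      (∀ s ∈ A.sect V, ∃ t : Sec 𝔛 h V, s = t * res 𝔛 h i a)) : GenOn A U {a} := by
  refine ⟨Set.singleton_subset_iff.2 ha, fun V i s hs => span_le_locSpan _ i ?_⟩
  obtain ⟨t, rfl⟩ := (hA V i).2 s hs
  exact Ideal.mul_mem_left _ _ (Ideal.subset_span ⟨a, rfl, rfl⟩)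

/-- Products of invertible ideals are invertible. -/
theorem invAt_mul {A B : FBlow.IdealSh (𝔛.Osh h)} {x : 𝔛.X 0} (hA : InvAt A x) (hB : InvAt B x) :
    InvAt (FBlow.IdealSh.mul A B) x := by
  obtain ⟨U₁, hx₁, a, ha, hA⟩ := hA
  obtain ⟨U₂, hx₂, b, hb, hB⟩ := hB
  have h1 : U₁ ⊓ U₂ ≤ U₁ := inf_le_left
  have h2 : U₁ ⊓ U₂ ≤ U₂ := inf_le_right
  refine ((((genOn_singleton ha hA).restrict h1).mul ((genOn_singleton hb hB).restrict h2))).invAt_of_invOn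
    (fun y hy => ⟨_, le_rfl, hy, res 𝔛 h h1 a * res 𝔛 h h2 b,
      Ideal.subset_span ⟨_, ⟨_, ⟨a, rfl, rfl⟩, _, ⟨b, rfl, rfl⟩, rfl⟩,
        FBlow.IdealSh.map_id_apply (O := 𝔛.Osh h) le_rfl _⟩, ?_, fun V j t ht => ?_⟩) ⟨hx₁, hx₂⟩
  · rintro _ ⟨_, ⟨a', rfl, rfl⟩, _, ⟨b', rfl, rfl⟩, rfl⟩
    rw [rs, FBlow.IdealSh.map_id_apply]
  · change t * res 𝔛 h j (res 𝔛 h h1 a * res 𝔛 h h2 b) = 0 at ht
    rw [map_mul, ← mul_assoc] at ht
    simp only [res, FBlow.IdealSh.map_comp_apply] at ht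
    exact (hA V (j.trans h1)).1 t ((hB V (j.trans h2)).1 _ ht)

/-- The image of a product generating family. -/
theorem image_prod_set {A B : CommRingCat.{u}} (ψ : A ⟶ B) (S T : Set A) :
    ψ '' {t | ∃ a ∈ S, ∃ b ∈ T, t = a * b} = {t | ∃ a ∈ ψ '' S, ∃ b ∈ ψ '' T, t = a * b} := by
  ext t
  constructor
  · rintro ⟨_, ⟨a, ha, b, hb, rfl⟩, rfl⟩
    exact ⟨_, ⟨a, ha, rfl⟩, _, ⟨b, hb, rfl⟩, map_mul _ _ _⟩
  · rintro ⟨_, ⟨a, ha, rfl⟩, _, ⟨b, hb, rfl⟩, rfl⟩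
    exact ⟨_, ⟨a, ha, b, hb, rfl⟩, map_mul _ _ _⟩

/-- The factors of an invertible product are invertible. -/
theorem InvOn.left_of_prod {U : (𝔛.X 0).Opens} {S T : Set (Sec 𝔛 h U)}
    (hI : InvOn U {t | ∃ a ∈ S, ∃ b ∈ T, t = a * b}) : InvOn U S := by
  intro x hx
  obtain ⟨W, i, hxW, g, hg, hdvd, hnzd⟩ := hI x hx
  set P := {t | ∃ a ∈ S, ∃ b ∈ T, t = a * b}
  rw [Ideal.span, Set.image_eq_range, ← Finsupp.range_linearCombination] at hg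
  obtain ⟨c, hc⟩ := hg
  choose d hd using fun z : P => hdvd z.1 z.2
  have hsum : ∑ z ∈ c.support, c z * d z = 1 := by
    refine sub_eq_zero.1 (hnzd W le_rfl _ ?_)
    rw [rs, FBlow.IdealSh.map_id_apply, sub_mul, one_mul, sub_eq_zero, Finset.sum_mul]
    conv_rhs => rw [← hc, Finsupp.linearCombination_apply, Finsupp.sum]
    exact Finset.sum_congr rfl fun z _ => by rw [smul_eq_mul, hd]; ring
  obtain ⟨⟨_, a, ha, b, hb, rfl⟩, -, V, j, hxV, hu⟩ := exists_isUnit_of_sum_eq_one (h := h) c.support c d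
    hsum x ((lvU_zero (h := h) W).ge hxW)
  set z : P := ⟨a * b, a, ha, b, hb, rfl⟩
  refine ⟨V, j.trans i, hxV, rs (𝔛.Osh h) (j.trans i) a, Ideal.subset_span ⟨a, ha, rfl⟩,
    fun a' ha' => ?_, fun V' k t ht => ?_⟩
  · obtain ⟨u, hu'⟩ := hu
    have hab : rs (𝔛.Osh h) (j.trans i) a * rs (𝔛.Osh h) (j.trans i) b =
        rs (𝔛.Osh h) j g * u := by
      rw [← map_mul, hu', ← map_mul]
      exact (FBlow.IdealSh.map_comp_apply i j _).symm.trans (congrArg _ (hd z))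
    have ha'b : rs (𝔛.Osh h) (j.trans i) a' * rs (𝔛.Osh h) (j.trans i) b =
        rs (𝔛.Osh h) j g * rs (𝔛.Osh h) j (d ⟨a' * b, a', ha', b, hb, rfl⟩) := by
      rw [← map_mul, ← map_mul]
      exact (FBlow.IdealSh.map_comp_apply i j _).symm.trans
        (congrArg _ (hd ⟨a' * b, a', ha', b, hb, rfl⟩))
    refine ⟨rs (𝔛.Osh h) j (d ⟨a' * b, a', ha', b, hb, rfl⟩) * ↑u⁻¹, sub_eq_zero.1 ?_⟩
    set y := rs (𝔛.Osh h) (j.trans i) a' -
      rs (𝔛.Osh h) (j.trans i) a * (rs (𝔛.Osh h) j (d ⟨a' * b, a', ha', b, hb, rfl⟩) * ↑u⁻¹)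
    have hyb : y * rs (𝔛.Osh h) (j.trans i) b = 0 := by
      simp only [y]
      linear_combination ha'b -
        (rs (𝔛.Osh h) j (d ⟨a' * b, a', ha', b, hb, rfl⟩) * ↑u⁻¹) * hab -
        (rs (𝔛.Osh h) j g * rs (𝔛.Osh h) j (d ⟨a' * b, a', ha', b, hb, rfl⟩)) * u.mul_inv
    refine hnzd V j y ((u.mul_left_eq_zero).1 ?_)
    rw [mul_assoc, ← hab]
    linear_combination (rs (𝔛.Osh h) (j.trans i) a) * hyb
  · refine hnzd V' (k.trans j) t ((hu.map (rs (𝔛.Osh h) k).hom).mul_left_eq_zero.1 ?_)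
    have h1 : rs (𝔛.Osh h) (k.trans (j.trans i)) (a * b) =
        rs (𝔛.Osh h) (k.trans j) g * rs (𝔛.Osh h) (k.trans j) (d z) := by
      rw [← map_mul]
      exact (FBlow.IdealSh.map_comp_apply i (k.trans j) _).symm.trans (congrArg _ (hd z))
    have h2 : rs (𝔛.Osh h) k (res 𝔛 h j (d z)) = rs (𝔛.Osh h) (k.trans j) (d z) :=
      FBlow.IdealSh.map_comp_apply j k _
    change t * rs (𝔛.Osh h) (k.trans j) g * rs (𝔛.Osh h) k (res 𝔛 h j (d z)) = 0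
    rw [h2, mul_assoc, ← h1, map_mul, ← mul_assoc]
    have h3 : t * rs (𝔛.Osh h) k (rs (𝔛.Osh h) (j.trans i) a) = 0 := ht
    rw [show rs (𝔛.Osh h) k (rs (𝔛.Osh h) (j.trans i) a) = rs (𝔛.Osh h) (k.trans (j.trans i)) a from
      FBlow.IdealSh.map_comp_apply (j.trans i) k a] at h3
    rw [h3, zero_mul]

theorem prod_set_comm {A : Type u} [CommRing A] (S T : Set A) :
    {t | ∃ a ∈ S, ∃ b ∈ T, t = a * b} = {t | ∃ a ∈ T, ∃ b ∈ S, t = a * b} := by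
  ext t
  exact ⟨fun ⟨a, ha, b, hb, e⟩ => ⟨b, hb, a, ha, e.trans (mul_comm a b)⟩,
    fun ⟨a, ha, b, hb, e⟩ => ⟨b, hb, a, ha, e.trans (mul_comm a b)⟩⟩

/-- A product of locally generated ideals becomes invertible exactly when both do. -/
theorem isInvertible_idealMap_mul_iff (g : 𝔜 ⟶ 𝔛) {J K : FBlow.IdealSh (𝔛.Osh h)}
    (hJ : LocFG h J) (hK : LocFG h K) :
    (FBlow.idealMap g hY h (FBlow.IdealSh.mul J K)).IsInvertible ↔
      (FBlow.idealMap g hY h J).IsInvertible ∧ (FBlow.idealMap g hY h K).IsInvertible := by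
  have key : ∀ y : 𝔜.X 0, ∃ U : (𝔜.X 0).Opens, y ∈ U ∧ ∃ S T : Set (Sec 𝔜 hY U),
      GenOn (FBlow.idealMap g hY h J) U S ∧ GenOn (FBlow.idealMap g hY h K) U T ∧
      GenOn (FBlow.idealMap g hY h (FBlow.IdealSh.mul J K)) U {t | ∃ a ∈ S, ∃ b ∈ T, t = a * b} := by
    intro y
    obtain ⟨U₁, -, hxU₁, -, 𝔞, hgJ, -⟩ := hJ ((g : Hom 𝔜 𝔛).app 0 y) ⊤ trivial
    obtain ⟨U, -, hxU, hUU₁, 𝔟, hgK, -⟩ := hK ((g : Hom 𝔜 𝔛).app 0 y) U₁ hxU₁
    refine ⟨_, hxU, _, _, genOn_idealMap g (hgJ.restrict hUU₁), genOn_idealMap g hgK, ?_⟩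
    exact Eq.mp (congrArg _ (image_prod_set ((Hom.sharp g hY h).hom.app (op U)) _ _))
      (genOn_idealMap g ((hgJ.restrict hUU₁).mul hgK))
  constructor
  · intro hI
    constructor <;> intro y
    · obtain ⟨U, hyU, S, T, hS, -, hST⟩ := key y
      exact hS.invAt_of_invOn (hST.invOn_of_invAt fun z _ => hI z).left_of_prod hyU
    · obtain ⟨U, hyU, S, T, -, hT, hST⟩ := key y
      have h1 := hST.invOn_of_invAt fun z _ => hI z
      rw [prod_set_comm] at h1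
      exact hT.invAt_of_invOn h1.left_of_prod hyU
  · rintro ⟨hA, hB⟩ y
    obtain ⟨U, hyU, S, T, hS, hT, hST⟩ := key y
    exact hST.invAt_of_invOn ((hS.mul hT).invOn_of_invAt fun z _ => invAt_mul (hA z) (hB z)) hyU

/-- No section is annihilated by a power of the ideal of definition. -/
theorem NoBaseTors.pow (hN : NoBaseTors h p) {U : (𝔛.X 0).Opens} (s : Sec 𝔛 h U) :
    ∀ n : ℕ, (∀ t ∈ I ^ n, baseSec h p U t * s = 0) → s = 0 := by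
  intro n
  induction n generalizing s with
  | zero =>
    intro hs
    have := hs 1 (by rw [pow_zero, Ideal.one_eq_top]; trivial)
    rwa [map_one, one_mul] at this
  | succ n ih =>
    intro hs
    refine ih s fun a ha => hN U _ fun c hc => ?_
    rw [← mul_assoc]
    exact (map_mul (baseSec h p U).hom c a).symm ▸ hs (c * a) (by
      rw [pow_succ']; exact Ideal.mul_mem_mul hc ha)

/-- On a formal scheme without torsion the inverse image of an invertible open ideal is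
invertible. -/
theorem isInvertible_idealMap_of_open {ℨ : Sys.{u}} {hZ : ℨ.IsFormal} (hp : IsAdicHom p)
    (hR : AdicRing.IsBase R I) (b : 𝔜 ⟶ 𝔛) (f : ℨ ⟶ 𝔜) {J : FBlow.IdealSh (𝔛.Osh h)}
    (hJ : FBlow.IsCohOpen 𝔛 h J) (hinv : (FBlow.idealMap b hY h J).IsInvertible)
    (hN : NoBaseTors hZ ((f ≫ b) ≫ p)) : (FBlow.idealMap (f ≫ b) hZ h J).IsInvertible := by
  intro z
  obtain ⟨W, hyW, a, ha, hW⟩ := hinv ((f : Hom ℨ 𝔜).app 0 z)
  obtain ⟨U, -, hxU, -, -, -, n, hopen⟩ :=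
    exists_affine_genOn hp hR hJ (((f ≫ b : ℨ ⟶ 𝔛) : Hom ℨ 𝔛).app 0 z) (O := ⊤) trivial
  have h1 : GenOn (FBlow.idealMap (f ≫ b) hZ h J) _ _ :=
    (idealMap_comp (hY := hY) f b J).symm ▸ genOn_idealMap (hY := hZ) f (genOn_singleton ha hW)
  let W' := (f : Hom ℨ 𝔜).app 0 ⁻¹ᵁ W ⊓ ((f ≫ b : ℨ ⟶ 𝔛) : Hom ℨ 𝔛).app 0 ⁻¹ᵁ U
  refine (h1.restrict (inf_le_left : W' ≤ _)).invAt_of_invOn (fun w hw => ⟨W', le_rfl, hw,
    rs (ℨ.Osh hZ) inf_le_left ((Hom.sharp f hZ hY).hom.app (op W) a), Ideal.subset_span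
      ⟨_, ⟨_, ⟨a, rfl, rfl⟩, rfl⟩, FBlow.IdealSh.map_id_apply (O := ℨ.Osh hZ) le_rfl _⟩, ?_,
    fun V j s hs => ?_⟩) (show z ∈ W' from ⟨hyW, hxU⟩)
  · rintro _ ⟨_, ⟨_, rfl, rfl⟩, rfl⟩
    rw [rs, FBlow.IdealSh.map_id_apply]
  refine hN.pow s (n + 1) fun t ht => ?_
  have hmem : baseSec hZ ((f ≫ b) ≫ p) V t ∈ (FBlow.idealMap (f ≫ b) hZ h J).sect V := by
    rw [← baseSec_sharpLE (h := h) (f ≫ b) (j.trans inf_le_right), CommRingCat.comp_apply]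
    exact sharpLE_mem_idealMap (f ≫ b) _ (hopen (Ideal.mem_map_of_mem _ ht))
  rw [(h1.restrict (inf_le_left : W' ≤ _)).sect_eq j] at hmem
  refine (FBlow.IdealSh.bot (ℨ.Osh hZ)).mem_of_local fun y hy => ?_
  obtain ⟨V', k, hyV', hk⟩ := hmem y hy
  refine ⟨V', k, hyV', ?_⟩
  change res ℨ hZ k (baseSec hZ ((f ≫ b) ≫ p) V t * s) = 0
  obtain ⟨c, hc⟩ := Ideal.mem_span_singleton'.1 (Ideal.span_mono (t := {rs (ℨ.Osh hZ) (k.trans j)
    (rs (ℨ.Osh hZ) (inf_le_left : W' ≤ _) ((Hom.sharp f hZ hY).hom.app (op W) a))}) (by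
      rintro _ ⟨_, ⟨_, ⟨_, rfl, rfl⟩, rfl⟩, rfl⟩
      rfl) hk)
  rw [map_mul]
  change rs (ℨ.Osh hZ) k _ * rs (ℨ.Osh hZ) k s = 0
  rw [← hc, mul_assoc]
  refine mul_eq_zero_of_right c ?_
  have h2 := congrArg (rs (ℨ.Osh hZ) k) hs
  rw [map_mul, map_zero, mul_comm] at h2
  refine Eq.trans ?_ h2
  simp only [rs, FBlow.IdealSh.map_comp_apply]

end Groth.Agent.FBlow13
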