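import Groth.Agent.FBlow13.ExtendOpen
import Groth.Agent.FBlow13.Product

/-!
Operations on coherent open ideals: inverse images, products, and their description on a level.
-/

set_option autoImplicit false

universe u

open CategoryTheory CategoryTheory.Limits AlgebraicGeometry TopologicalSpace Opposite

namespace Groth.Agent.FBlow13

open _root_.FSch

/-- A section lies in the ideal sheaf of ideal data if and only if it vanishes on the closed
subscheme. -/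
theorem mem_ofData_iff_subschemeι {X : Scheme.{u}} (𝒜 : X.IdealSheafData) {V : X.Opens}
    (s : Γ(X, V)) : s ∈ (FBlow.IdealSh.ofData 𝒜).sect V ↔ 𝒜.subschemeι.app V s = 0 := by
  constructor
  · intro hs
    choose W j hxW hW using fun x : (𝒜.subschemeι ⁻¹ᵁ V : 𝒜.subscheme.Opens) => hs _ x.2
    refine 𝒜.subscheme.sheaf.eq_of_locally_eq' (fun x => 𝒜.subschemeι ⁻¹ᵁ (W x).1) _
      (fun x => homOfLE (Scheme.Hom.preimage_mono _ (j x)))
      (fun x hx => Opens.mem_iSup.2 ⟨⟨x, hx⟩, hxW ⟨x, hx⟩⟩) _ 0 fun x => ?_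
    erw [map_zero]
    have h1 := hW x
    rw [← 𝒜.ker_subschemeι_app (W x), RingHom.mem_ker] at h1
    refine Eq.trans ?_ h1
    exact (congrArg (fun φ => φ s) (𝒜.subschemeι.naturality (homOfLE (j x)).op)).symm
  · intro hs x hx
    obtain ⟨W, hxW, hW⟩ := MP99.exists_affine_le x (W := V) hx
    refine ⟨W, hW, hxW, ?_⟩
    rw [← 𝒜.ker_subschemeι_app W, RingHom.mem_ker]
    refine (congrArg (fun φ => φ s) (𝒜.subschemeι.naturality (homOfLE hW).op)).trans ?_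
    change 𝒜.subscheme.presheaf.map _ (𝒜.subschemeι.app V s) = 0
    rw [hs, map_zero]

/-- `A ^ n * B` for ideal sheaves. -/
noncomputable def mulPow {T : TopCat.{u}} {O : Sheaf (Opens.grothendieckTopology T) CommRingCat.{u}}
    (A B : FBlow.IdealSh O) : ℕ → FBlow.IdealSh O
  | 0 => B
  | n + 1 => FBlow.IdealSh.mul A (mulPow A B n)

theorem pow_mul_mem_mulPow {T : TopCat.{u}}
    {O : Sheaf (Opens.grothendieckTopology T) CommRingCat.{u}} {A B : FBlow.IdealSh O} {V : Opens T}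
    {a : O.obj.obj (op V)} (ha : a ∈ A.sect V) {n : ℕ} {s : O.obj.obj (op V)}
    (hs : s ∈ (mulPow A B n).sect V) : ∀ l : ℕ, a ^ l * s ∈ (mulPow A B (n + l)).sect V
  | 0 => by rwa [pow_zero, one_mul]
  | l + 1 => by
    rw [pow_succ', mul_assoc]
    exact FBlow.IdealSh.subset_gen _ V ⟨a, ha, _, pow_mul_mem_mulPow ha hs l, rfl⟩

variable {R : Type u} [CommRing R] {I : Ideal R} {𝔛 𝔜 : Sys.{u}} {h : 𝔛.IsFormal}
  {hY : 𝔜.IsFormal} {p : 𝔛 ⟶ FSch.spf R I}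

/-- The description of `ofLevel` on affine opens. -/
theorem mem_ofLevel_affine {A : (𝔛.X 0).Opens} (hA : IsAffineOpen A) {n : ℕ}
    (ℬ : (𝔛.X n).IdealSheafData) (s : Sec 𝔛 h A) :
    s ∈ (FBlow.ofLevel 𝔛 h n ℬ).sect A ↔
      proj 𝔛 h A n s ∈ ℬ.ideal ⟨_, isAffineOpen_lvU (h := h) hA n⟩ := by
  rw [FBlow.mem_ofLevel_iff]
  exact ⟨fun hs => mem_ideal_of_memData ℬ ⟨_, isAffineOpen_lvU (h := h) hA n⟩ hs,
    fun hs => (genOn_ofData ℬ ⟨_, isAffineOpen_lvU (h := h) hA n⟩).1 hs⟩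

theorem exists_openFTOn_of_isCohOpen (hp : IsAdicHom p) (hR : AdicRing.IsBase R I)
    {K : FBlow.IdealSh (𝔛.Osh h)} (hK : FBlow.IsCohOpen 𝔛 h K) {U : (𝔛.X 0).Opens}
    (hU : IsCompact (U : Set (𝔛.X 0))) : ∃ N, OpenFTOn h p K U N := by
  refine exists_openFTOn hU fun x hx => ?_
  obtain ⟨A, hA, hxA, hAU, hgen, ⟨S, hS⟩, n, hn⟩ := exists_affine_genOn hp hR hK x hx
  exact ⟨A, hA, hxA, hAU, S, S.finite_toSet, hgen.congr_span ((Ideal.span_eq _).trans hS.symm), n,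
    fun t ht => hn (Ideal.mem_map_of_mem _ ht)⟩

/-- Over every affine open a coherent open ideal is generated by its sections, which form a
finitely generated open ideal. -/
theorem genOn_of_isCohOpen (hp : IsAdicHom p) (hR : AdicRing.IsBase R I)
    (hft : LocallyOfFiniteType ((p : Hom 𝔛 (FSch.spf R I)).app 0))
    {K : FBlow.IdealSh (𝔛.Osh h)} (hK : FBlow.IsCohOpen 𝔛 h K) {A : (𝔛.X 0).Opens}
    (hA : IsAffineOpen A) :
    GenOn K A (K.sect A : Set (Sec 𝔛 h A)) ∧ (K.sect A).FG ∧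
      ∃ n : ℕ, (I ^ (n + 1)).map (baseSec h p A).hom ≤ K.sect A := by
  obtain ⟨N, hN⟩ := exists_openFTOn_of_isCohOpen hp hR hK hA.isCompact
  obtain ⟨ℬ, hℬ, hKℬ⟩ := exists_levelData hp hR hft hN
  obtain ⟨h1, h2, h3⟩ := genOn_affine hp hR hA N ℬ hℬ fun V hV => (hKℬ V hV).symm
  exact ⟨h1, h2, N, h3⟩

/-- On a quasi-compact formal scheme a coherent open ideal is given on one level. -/
theorem exists_level (hp : IsAdicHom p) (hR : AdicRing.IsBase R I)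
    (hft : LocallyOfFiniteType ((p : Hom 𝔛 (FSch.spf R I)).app 0)) [CompactSpace (𝔛.X 0)]
    {K : FBlow.IdealSh (𝔛.Osh h)} (hK : FBlow.IsCohOpen 𝔛 h K) :
    ∃ (N : ℕ) (ℬ : (𝔛.X N).IdealSheafData), FSch.IdealFT ℬ ∧ K = FBlow.ofLevel 𝔛 h N ℬ := by
  obtain ⟨N, hN⟩ := exists_openFTOn_of_isCohOpen hp hR hK (U := ⊤) (by
    rw [Opens.coe_top]; exact isCompact_univ)
  obtain ⟨ℬ, hℬ, hKℬ⟩ := exists_levelData hp hR hft hN
  exact ⟨N, ℬ, hℬ, FBlow.IdealSh.ext (funext fun V => (hKℬ V le_top).symm)⟩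

/-- Inverse images of coherent open ideals are coherent open ideals. -/
theorem isCohOpen_idealMap (hp : IsAdicHom p) (hR : AdicRing.IsBase R I) (f : 𝔜 ⟶ 𝔛)
    (hf : IsAdicHom f) (hft : LocallyOfFiniteType ((f ≫ p : Hom 𝔜 (FSch.spf R I)).app 0))
    {K : FBlow.IdealSh (𝔛.Osh h)} (hK : FBlow.IsCohOpen 𝔛 h K) :
    FBlow.IsCohOpen 𝔜 hY (FBlow.idealMap f hY h K) := by
  refine isCohOpen_of_local (isAdicHom_comp hf hp) hR hft fun y => ?_
  obtain ⟨U, -, hxU, -, hgen, ⟨S, hS⟩, n, hn⟩ :=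
    exists_affine_genOn hp hR hK ((f : Hom 𝔜 𝔛).app 0 y) (O := ⊤) trivial
  obtain ⟨A, hyA, hA⟩ := MP99.exists_affine_le y (W := (f : Hom 𝔜 𝔛).app 0 ⁻¹ᵁ U) hxU
  refine ⟨A.1, n, hyA, fun z hz => ⟨A.1, A.2, hz, le_rfl, _, ((S.finite_toSet.image _).image _),
    (genOn_idealMap (hY := hY) f (hgen.congr_span ((Ideal.span_eq _).trans hS.symm))).restrict hA,
    fun t ht => ?_⟩⟩
  rw [← baseSec_sharpLE (h := h) f hA, CommRingCat.comp_apply]
  exact sharpLE_mem_idealMap f hA (hn (Ideal.mem_map_of_mem _ ht))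

/-- Products of coherent open ideals are coherent open ideals. -/
theorem isCohOpen_mul (hp : IsAdicHom p) (hR : AdicRing.IsBase R I)
    (hft : LocallyOfFiniteType ((p : Hom 𝔛 (FSch.spf R I)).app 0))
    {J K : FBlow.IdealSh (𝔛.Osh h)} (hJ : FBlow.IsCohOpen 𝔛 h J) (hK : FBlow.IsCohOpen 𝔛 h K) :
    FBlow.IsCohOpen 𝔛 h (FBlow.IdealSh.mul J K) := by
  refine isCohOpen_of_local hp hR hft fun x => ?_
  obtain ⟨A, hxA, -⟩ := MP99.exists_affine_le x (W := ⊤) trivial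
  obtain ⟨hgJ, ⟨S, hS⟩, m, hm⟩ := genOn_of_isCohOpen hp hR hft hJ A.2
  obtain ⟨hgK, ⟨T, hT⟩, n, hn⟩ := genOn_of_isCohOpen hp hR hft hK A.2
  have hfin : ({t | ∃ a ∈ (S : Set (Sec 𝔛 h A.1)), ∃ b ∈ (T : Set (Sec 𝔛 h A.1)), t = a * b}).Finite := by
    refine ((S.finite_toSet.prod T.finite_toSet).image fun q => q.1 * q.2).subset ?_
    rintro t ⟨a, ha, b, hb, rfl⟩
    exact ⟨(a, b), ⟨ha, hb⟩, rfl⟩
  refine ⟨A.1, m + n + 1, hxA, fun z hz => ⟨A.1, A.2, hz, le_rfl, _, hfin,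
    (hgJ.congr_span ((Ideal.span_eq _).trans hS.symm)).mul
      (hgK.congr_span ((Ideal.span_eq _).trans hT.symm)), fun t ht => ?_⟩⟩
  have h1 : baseSec h p A.1 t ∈
      (I ^ (m + 1)).map (baseSec h p A.1).hom * (I ^ (n + 1)).map (baseSec h p A.1).hom := by
    rw [← Ideal.map_mul, ← pow_add]
    exact Ideal.mem_map_of_mem _ (Ideal.pow_le_pow_right (by omega) ht)
  have h2 : J.sect A.1 * K.sect A.1 ≤ (FBlow.IdealSh.mul J K).sect A.1 :=
    Ideal.mul_le.2 fun a ha b hb => FBlow.IdealSh.subset_gen _ A.1 ⟨a, ha, b, hb, rfl⟩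
  exact h2 (Ideal.mul_mono hm hn h1)

theorem isCohOpen_mulPow (hp : IsAdicHom p) (hR : AdicRing.IsBase R I)
    (hft : LocallyOfFiniteType ((p : Hom 𝔛 (FSch.spf R I)).app 0))
    {J K : FBlow.IdealSh (𝔛.Osh h)} (hJ : FBlow.IsCohOpen 𝔛 h J) (hK : FBlow.IsCohOpen 𝔛 h K) :
    ∀ n, FBlow.IsCohOpen 𝔛 h (mulPow J K n)
  | 0 => hK
  | n + 1 => isCohOpen_mul hp hR hft hJ (isCohOpen_mulPow hp hR hft hJ hK n)

end Groth.Agent.FBlow13
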