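import Groth.Agent.FBlow13.PushGen

/-!
Composites of admissible formal blow-ups over a quasi-compact quasi-separated formal scheme.
-/

set_option autoImplicit false

universe u

open CategoryTheory CategoryTheory.Limits AlgebraicGeometry TopologicalSpace Opposite

namespace Groth.Agent.FBlow13

open _root_.FSch

theorem isInvertible_idealMap_mulPow_iff {R : Type u} [CommRing R] {I : Ideal R} {𝔛 𝔜 : Sys.{u}}
    {h : 𝔛.IsFormal} {hY : 𝔜.IsFormal} {p : 𝔛 ⟶ FSch.spf R I} (hp : IsAdicHom p)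
    (hR : AdicRing.IsBase R I) (hft : LocallyOfFiniteType ((p : Hom 𝔛 (FSch.spf R I)).app 0))
    (g : 𝔜 ⟶ 𝔛) {A B : FBlow.IdealSh (𝔛.Osh h)} (hA : FBlow.IsCohOpen 𝔛 h A)
    (hB : FBlow.IsCohOpen 𝔛 h B) (hgA : (FBlow.idealMap g hY h A).IsInvertible) :
    ∀ n, (FBlow.idealMap g hY h (mulPow A B n)).IsInvertible ↔
      (FBlow.idealMap g hY h B).IsInvertible
  | 0 => Iff.rfl
  | n + 1 => by
    rw [mulPow, isInvertible_idealMap_mul_iff g (locFG_of_isCohOpen hp hR hA)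
      (locFG_of_isCohOpen hp hR (isCohOpen_mulPow hp hR hft hA hB n)),
      isInvertible_idealMap_mulPow_iff hp hR hft g hA hB hgA n]
    exact and_iff_right hgA

variable {R : Type u} [CommRing R] {I : Ideal R} {𝔛 : Sys.{u}} {h : 𝔛.IsFormal}
  {p : 𝔛 ⟶ FSch.spf R I}

theorem genOn_mulPow_succ {T : TopCat.{u}}
    {O : Sheaf (Opens.grothendieckTopology T) CommRingCat.{u}} {A B : FBlow.IdealSh O} {U : Opens T}
    {S Z : Set (O.obj.obj (op U))} {n : ℕ} (hA : GenOn A U S) (hB : GenOn (mulPow A B n) U Z) :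
    GenOn (mulPow A B (n + 1)) U {t | ∃ a ∈ S, ∃ b ∈ Z, t = a * b} :=
  hA.mul hB

set_option backward.isDefEq.respectTransparency false in
/-- On a quasi-compact quasi-separated formal scheme a coherent open ideal of a blow-up becomes,
after multiplication by a power of the exceptional ideal, the inverse image of a coherent open
ideal. -/
theorem exists_pushforward (hp : IsAdicHom p) (hR : AdicRing.IsBase R I)
    (hfp : ∀ n, LocallyOfFinitePresentation ((p : Hom 𝔛 (FSch.spf R I)).app n))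
    (htf : ∀ (U : (𝔛.X 0).Opens) (s : (𝔛.Osh h).obj.obj (op U)),
      (∀ a ∈ (FBlow.IdealSh.ker (𝔛.OshProj h 0)).sect U, a * s = 0) → s = 0)
    [CompactSpace (𝔛.X 0)] [QuasiSeparatedSpace (𝔛.X 0)] {J : FBlow.IdealSh (𝔛.Osh h)}
    (hJ : FBlow.IsCohOpen 𝔛 h J) {𝔓 : Sys.{u}} {hP : 𝔓.IsFormal} {b : 𝔓 ⟶ 𝔛}
    (hb : FBlow.IsAdmBlowUp b hP h J) {J' : FBlow.IdealSh (𝔓.Osh hP)}
    (hJ' : FBlow.IsCohOpen 𝔓 hP J') :
    ∃ (n : ℕ) (K : FBlow.IdealSh (𝔛.Osh h)), FBlow.IsCohOpen 𝔛 h K ∧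
      FBlow.idealMap b hP h K = mulPow (FBlow.idealMap b hP h J) J' n := by
  classical
  have hft : LocallyOfFiniteType ((p : Hom 𝔛 (FSch.spf R I)).app 0) :=
    have := hfp 0
    inferInstance
  have hp' : IsAdicHom (b ≫ p) := isAdicHom_comp hb.1 hp
  have hlJ := locFG_of_isCohOpen hp hR hJ
  have hft' : LocallyOfFiniteType ((b ≫ p : Hom 𝔓 (FSch.spf R I)).app 0) := by
    have := locallyOfFiniteType_blowUp hp hR hfp htf hlJ hb 0
    exact inferInstanceAs (LocallyOfFiniteType (_ ≫ _))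
  have hA' := isCohOpen_idealMap (hY := hP) hp hR b hb.1 hft' hJ
  let σ := fun U : (𝔛.X 0).Opens => (Hom.sharp b hP h).hom.app (op U)
  -- a uniform exponent
  obtain ⟨T₀, hT₀⟩ := isCompact_univ.elim_finite_subcover
    (fun W : (𝔛.X 0).affineOpens => (W.1 : Set (𝔛.X 0))) (fun W => W.1.isOpen) fun x _ =>
      have ⟨W, hxW, _⟩ := MP99.exists_affine_le x (W := ⊤) trivial
      Set.mem_iUnion.2 ⟨W, hxW⟩
  let κ := {W : (𝔛.X 0).affineOpens // W ∈ T₀}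
  let U : κ → (𝔛.X 0).affineOpens := fun i => i.1
  have hUcov : ⊤ ≤ ⨆ i, (U i).1 := fun x _ => by
    obtain ⟨W, hW, hxW⟩ := Set.mem_iUnion₂.1 (hT₀ (Set.mem_univ x))
    exact Opens.mem_iSup.2 ⟨⟨W, hW⟩, hxW⟩
  choose n₀ Z₀ hZ₀fin hZ₀ using fun i => exists_pushGen hp hR hfp htf (U i).2 hJ hb hJ'
  have hmono : ∀ (i : κ) (d : ℕ), ∃ Z : Set (Sec 𝔛 h (U i).1), Z.Finite ∧
      GenOn (mulPow (FBlow.idealMap b hP h J) J' (n₀ i + d)) ((b : Hom 𝔓 𝔛).app 0 ⁻¹ᵁ (U i).1)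
        (σ (U i).1 '' Z) := by
    intro i d
    induction d with
    | zero => exact ⟨Z₀ i, hZ₀fin i, hZ₀ i⟩
    | succ d ih =>
      obtain ⟨Z, hZ, hgen⟩ := ih
      obtain ⟨hgJ, ⟨S, hS⟩, -⟩ := genOn_of_isCohOpen hp hR hft hJ (U i).2
      have h1 := genOn_idealMap (hY := hP) b (hgJ.congr_span ((Ideal.span_eq _).trans hS.symm))
      refine ⟨{t | ∃ a ∈ (S : Set (Sec 𝔛 h (U i).1)), ∃ c ∈ Z, t = a * c}, ?_, ?_⟩
      · refine ((S.finite_toSet.prod hZ).image fun q => q.1 * q.2).subset ?_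
        rintro t ⟨a, ha, c, hc, rfl⟩
        exact ⟨(a, c), ⟨ha, hc⟩, rfl⟩
      · exact (image_prod_set (σ (U i).1) _ _).symm ▸ genOn_mulPow_succ h1 hgen
  let n := Finset.univ.sup n₀
  have hZn : ∀ i, ∃ Z : Set (Sec 𝔛 h (U i).1), Z.Finite ∧
      GenOn (mulPow (FBlow.idealMap b hP h J) J' n) ((b : Hom 𝔓 𝔛).app 0 ⁻¹ᵁ (U i).1)
        (σ (U i).1 '' Z) := fun i => by
    have hle : n₀ i ≤ n := Finset.le_sup (Finset.mem_univ i)
    obtain ⟨Z, hZ⟩ := hmono i (n - n₀ i)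
    rw [Nat.add_sub_cancel' hle] at hZ
    exact ⟨Z, hZ⟩
  choose Z hZfin hZ using hZn
  let Lsh := mulPow (FBlow.idealMap b hP h J) J' n
  -- the level
  have hPc : CompactSpace (𝔓.X 0) := by
    refine ⟨?_⟩
    have e : (Set.univ : Set (𝔓.X 0)) =
        ⋃ i, (((b : Hom 𝔓 𝔛).app 0 ⁻¹ᵁ (U i).1 : (𝔓.X 0).Opens) : Set (𝔓.X 0)) := by
      refine (Set.eq_univ_of_forall fun y => ?_).symm
      obtain ⟨i, hi⟩ := Opens.mem_iSup.1 (hUcov (show (b : Hom 𝔓 𝔛).app 0 y ∈ (⊤ : (𝔛.X 0).Opens) from trivial))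
      exact Set.mem_iUnion.2 ⟨i, hi⟩
    rw [e]
    refine isCompact_iUnion fun i => ?_
    obtain ⟨hgJ, ⟨S, hS⟩, -⟩ := genOn_of_isCohOpen hp hR hft hJ (U i).2
    exact (exists_charts_over hp hR hfp htf (U i).2 S.finite_toSet
      (hgJ.congr_span ((Ideal.span_eq _).trans hS.symm)) hb).1
  obtain ⟨M, ℐ', -, hℐ'⟩ := exists_level (p := b ≫ p) hp' hR hft'
    (isCohOpen_mulPow (p := b ≫ p) hp' hR hft' hA' hJ' n)
  have hMc : CompactSpace (𝔛.X M) := (𝔛.levelHomeo h M).compactSpace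
  have hMq : QuasiSeparatedSpace (𝔛.X M) :=
    QuasiSeparatedSpace.of_isOpenEmbedding (𝔛.levelHomeo h M).symm.isOpenEmbedding
  have hPMc : CompactSpace (𝔓.X M) := (𝔓.levelHomeo hP M).compactSpace
  have : QuasiCompact ((b : Hom 𝔓 𝔛).app M) := by
    have : QuasiSeparated (terminal.from (𝔛.X M)) := (quasiSeparatedSpace_iff_quasiSeparated _).1 hMq
    have : QuasiCompact ((b : Hom 𝔓 𝔛).app M ≫ terminal.from (𝔛.X M)) :=
      (quasiCompact_iff_compactSpace _).2 hPMc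
    exact QuasiCompact.of_comp _ (terminal.from (𝔛.X M))
  -- sections of the direct image on level `M`
  have hmemI : ∀ (W : (𝔛.X M).affineOpens) (x : Γ(𝔛.X M, W.1)),
      x ∈ (ℐ'.map ((b : Hom 𝔓 𝔛).app M)).ideal W ↔
        ((b : Hom 𝔓 𝔛).app M).app W.1 x ∈
          (FBlow.IdealSh.ofData ℐ').sect ((b : Hom 𝔓 𝔛).app M ⁻¹ᵁ W.1) := by
    intro W x
    rw [mem_ofData_iff_subschemeι, Scheme.IdealSheafData.map, Scheme.Hom.ker_apply, RingHom.mem_ker]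
    rfl
  have hsmem : ∀ (i : κ), ∀ z ∈ Z i, proj 𝔛 h (U i).1 M z ∈
      (ℐ'.map ((b : Hom 𝔓 𝔛).app M)).ideal ⟨_, isAffineOpen_lvU (h := h) (U i).2 M⟩ := by
    intro i z hz
    rw [hmemI]
    have h1 := (hZ i).1 ⟨z, hz, rfl⟩
    rw [hℐ', SetLike.mem_coe, FBlow.mem_ofLevel_iff] at h1
    have h2 := (FBlow.IdealSh.ofData ℐ').map_mem (Hom.lvU_preimage b hP h M (U i).1).le h1
    have h3 := ConcreteCategory.congr_hom (sharp_proj_app (hY := hP) (h := h) b (U i).1 M) z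
    simp only [CommRingCat.comp_apply] at h3
    change (𝔓.X M).presheaf.map _ (proj 𝔓 hP _ M ((Hom.sharp b hP h).hom.app (op (U i).1) z)) ∈ _ at h2
    erw [h3] at h2
    rw [← CommRingCat.comp_apply, Scheme.Hom.appLE_map, ← Scheme.Hom.app_eq_appLE] at h2
    exact h2
  -- the ideal
  have : ∀ i, Finite (Z i) := fun i => (hZfin i).to_subtype
  obtain ⟨ℬ, hℬft, hℬle, hℬmem⟩ := exists_ft_le (ℐ'.map ((b : Hom 𝔓 𝔛).app M))
    (κ := Σ i : κ, Z i) (fun q => ⟨_, isAffineOpen_lvU (h := h) (U q.1).2 M⟩)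
    (fun q => proj 𝔛 h (U q.1).1 M q.2.1) fun q => hsmem q.1 q.2.1 q.2.2
  refine ⟨n, FBlow.ofLevel 𝔛 h M ℬ, fun x => ⟨⊤, trivial, M, ℬ, hℬft, fun _ _ => rfl⟩,
    idealSh_le_antisymm (idealMap_le fun T V e a ha => ?_) fun V s hs => ?_⟩
  · rw [hℐ', FBlow.mem_ofLevel_iff]
    rw [FBlow.mem_ofLevel_iff] at ha
    change proj 𝔓 hP V M (sharpLE (hY := hP) (h := h) b e a) ∈ _
    have h1 := ConcreteCategory.congr_hom (sharpLE_proj (hY := hP) (h := h) b e M) a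
    simp only [CommRingCat.comp_apply] at h1
    rw [h1]
    refine (FBlow.IdealSh.ofData ℐ').mem_of_local fun y hy => ?_
    obtain ⟨W, j, hyW, hW⟩ := ha _ (lvU_le_preimage b e M hy)
    refine ⟨𝔓.lvU hP M V ⊓ (b : Hom 𝔓 𝔛).app M ⁻¹ᵁ W.1, inf_le_left, ⟨hy, hyW⟩, ?_⟩
    have h2 := (FBlow.IdealSh.ofData ℐ').map_mem
      (inf_le_right : 𝔓.lvU hP M V ⊓ (b : Hom 𝔓 𝔛).app M ⁻¹ᵁ W.1 ≤ _) ((hmemI W _).1 (hℬle W hW))
    change (𝔓.X M).presheaf.map (homOfLE inf_le_right).op (((b : Hom 𝔓 𝔛).app M).app W.1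
      ((𝔛.X M).presheaf.map (homOfLE j).op (proj 𝔛 h T M a))) ∈ _ at h2
    change (𝔓.X M).presheaf.map (homOfLE inf_le_left).op (((b : Hom 𝔓 𝔛).app M).appLE (𝔛.lvU h M T)
      (𝔓.lvU hP M V) _ (proj 𝔛 h T M a)) ∈ _
    rw [Scheme.Hom.app_eq_appLE, ← CommRingCat.comp_apply, ← CommRingCat.comp_apply,
      Scheme.Hom.appLE_map, Scheme.Hom.map_appLE] at h2
    rw [← CommRingCat.comp_apply, Scheme.Hom.appLE_map]
    exact h2
  · refine FBlow.IdealSh.mem_of_local _ fun y hy => ?_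
    obtain ⟨i, hi⟩ := Opens.mem_iSup.1 (hUcov (show (b : Hom 𝔓 𝔛).app 0 y ∈ (⊤ : (𝔛.X 0).Opens) from trivial))
    let W := V ⊓ (b : Hom 𝔓 𝔛).app 0 ⁻¹ᵁ (U i).1
    obtain ⟨W', j, hyW', hW'⟩ := (hZ i).2 W inf_le_right
      ((mulPow _ J' n).map_mem inf_le_left hs) y ⟨hy, hi⟩
    refine ⟨W', j.trans inf_le_left, hyW', ?_⟩
    rw [rs, FBlow.IdealSh.map_comp_apply] at hW'
    refine Ideal.span_le.2 ?_ hW'
    rintro _ ⟨_, ⟨z, hz, rfl⟩, rfl⟩
    refine sharpLE_mem_idealMap (hY := hP) (h := h) b (j.trans inf_le_right) ?_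
    exact (mem_ofLevel_affine (U i).2 ℬ z).2 (hℬmem ⟨i, z, hz⟩)

/-- The composite of two admissible formal blow-ups over a quasi-compact quasi-separated formal
scheme is one. -/
theorem exists_composite (hp : IsAdicHom p) (hR : AdicRing.IsBase R I)
    (hfp : ∀ n, LocallyOfFinitePresentation ((p : Hom 𝔛 (FSch.spf R I)).app n))
    (htf : ∀ (U : (𝔛.X 0).Opens) (s : (𝔛.Osh h).obj.obj (op U)),
      (∀ a ∈ (FBlow.IdealSh.ker (𝔛.OshProj h 0)).sect U, a * s = 0) → s = 0)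
    [CompactSpace (𝔛.X 0)] [QuasiSeparatedSpace (𝔛.X 0)] {J : FBlow.IdealSh (𝔛.Osh h)}
    (hJ : FBlow.IsCohOpen 𝔛 h J) {𝔛' : Sys.{u}} {h' : 𝔛'.IsFormal} {b : 𝔛' ⟶ 𝔛}
    (hb : FBlow.IsAdmBlowUp b h' h J) {J' : FBlow.IdealSh (𝔛'.Osh h')}
    (hJ' : FBlow.IsCohOpen 𝔛' h' J') {𝔛'' : Sys.{u}} {h'' : 𝔛''.IsFormal} {b' : 𝔛'' ⟶ 𝔛'}
    (hb' : FBlow.IsAdmBlowUp b' h'' h' J') :
    ∃ J'' : FBlow.IdealSh (𝔛.Osh h), FBlow.IsCohOpen 𝔛 h J'' ∧
      FBlow.IsAdmBlowUp (b' ≫ b) h'' h J'' := by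
  have hft : LocallyOfFiniteType ((p : Hom 𝔛 (FSch.spf R I)).app 0) :=
    have := hfp 0
    inferInstance
  obtain ⟨n, K, hK, hKeq⟩ := exists_pushforward hp hR hfp htf hJ hb hJ'
  have hlJ := locFG_of_isCohOpen hp hR hJ
  have hlK := locFG_of_isCohOpen hp hR hK
  have hp' : IsAdicHom (b ≫ p) := isAdicHom_comp hb.1 hp
  have hN' := noBaseTors_blowUp hp hR hfp htf hlJ hb
  have hft' : ∀ n, LocallyOfFiniteType ((b ≫ p : Hom 𝔛' (FSch.spf R I)).app n) := fun n => by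
    have := locallyOfFiniteType_blowUp hp hR hfp htf hlJ hb n
    have := hfp n
    exact inferInstanceAs (LocallyOfFiniteType (_ ≫ _))
  have hA' := isCohOpen_idealMap (hY := h') hp hR b hb.1 (hft' 0) hJ
  have hN'' := noBaseTors_blowUp hp' hR (lfp_of_noBaseTors hp' hR hft' hN')
    (htf_of_noBaseTors hp' hR hN') (locFG_of_isCohOpen hp' hR hJ') hb'
  rw [← Category.assoc] at hN''
  have hJ'' : (FBlow.idealMap (b' ≫ b) h'' h J).IsInvertible :=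
    isInvertible_idealMap_of_open hp hR b b' hJ hb.2.1 hN''
  refine ⟨FBlow.IdealSh.mul J K, isCohOpen_mul hp hR hft hJ hK, isAdicHom_comp hb'.1 hb.1,
    (isInvertible_idealMap_mul_iff _ hlJ hlK).2 ⟨hJ'', ?_⟩, fun 𝔜 hY g hg hinv => ?_⟩
  · rw [idealMap_comp (hY := h')] at hJ''
    rw [idealMap_comp (hY := h'), hKeq]
    exact (isInvertible_idealMap_mulPow_iff hp' hR (hft' 0) b' hA' hJ' hJ'' n).2 hb'.2.1
  obtain ⟨hgJ, hgK⟩ := (isInvertible_idealMap_mul_iff g hlJ hlK).1 hinv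
  obtain ⟨k, hk, hku⟩ := hb.2.2 𝔜 hY g hg hgJ
  rw [← hk, idealMap_comp (hY := h'), hKeq] at hgK
  rw [← hk, idealMap_comp (hY := h')] at hgJ
  obtain ⟨l, hl, hlu⟩ := hb'.2.2 𝔜 hY k (isAdicHom_of_comp (hk.symm ▸ hg) hb.1)
    ((isInvertible_idealMap_mulPow_iff hp' hR (hft' 0) k hA' hJ' hgJ n).1 hgK)
  refine ⟨l, ?_, fun l' hl' => hlu l' (hku _ ?_)⟩
  · show l ≫ b' ≫ b = g
    rw [← Category.assoc, hl, hk]
  · show (l' ≫ b') ≫ b = g
    rw [Category.assoc]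
    exact hl'

end Groth.Agent.FBlow13
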