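import Groth.Agent.FBlow13.ExtendOpen
import Groth.Agent.FBlow13.Product

/-!
Locally finite products of coherent open ideals and dominating admissible formal blow-ups.
-/

set_option autoImplicit false

universe u

open CategoryTheory CategoryTheory.Limits AlgebraicGeometry TopologicalSpace Opposite

namespace Groth.Agent.FBlow13

open _root_.FSch

section Sheaf

variable {T : TopCat.{u}} {O : Sheaf (Opens.grothendieckTopology T) CommRingCat.{u}}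

theorem mul_mem_locSpan {U : Opens T} {𝔞 𝔟 : Ideal (O.obj.obj (op U))} {V : Opens T} {i : V ≤ U}
    {a b : O.obj.obj (op V)} (ha : a ∈ locSpan (𝔞 : Set (O.obj.obj (op U))) i)
    (hb : b ∈ locSpan (𝔟 : Set (O.obj.obj (op U))) i) :
    a * b ∈ locSpan ((𝔞 * 𝔟 : Ideal (O.obj.obj (op U))) : Set (O.obj.obj (op U))) i := by
  intro x hx
  obtain ⟨W₁, j₁, hx₁, h₁⟩ := ha x hx
  obtain ⟨W₂, j₂, hx₂, h₂⟩ := hb x hx
  have key : ∀ {W : Opens T} (j : W ≤ V) (k : W₁ ⊓ W₂ ≤ W) (r : O.obj.obj (op V))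
      (𝔠 : Ideal (O.obj.obj (op U))),
      rs O j r ∈ Ideal.span (rs O (j.trans i) '' (𝔠 : Set (O.obj.obj (op U)))) →
        rs O (k.trans j) r ∈ 𝔠.map (rs O ((k.trans j).trans i)).hom := by
    intro W j k r 𝔠 hr
    have := Ideal.mem_map_of_mem (rs O k).hom hr
    rw [Ideal.map_span, Set.image_image] at this
    simp only [rs, FBlow.IdealSh.map_comp_apply] at this
    exact this
  refine ⟨W₁ ⊓ W₂, inf_le_left.trans j₁, ⟨hx₁, hx₂⟩, ?_⟩
  change rs O _ (a * b) ∈ (𝔞 * 𝔟).map (rs O _).hom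
  rw [map_mul, Ideal.map_mul]
  exact Ideal.mul_mem_mul (key j₁ inf_le_left a 𝔞 h₁) (key j₂ inf_le_right b 𝔟 h₂)

theorem prod_le_locSpan {U V : Opens T} (i : V ≤ U) {α : Type*} (F : Finset α)
    (𝔞 : α → Ideal (O.obj.obj (op U))) (𝔟 : α → Ideal (O.obj.obj (op V)))
    (hle : ∀ j ∈ F, 𝔟 j ≤ locSpan (𝔞 j : Set (O.obj.obj (op U))) i) :
    ∏ j ∈ F, 𝔟 j ≤ locSpan ((∏ j ∈ F, 𝔞 j : Ideal (O.obj.obj (op U))) : Set (O.obj.obj (op U))) i := by
  classical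
  induction F using Finset.induction_on with
  | empty =>
    rw [Finset.prod_empty, Finset.prod_empty]
    intro s _
    refine span_le_locSpan _ i ?_
    show s ∈ (1 : Ideal (O.obj.obj (op U))).map (rs O i).hom
    rw [Ideal.one_eq_top, Ideal.map_top]
    trivial
  | insert j F hj ih =>
    rw [Finset.prod_insert hj, Finset.prod_insert hj]
    exact Ideal.mul_le.2 fun a ha b hb => mul_mem_locSpan (hle j (Finset.mem_insert_self j F) ha)
      (ih (fun k hk => hle k (Finset.mem_insert_of_mem hk)) hb)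

variable {ι : Type u} (V : ι → Opens T) (F : ι → Finset ι) (J : ι → FBlow.IdealSh O)

/-- The product of a locally finite family of ideal sheaves. -/
noncomputable def lfProd : FBlow.IdealSh O :=
  FBlow.IdealSh.gen fun W => {t | ∃ i, W ≤ V i ∧ t ∈ ∏ j ∈ F i, (J j).sect W}

theorem prod_sect_le_of_le (hF : ∀ i j, V i ⊓ V j ≠ ⊥ → j ∈ F i)
    (hJ : ∀ j (W : Opens T), W ⊓ V j = ⊥ → (J j).sect W = ⊤) {W : Opens T} {i k : ι}
    (hk : W ≤ V k) :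
    ∏ j ∈ F k, (J j).sect W ≤ ∏ j ∈ F i, (J j).sect W := by
  classical
  have h1 : ∏ j ∈ F i ∩ F k, (J j).sect W = ∏ j ∈ F i, (J j).sect W := by
    refine Finset.prod_subset Finset.inter_subset_left fun j hji hj => ?_
    rw [hJ j W ?_, Ideal.one_eq_top]
    by_contra hne
    exact hj (Finset.mem_inter.2 ⟨hji, hF k j fun e => hne (eq_bot_iff.2
      ((inf_le_inf_right _ hk).trans e.le))⟩)
  rw [← h1, ← Finset.prod_sdiff (Finset.inter_subset_right : F i ∩ F k ⊆ F k)]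
  exact Ideal.mul_le_right

theorem genOn_lfProd (hF : ∀ i j, V i ⊓ V j ≠ ⊥ → j ∈ F i)
    (hJ : ∀ j (W : Opens T), W ⊓ V j = ⊥ → (J j).sect W = ⊤) {A : Opens T} {i : ι} (hA : A ≤ V i)
    (hgen : ∀ j ∈ F i, GenOn (J j) A ((J j).sect A : Set (O.obj.obj (op A)))) :
    GenOn (lfProd V F J) A
      ((∏ j ∈ F i, (J j).sect A : Ideal (O.obj.obj (op A))) : Set (O.obj.obj (op A))) := by
  refine ⟨fun a ha => FBlow.IdealSh.subset_gen _ A ⟨i, hA, ha⟩, fun W e s hs x hx => ?_⟩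
  obtain ⟨W', e', hxW', hW'⟩ := hs x hx
  have hle : Ideal.span (FBlow.IdealSh.seed
      (fun W => {t | ∃ i, W ≤ V i ∧ t ∈ ∏ j ∈ F i, (J j).sect W}) W') ≤
      locSpan ((∏ j ∈ F i, (J j).sect A : Ideal (O.obj.obj (op A))) : Set (O.obj.obj (op A)))
        (e'.trans e) := by
    refine Ideal.span_le.2 ?_
    rintro _ ⟨T', k, a, ⟨m, hm, ha⟩, rfl⟩
    refine prod_le_locSpan (e'.trans e) (F i) _ (fun j => (J j).sect W')
      (fun j hj => (hgen j hj).2 W' _) (prod_sect_le_of_le V F J hF hJ (k.trans hm) ?_)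
    have h1 := Ideal.mem_map_of_mem (rs O k).hom ha
    rw [← Ideal.mapHom_apply, map_prod] at h1
    exact Finset.prod_le_prod' (fun j _ => Ideal.map_le_iff_le_comap.2 fun c hc =>
      (J j).map_mem k hc) h1
  obtain ⟨W'', k, hxW'', h⟩ := hle hW' x hxW'
  refine ⟨W'', k.trans e', hxW'', ?_⟩
  rw [rs, FBlow.IdealSh.map_comp_apply] at h
  exact h

end Sheaf

variable {R : Type u} [CommRing R] {I : Ideal R} {𝔛 : Sys.{u}} {h : 𝔛.IsFormal}
  {p : 𝔛 ⟶ FSch.spf R I}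

/-- Finite products of finitely generated open ideals are finitely generated and open. -/
theorem fg_open_prod {A : Type u} [CommRing A] (φ : R →+* A) {α : Type*} (F : Finset α)
    (𝔞 : α → Ideal A) (hfg : ∀ j ∈ F, (𝔞 j).FG) (hopen : ∀ j ∈ F, ∃ n : ℕ, (I ^ n).map φ ≤ 𝔞 j) :
    (∏ j ∈ F, 𝔞 j).FG ∧ ∃ n : ℕ, (I ^ n).map φ ≤ ∏ j ∈ F, 𝔞 j := by
  classical
  induction F using Finset.induction_on with
  | empty =>
    rw [Finset.prod_empty, Ideal.one_eq_top]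
    exact ⟨⟨{1}, by simp⟩, 0, le_top⟩
  | insert j F hj ih =>
    obtain ⟨h1, m, h2⟩ := ih (fun k hk => hfg k (Finset.mem_insert_of_mem hk))
      (fun k hk => hopen k (Finset.mem_insert_of_mem hk))
    obtain ⟨n, hn⟩ := hopen j (Finset.mem_insert_self j F)
    rw [Finset.prod_insert hj]
    refine ⟨(hfg j (Finset.mem_insert_self j F)).mul h1, n + m, ?_⟩
    rw [pow_add, Ideal.map_mul]
    exact Ideal.mul_mono hn h2

variable {ι : Type u} {V : ι → (𝔛.X 0).Opens} {F : ι → Finset ι}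
  {J : ι → FBlow.IdealSh (𝔛.Osh h)}

/-- Near each point of a member of the family the factors are generated over one affine open. -/
theorem exists_affine_family (hp : IsAdicHom p) (hR : AdicRing.IsBase R I)
    (hcoh : ∀ j, FBlow.IsCohOpen 𝔛 h (J j)) {i : ι} {x : 𝔛.X 0} (hx : x ∈ V i) :
    ∃ A : (𝔛.X 0).Opens, IsAffineOpen A ∧ x ∈ A ∧ A ≤ V i ∧ ∀ j ∈ F i,
      GenOn (J j) A ((J j).sect A : Set (Sec 𝔛 h A)) ∧ ((J j).sect A).FG ∧
        ∃ n : ℕ, (I ^ n).map (baseSec h p A).hom ≤ (J j).sect A := by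
  choose U hxU n 𝒜 hFT h𝒜 using fun j => hcoh j x
  have hxO : x ∈ (⟨⋂ j ∈ F i, (U j : Set (𝔛.X 0)),
      isOpen_biInter_finset fun j _ => (U j).isOpen⟩ : (𝔛.X 0).Opens) ⊓ V i :=
    ⟨Set.mem_iInter₂.2 fun j _ => hxU j, hx⟩
  obtain ⟨A, hxA, hA⟩ := MP99.exists_affine_le x hxO
  refine ⟨A.1, A.2, hxA, hA.trans inf_le_right, fun j hj => ?_⟩
  obtain ⟨h1, h2, h3⟩ := genOn_affine hp hR A.2 (n j) (𝒜 j) (hFT j) fun W hW => h𝒜 j W
    (fun z hz => Set.mem_iInter₂.1 (hA (hW hz)).1 j hj)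
  exact ⟨h1, h2, n j + 1, h3⟩

/-- A locally finite product of coherent open ideals is a coherent open ideal. -/
theorem isCohOpen_lfProd (hp : IsAdicHom p) (hR : AdicRing.IsBase R I)
    (hft : LocallyOfFiniteType ((p : Hom 𝔛 (FSch.spf R I)).app 0))
    (hV : ∀ x, ∃ i, x ∈ V i) (hF : ∀ i j, V i ⊓ V j ≠ ⊥ → j ∈ F i)
    (hJ : ∀ j (W : (𝔛.X 0).Opens), W ⊓ V j = ⊥ → (J j).sect W = ⊤)
    (hcoh : ∀ j, FBlow.IsCohOpen 𝔛 h (J j)) : FBlow.IsCohOpen 𝔛 h (lfProd V F J) := by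
  refine isCohOpen_of_local hp hR hft fun x => ?_
  obtain ⟨i, hxi⟩ := hV x
  obtain ⟨A, hA, hxA, hAV, hfam⟩ := exists_affine_family (F := F) hp hR hcoh hxi
  obtain ⟨hfg, n, hn⟩ := fg_open_prod (baseSec h p A).hom (F i) (fun j => (J j).sect A)
    (fun j hj => (hfam j hj).2.1) (fun j hj => (hfam j hj).2.2)
  obtain ⟨S, hS⟩ := hfg
  have hgen := genOn_lfProd V F J hF hJ hAV fun j hj => (hfam j hj).1
  refine ⟨A, n, hxA, fun z hz => ⟨A, hA, hz, le_rfl, S, S.finite_toSet,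
    hgen.congr_span ((Ideal.span_eq _).trans hS.symm), fun t ht => ?_⟩⟩
  exact hgen.1 (hn (Ideal.mem_map_of_mem _ (Ideal.pow_le_pow_right (Nat.le_succ n) ht)))

/-- Over a member of the family its factor becomes invertible with the product. -/
theorem isInvertible_factor (hp : IsAdicHom p) (hR : AdicRing.IsBase R I)
    (hF : ∀ i j, V i ⊓ V j ≠ ⊥ → j ∈ F i)
    (hJ : ∀ j (W : (𝔛.X 0).Opens), W ⊓ V j = ⊥ → (J j).sect W = ⊤)
    (hcoh : ∀ j, FBlow.IsCohOpen 𝔛 h (J j)) {𝔜 : Sys.{u}} {hY : 𝔜.IsFormal} (g : 𝔜 ⟶ 𝔛) {i : ι}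
    (hg : (g : Hom 𝔜 𝔛).app 0 ⁻¹ᵁ V i = ⊤)
    (hinv : (FBlow.idealMap g hY h (lfProd V F J)).IsInvertible) :
    (FBlow.idealMap g hY h (J i)).IsInvertible := by
  classical
  intro y
  have hgy : (g : Hom 𝔜 𝔛).app 0 y ∈ V i := hg.ge (show y ∈ (⊤ : (𝔜.X 0).Opens) from trivial)
  have hi : i ∈ F i := hF i i fun e => by
    rw [inf_idem] at e
    exact (show (g : Hom 𝔜 𝔛).app 0 y ∈ (⊥ : (𝔛.X 0).Opens) from e ▸ hgy).elim
  obtain ⟨A, -, hxA, hAV, hfam⟩ := exists_affine_family (F := F) hp hR hcoh hgy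
  have hgen := genOn_lfProd V F J hF hJ hAV fun j hj => (hfam j hj).1
  let σ : Sec 𝔛 h A ⟶ Sec 𝔜 hY ((g : Hom 𝔜 𝔛).app 0 ⁻¹ᵁ A) := (Hom.sharp g hY h).hom.app (op A)
  let 𝔯 := ∏ j ∈ (F i).erase i, (J j).sect A
  have h1 := ((genOn_idealMap (hY := hY) g hgen).congr_span
    (S' := {t | ∃ a ∈ σ '' ((J i).sect A : Set (Sec 𝔛 h A)),
      ∃ b ∈ σ '' (𝔯 : Set (Sec 𝔛 h A)), t = a * b}) ?_).invOn_of_invAt fun z _ => hinv z
  · exact (genOn_idealMap (hY := hY) g (hfam i hi).1).invAt_of_invOn h1.left_of_prod hxA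
  · rw [← Finset.mul_prod_erase (F i) (fun j => (J j).sect A) hi]
    show ((J i).sect A * 𝔯).map σ.hom = _
    rw [Ideal.map_mul, Ideal.map, Ideal.map, Ideal.span_mul_span']
    congr 1
    ext t
    rw [Set.mem_mul]
    exact ⟨fun ⟨a, ha, b, hb, e⟩ => ⟨a, ha, b, hb, e.symm⟩,
      fun ⟨a, ha, b, hb, e⟩ => ⟨a, ha, b, hb, e.symm⟩⟩

/-- An admissible formal blow-up dominating admissible formal blow-ups of the members of a covering
of finite type. -/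
theorem exists_dominating (hp : IsAdicHom p) (hR : AdicRing.IsBase R I)
    (hfp : ∀ n, LocallyOfFinitePresentation ((p : Hom 𝔛 (FSch.spf R I)).app n))
    (htf : ∀ (U : (𝔛.X 0).Opens) (s : (𝔛.Osh h).obj.obj (op U)),
      (∀ a ∈ (FBlow.IdealSh.ker (𝔛.OshProj h 0)).sect U, a * s = 0) → s = 0)
    (V : ι → (𝔛.X 0).Opens) (hV : (⨆ i, V i) = ⊤) (hVc : ∀ i, IsCompact (V i : Set (𝔛.X 0)))
    (hVf : ∀ i, Set.Finite {j : ι | V i ⊓ V j ≠ ⊥}) (hVi : ∀ i, (𝔛.restrictOpen h (V i)).IsFormal)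
    (Ji : ∀ i, FBlow.IdealSh ((𝔛.restrictOpen h (V i)).Osh (hVi i)))
    (hJi : ∀ i, FBlow.IsCohOpen (𝔛.restrictOpen h (V i)) (hVi i) (Ji i))
    (𝔛i : ι → Sys.{u}) (hi : ∀ i, (𝔛i i).IsFormal) (bi : ∀ i, 𝔛i i ⟶ 𝔛.restrictOpen h (V i))
    (hbi : ∀ i, FBlow.IsAdmBlowUp (bi i) (hi i) (hVi i) (Ji i)) :
    ∃ (J : FBlow.IdealSh (𝔛.Osh h)) (𝔛' : Sys.{u}) (h' : 𝔛'.IsFormal) (b : 𝔛' ⟶ 𝔛),
      FBlow.IsCohOpen 𝔛 h J ∧ FBlow.IsAdmBlowUp b h' h J ∧
      (∀ i, (FBlow.idealMap (Hom.restrictOpen b h' h (V i))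
        (isFormal_restrictOpen h' ((b : Hom 𝔛' 𝔛).app 0 ⁻¹ᵁ V i)) (hVi i) (Ji i)).IsInvertible) ∧
      ∀ i, ∃! k : 𝔛'.restrictOpen h' (((b : Hom 𝔛' 𝔛).app 0) ⁻¹ᵁ (V i)) ⟶ 𝔛i i,
        k ≫ bi i = Hom.restrictOpen b h' h (V i) := by
  have hft : LocallyOfFiniteType ((p : Hom 𝔛 (FSch.spf R I)).app 0) :=
    have := hfp 0
    inferInstance
  choose J hcoh hres htop using fun i => exists_extension_eq_top hp hR hft (hVc i) (hVi i) (hJi i)
  let F := fun i => (hVf i).toFinset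
  have hF : ∀ i j, V i ⊓ V j ≠ ⊥ → j ∈ F i := fun i j e => (hVf i).mem_toFinset.2 e
  have hcov : ∀ x, ∃ i, x ∈ V i := fun x =>
    Opens.mem_iSup.1 (hV.ge (show x ∈ (⊤ : (𝔛.X 0).Opens) from trivial))
  have hJ' := isCohOpen_lfProd hp hR hft hcov hF htop hcoh
  obtain ⟨𝔛', h', b, hb⟩ := exists_isAdmBlowUp hp hR hfp htf hJ'
  have hfacinv : ∀ i, (FBlow.idealMap (Hom.restrictOpen b h' h (V i))
      (isFormal_restrictOpen h' ((b : Hom 𝔛' 𝔛).app 0 ⁻¹ᵁ V i)) (hVi i) (Ji i)).IsInvertible := fun i => by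
    rw [← hres i, ← idealMap_comp, Hom.restrictOpen_ι b h' h (V i)]
    exact isInvertible_factor hp hR hF htop hcoh _ (comp_restrictOpenι_preimage h' b (V i))
      (isInvertible_restrict h' b _ hb.2.1)
  refine ⟨_, 𝔛', h', b, hJ', hb, hfacinv, fun i => ?_⟩
  let ι' := 𝔛'.restrictOpenι h' ((b : Hom 𝔛' 𝔛).app 0 ⁻¹ᵁ V i)
  have hfac := Hom.restrictOpen_ι b h' h (V i)
  have hfo := isFormal_restrictOpen h' ((b : Hom 𝔛' 𝔛).app 0 ⁻¹ᵁ V i)
  refine (hbi i).2.2 _ hfo _ (isAdicHom_of_comp ?_ (isAdicHom_restrictOpenι (h := h) (V i))) ?_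
  · rw [hfac]
    exact isAdicHom_comp (isAdicHom_restrictOpenι _) hb.1
  · exact hfacinv i

end Groth.Agent.FBlow13
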