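import Groth.Agent.FBlow13.Composite
import Groth.Agent.FBlow13.Dominate

/-!
Admissible formal blow-ups dominating a composite over a quasi-paracompact base.
-/

set_option autoImplicit false

universe u

open CategoryTheory CategoryTheory.Limits AlgebraicGeometry TopologicalSpace Opposite

namespace Groth.Agent.FBlow13

open _root_.FSch

variable {R : Type u} [CommRing R] {I : Ideal R} {𝔛 𝔜 : Sys.{u}} {h : 𝔛.IsFormal}
  {hY : 𝔜.IsFormal} {p : 𝔛 ⟶ FSch.spf R I}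

/-- The absence of torsion restricts along open immersions. -/
theorem NoBaseTors.openImm (hN : NoBaseTors h p) {f : 𝔜 ⟶ 𝔛} (hf : OpenImm f) :
    NoBaseTors hY (f ≫ p) := by
  intro V s hs
  obtain ⟨s₀, rfl⟩ := (hf.sharpLE_bijective (hY := hY) (h := h) V).2 s
  rw [hN _ s₀ fun t ht => (hf.sharpLE_bijective (hY := hY) (h := h) V).1 ?_, map_zero]
  rw [map_mul, map_zero, ← CommRingCat.comp_apply, baseSec_sharpLE]
  exact hs t ht

/-- The restriction of an admissible formal blow-up over an open of the base. -/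
theorem isAdmBlowUp_restrictOpen {J : FBlow.IdealSh (𝔛.Osh h)} {b : 𝔜 ⟶ 𝔛}
    (hb : FBlow.IsAdmBlowUp b hY h J) (U : (𝔛.X 0).Opens) :
    FBlow.IsAdmBlowUp (Hom.restrictOpen b hY h U)
      (isFormal_restrictOpen hY ((b : Hom 𝔜 𝔛).app 0 ⁻¹ᵁ U)) (isFormal_restrictOpen h U)
      (FBlow.idealMap (𝔛.restrictOpenι h U) (isFormal_restrictOpen h U) h J) := by
  have hfac := Hom.restrictOpen_ι b hY h U
  obtain ⟨h1, -, h3, h4⟩ := (isBlowUpOver_top_iff.2 hb).restrict (le_top (a := U))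
  refine ⟨isAdicHom_of_comp (hfac.symm ▸ h1) (isAdicHom_restrictOpenι U), ?_,
    fun 𝔚 hW g hg hinv => ?_⟩
  · rw [← idealMap_comp, hfac]
    exact h3
  have hgU : ((g ≫ 𝔛.restrictOpenι h U : 𝔚 ⟶ 𝔛) : Hom 𝔚 𝔛).app 0 ⁻¹ᵁ U = ⊤ := by
    rw [comp_app, Scheme.Hom.comp_preimage]
    erw [restrictOpenι_preimage (h := h) U]
    rfl
  rw [← idealMap_comp] at hinv
  obtain ⟨k, hk, hku⟩ := h4 𝔚 hW _ (isAdicHom_comp hg (isAdicHom_restrictOpenι U)) hgU hinv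
  obtain ⟨l, hl, hlu⟩ := existsUnique_liftOpen (h := h) (g ≫ 𝔛.restrictOpenι h U) hW hgU
  refine ⟨k, (hlu _ ?_).trans (hlu g rfl).symm, fun k' hk' => hku k' ?_⟩
  · show (k ≫ Hom.restrictOpen b hY h U) ≫ 𝔛.restrictOpenι h U = _
    rw [Category.assoc, hfac]
    exact hk
  · show k' ≫ 𝔜.restrictOpenι hY _ ≫ b = g ≫ 𝔛.restrictOpenι h U
    rw [← hfac, ← Category.assoc, show k' ≫ Hom.restrictOpen b hY h U = g from hk']

theorem comp_restrictOpen_ι {ℨ : Sys.{u}} {hZ : ℨ.IsFormal} (b : 𝔜 ⟶ 𝔛) (b' : ℨ ⟶ 𝔜)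
    (U : (𝔛.X 0).Opens) :
    (Hom.restrictOpen b' hZ hY ((b : Hom 𝔜 𝔛).app 0 ⁻¹ᵁ U) ≫ Hom.restrictOpen b hY h U) ≫
        𝔛.restrictOpenι h U =
      ℨ.restrictOpenι hZ ((b' : Hom ℨ 𝔜).app 0 ⁻¹ᵁ ((b : Hom 𝔜 𝔛).app 0 ⁻¹ᵁ U)) ≫ b' ≫ b := by
  rw [Category.assoc, Hom.restrictOpen_ι b hY h U, ← Category.assoc, Hom.restrictOpen_ι b' hZ hY,
    Category.assoc]

/-- An admissible formal blow-up dominating a composite of two. -/
theorem exists_dominating_comp (hp : IsAdicHom p) (hR : AdicRing.IsBase R I)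
    (hfp : ∀ n, LocallyOfFinitePresentation ((p : Hom 𝔛 (FSch.spf R I)).app n))
    (htf : ∀ (U : (𝔛.X 0).Opens) (s : (𝔛.Osh h).obj.obj (op U)),
      (∀ a ∈ (FBlow.IdealSh.ker (𝔛.OshProj h 0)).sect U, a * s = 0) → s = 0)
    [QuasiSeparatedSpace (𝔛.X 0)]
    (hqp : ∃ (ι : Type u) (V : ι → (𝔛.X 0).Opens), (⨆ i, V i) = ⊤ ∧
      (∀ i, IsCompact (V i : Set (𝔛.X 0))) ∧ ∀ i, Set.Finite {j : ι | V i ⊓ V j ≠ ⊥})
    {J : FBlow.IdealSh (𝔛.Osh h)} (hJ : FBlow.IsCohOpen 𝔛 h J)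
    {𝔛' : Sys.{u}} {h' : 𝔛'.IsFormal} {b : 𝔛' ⟶ 𝔛} (hb : FBlow.IsAdmBlowUp b h' h J)
    {J' : FBlow.IdealSh (𝔛'.Osh h')} (hJ' : FBlow.IsCohOpen 𝔛' h' J')
    {𝔛'' : Sys.{u}} {h'' : 𝔛''.IsFormal} {b' : 𝔛'' ⟶ 𝔛'} (hb' : FBlow.IsAdmBlowUp b' h'' h' J') :
    ∃ (J''' : FBlow.IdealSh (𝔛.Osh h)) (𝔛''' : Sys.{u}) (h''' : 𝔛'''.IsFormal) (c : 𝔛''' ⟶ 𝔛),
      FBlow.IsCohOpen 𝔛 h J''' ∧ FBlow.IsAdmBlowUp c h''' h J''' ∧
      ∃ s : 𝔛''' ⟶ 𝔛'', s ≫ b' ≫ b = c := by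
  obtain ⟨ι, V, hV, hVc, hVf⟩ := hqp
  have hft : LocallyOfFiniteType ((p : Hom 𝔛 (FSch.spf R I)).app 0) :=
    have := hfp 0
    inferInstance
  have hp' : IsAdicHom (b ≫ p) := isAdicHom_comp hb.1 hp
  have hft' : LocallyOfFiniteType ((b ≫ p : Hom 𝔛' (FSch.spf R I)).app 0) := by
    have := locallyOfFiniteType_blowUp hp hR hfp htf (locFG_of_isCohOpen hp hR hJ) hb 0
    exact inferInstanceAs (LocallyOfFiniteType (_ ≫ _))
  have hcomp : ∀ i, ∃ Ji : FBlow.IdealSh ((𝔛.restrictOpen h (V i)).Osh (isFormal_restrictOpen h (V i))),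
      FBlow.IsCohOpen _ (isFormal_restrictOpen h (V i)) Ji ∧
      FBlow.IsAdmBlowUp (Hom.restrictOpen b' h'' h' ((b : Hom 𝔛' 𝔛).app 0 ⁻¹ᵁ V i) ≫
        Hom.restrictOpen b h' h (V i))
        (isFormal_restrictOpen h'' ((b' : Hom 𝔛'' 𝔛').app 0 ⁻¹ᵁ ((b : Hom 𝔛' 𝔛).app 0 ⁻¹ᵁ V i)))
        (isFormal_restrictOpen h (V i)) Ji := by
    intro i
    have hι := openImm_restrictOpenι (h := h) (V i)
    have hpi : IsAdicHom (𝔛.restrictOpenι h (V i) ≫ p) :=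
      isAdicHom_comp (isAdicHom_restrictOpenι _) hp
    have hfpi : ∀ n, LocallyOfFinitePresentation
        ((𝔛.restrictOpenι h (V i) ≫ p : Hom _ (FSch.spf R I)).app n) := fun n => by
      have := hι n
      have := hfp n
      exact inferInstanceAs (LocallyOfFinitePresentation (_ ≫ _))
    have hfti : LocallyOfFiniteType ((𝔛.restrictOpenι h (V i) ≫ p : Hom _ (FSch.spf R I)).app 0) :=
      have := hfpi 0
      inferInstance
    have hc : CompactSpace ((𝔛.restrictOpen h (V i)).X 0) := by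
      change CompactSpace ((𝔛.lvU h 0 (V i) : (𝔛.X 0).Opens) : Set (𝔛.X 0))
      rw [← isCompact_iff_compactSpace, lvU_zero]
      exact hVc i
    have hq : QuasiSeparatedSpace ((𝔛.restrictOpen h (V i)).X 0) :=
      QuasiSeparatedSpace.of_isOpenEmbedding (𝔛.lvU h 0 (V i)).ι.isOpenEmbedding
    have hfti' : LocallyOfFiniteType
        ((𝔛'.restrictOpenι h' ((b : Hom 𝔛' 𝔛).app 0 ⁻¹ᵁ V i) ≫ b ≫ p : Hom _ (FSch.spf R I)).app 0) := by
      have := openImm_restrictOpenι (h := h') ((b : Hom 𝔛' 𝔛).app 0 ⁻¹ᵁ V i) 0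
      exact inferInstanceAs (LocallyOfFiniteType (_ ≫ _))
    exact exists_composite hpi hR hfpi (htf_of_noBaseTors hpi hR
      ((noBaseTors_of_htf hp hR htf).openImm hι))
      (isCohOpen_idealMap hp hR _ (isAdicHom_restrictOpenι _) hfti hJ)
      (isAdmBlowUp_restrictOpen hb (V i))
      (isCohOpen_idealMap (p := b ≫ p) hp' hR _ (isAdicHom_restrictOpenι _) hfti' hJ')
      (isAdmBlowUp_restrictOpen hb' _)
  choose Ji hJi hbi using hcomp
  obtain ⟨J''', 𝔛''', h''', c, hcoh, hc, hinv, hk⟩ := exists_dominating hp hR hfp htf V hV hVc hVf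
    (fun i => isFormal_restrictOpen h (V i)) Ji hJi _ _ _ hbi
  choose k hk _ using hk
  refine ⟨J''', 𝔛''', h''', c, hcoh, hc, ?_⟩
  let W := fun i => (c : Hom 𝔛''' 𝔛).app 0 ⁻¹ᵁ V i
  have hW : ∀ y, ∃ i, y ∈ W i := fun y =>
    have hy : (c : Hom 𝔛''' 𝔛).app 0 y ∈ ⨆ i, V i :=
      hV.ge (show (c : Hom 𝔛''' 𝔛).app 0 y ∈ (⊤ : (𝔛.X 0).Opens) from trivial)
    (Opens.mem_iSup.1 hy).imp fun _ hi => hi
  let f : ∀ i, 𝔛'''.restrictOpen h''' (W i) ⟶ 𝔛'' := fun i =>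
    k i ≫ 𝔛''.restrictOpenι h'' ((b' : Hom 𝔛'' 𝔛').app 0 ⁻¹ᵁ ((b : Hom 𝔛' 𝔛).app 0 ⁻¹ᵁ V i))
  have hf : ∀ i, f i ≫ b' ≫ b = 𝔛'''.restrictOpenι h''' (W i) ≫ c := fun i => by
    show (k i ≫ _) ≫ b' ≫ b = _
    rw [Category.assoc, ← comp_restrictOpen_ι (h := h) (hY := h') b b' (V i), ← Category.assoc,
      hk i, Hom.restrictOpen_ι c h''' h (V i)]
  obtain ⟨s, hs⟩ := sys_glue h''' W hW f fun i j r r' hr hr' => by
    have hF := isFormal_restrictOpen h''' (W i ⊓ W j)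
    have hro : OpenImm r := fun n => by
      have h1 := openImm_restrictOpenι (h := h''') (W i ⊓ W j) n
      have h2 := openImm_restrictOpenι (h := h''') (W i) n
      have e : (r : Hom _ _).app n ≫ (𝔛'''.restrictOpenι h''' (W i) : Hom _ _).app n =
          (𝔛'''.restrictOpenι h''' (W i ⊓ W j) : Hom _ _).app n :=
        congrArg (fun t : Hom _ 𝔛''' => t.app n) hr
      have : IsOpenImmersion ((r : Hom _ _).app n ≫ (𝔛'''.restrictOpenι h''' (W i) : Hom _ _).app n) :=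
        e ▸ h1
      exact IsOpenImmersion.of_comp _ ((𝔛'''.restrictOpenι h''' (W i) : Hom _ _).app n)
    have hra : IsAdicHom r :=
      isAdicHom_of_comp (hr.symm ▸ isAdicHom_restrictOpenι _) (isAdicHom_restrictOpenι _)
    let l := r ≫ Hom.restrictOpen c h''' h (V i)
    have hl : IsAdicHom l := isAdicHom_comp hra
      (isAdicHom_of_comp (Hom.restrictOpen_ι c h''' h (V i) ▸
        isAdicHom_comp (isAdicHom_restrictOpenι _) hc.1) (isAdicHom_restrictOpenι _))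
    have hlinv : (FBlow.idealMap l hF (isFormal_restrictOpen h (V i)) (Ji i)).IsInvertible := by
      rw [idealMap_comp (hY := isFormal_restrictOpen h''' (W i))]
      exact hro.isInvertible_idealMap (hinv i)
    have hpre : ((r' ≫ f j : _ ⟶ 𝔛'') : Hom _ 𝔛'').app 0 ⁻¹ᵁ
        ((b' : Hom 𝔛'' 𝔛').app 0 ⁻¹ᵁ ((b : Hom 𝔛' 𝔛).app 0 ⁻¹ᵁ V i)) = ⊤ := by
      rw [← Scheme.Hom.comp_preimage, ← comp_app, ← Scheme.Hom.comp_preimage, ← comp_app,
        Category.assoc, Category.assoc, hf j, ← Category.assoc, hr']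
      refine top_unique ((restrictOpenι_preimage (h := h''') (W i ⊓ W j)).ge.trans ?_)
      exact Scheme.Hom.preimage_mono _ (inf_le_left : W i ⊓ W j ≤ W i)
    obtain ⟨m, hm, -⟩ := existsUnique_liftOpen (h := h'') (r' ≫ f j) hF hpre
    obtain ⟨l₀, -, hl₀⟩ := existsUnique_liftOpen (h := h)
      (𝔛'''.restrictOpenι h''' (W i ⊓ W j) ≫ c) hF (by
        refine top_unique ((restrictOpenι_preimage (h := h''') (W i ⊓ W j)).ge.trans ?_)
        exact Scheme.Hom.preimage_mono _ (inf_le_left : W i ⊓ W j ≤ W i))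
    have h1 : r ≫ k i = m := ((hbi i).2.2 _ hF l hl hlinv).unique
      (by rw [Category.assoc, hk i]) ((hl₀ _ ?_).trans (hl₀ l ?_).symm)
    · show r ≫ k i ≫ _ = r' ≫ f j
      rw [← Category.assoc, h1, hm]
    · show (m ≫ _) ≫ 𝔛.restrictOpenι h (V i) = _
      rw [Category.assoc, comp_restrictOpen_ι (h := h) (hY := h') b b' (V i), ← Category.assoc, hm,
        Category.assoc, hf j, ← Category.assoc, hr']
    · show (r ≫ Hom.restrictOpen c h''' h (V i)) ≫ 𝔛.restrictOpenι h (V i) = _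
      rw [Category.assoc, Hom.restrictOpen_ι c h''' h (V i), ← Category.assoc, hr]
  exact ⟨s, sys_hom_ext h''' W hW fun i => by rw [← Category.assoc, hs i, hf i]⟩

end Groth.Agent.FBlow13
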