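import Groth.Agent.FBlow13.AdmModel
import Groth.Agent.S11545
import Groth.Agent.Frg27.Compl
import Groth.Agent.An92.FSch.Spf

/-!
The charts of an admissible formal blow-up of a formal spectrum: sections dominated by one
generator, and lifting to the chart algebras.
-/

set_option autoImplicit false

universe u

open CategoryTheory CategoryTheory.Limits AlgebraicGeometry TopologicalSpace Opposite

namespace Groth.Agent.FBlow13

open _root_.FSch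

section Dominant

variable {𝔛 𝔜 : Sys.{u}} {h : 𝔛.IsFormal} {hY : 𝔜.IsFormal} {ι : Type}

/-- Every member of the family is, over `V`, a multiple of the `i`-th one. -/
def DvdOn (F : ι → Sec 𝔛 h ⊤) (i : ι) (V : (𝔛.X 0).Opens) : Prop :=
  ∀ j, ∃ c : Sec 𝔛 h V, res 𝔛 h le_top (F j) = c * res 𝔛 h le_top (F i)

theorem DvdOn.mono {F : ι → Sec 𝔛 h ⊤} {i : ι} {V V' : (𝔛.X 0).Opens} (hV : DvdOn F i V)
    (e : V' ≤ V) : DvdOn F i V' := fun j => by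
  obtain ⟨c, hc⟩ := hV j
  refine ⟨res 𝔛 h e c, ?_⟩
  have h1 := congrArg (res 𝔛 h e) hc
  rw [map_mul] at h1
  simp only [res, FBlow.IdealSh.map_comp_apply] at h1 ⊢
  exact h1

/-- The `i`-th member is nowhere a zero divisor. -/
def RegOn (F : ι → Sec 𝔛 h ⊤) (i : ι) : Prop :=
  ∀ (V : (𝔛.X 0).Opens) (t : Sec 𝔛 h V), t * res 𝔛 h le_top (F i) = 0 → t = 0

/-- Near every point some member dominates an invertible family. -/
theorem exists_dominant {F : ι → Sec 𝔛 h ⊤} (hI : InvOn ⊤ (Set.range F)) (x : 𝔛.X 0) :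
    ∃ (V : (𝔛.X 0).Opens) (j : ι), x ∈ V ∧ DvdOn F j V := by
  obtain ⟨W, i, hxW, g, hg, hdvd, -⟩ := hI x trivial
  rw [← Set.range_comp, Ideal.span, ← Finsupp.range_linearCombination] at hg
  obtain ⟨c, hc⟩ := hg
  choose d hd using fun j => hdvd (F j) ⟨j, rfl⟩
  have hnz : ∀ t : Sec 𝔛 h W, t * g = 0 → t = 0 := fun t ht => by
    refine (FBlow.IdealSh.bot (𝔛.Osh h)).mem_of_local (s := t) fun z hz => ?_
    obtain ⟨W₁, i₁, hz₁, g₁, hg₁, -, hnz₁⟩ := hI z trivial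
    refine ⟨W ⊓ W₁, inf_le_left, ⟨hz, hz₁⟩, ?_⟩
    change rs (𝔛.Osh h) (inf_le_left : W ⊓ W₁ ≤ W) t = 0
    refine hnz₁ _ inf_le_right _ ?_
    have hmem : rs (𝔛.Osh h) (inf_le_right : W ⊓ W₁ ≤ W₁) g₁ ∈
        Ideal.span {rs (𝔛.Osh h) (inf_le_left : W ⊓ W₁ ≤ W) g} := by
      have h1 := Ideal.mem_map_of_mem (rs (𝔛.Osh h) (inf_le_right : W ⊓ W₁ ≤ W₁)).hom hg₁
      rw [Ideal.map_span, Set.image_image] at h1
      refine (Ideal.span_le.2 ?_) h1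
      rintro _ ⟨a, ha, rfl⟩
      obtain ⟨e, he⟩ := hdvd a ha
      refine Ideal.mem_span_singleton'.2 ⟨rs (𝔛.Osh h) inf_le_left e, ?_⟩
      have h2 := congrArg (rs (𝔛.Osh h) (inf_le_left : W ⊓ W₁ ≤ W)) he
      rw [map_mul] at h2
      simp only [rs, FBlow.IdealSh.map_comp_apply] at h2 ⊢
      rw [mul_comm]
      exact h2.symm
    obtain ⟨e, he⟩ := Ideal.mem_span_singleton'.1 hmem
    rw [← he, mul_left_comm, ← map_mul, ht, map_zero, mul_zero]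
  have hsum : ∑ j ∈ c.support, c j * d j = 1 := by
    refine sub_eq_zero.1 (hnz _ ?_)
    rw [sub_mul, one_mul, sub_eq_zero, Finset.sum_mul]
    conv_rhs => rw [← hc, Finsupp.linearCombination_apply, Finsupp.sum]
    exact Finset.sum_congr rfl fun j _ => by
      rw [smul_eq_mul, Function.comp_apply, hd]; ring
  obtain ⟨j₀, -, V, e, hxV, hu⟩ := exists_isUnit_of_sum_eq_one (h := h) c.support c d hsum x
    ((lvU_zero (h := h) W).ge hxW)
  refine ⟨V, j₀, hxV, fun j => ?_⟩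
  obtain ⟨u, hu⟩ := hu
  refine ⟨res 𝔛 h e (d j) * ↑u⁻¹, ?_⟩
  have h1 : ∀ j, res 𝔛 h le_top (F j) = res 𝔛 h e g * res 𝔛 h e (d j) := fun j => by
    rw [← map_mul, ← hd]
    exact (FBlow.IdealSh.map_comp_apply i e _).symm
  rw [h1 j, h1 j₀, ← hu]
  linear_combination -(res 𝔛 h e g * res 𝔛 h e (d j)) * u.mul_inv

/-- Regularity of a dominating member of an invertible family. -/
theorem regOn_of_invOn {F : ι → Sec 𝔛 h ⊤} {i : ι} (hI : InvOn ⊤ (Set.range F))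
    (hdom : ∀ x, ∃ V, x ∈ V ∧ DvdOn F i V) : RegOn F i := by
  intro V t ht
  refine (FBlow.IdealSh.bot (𝔛.Osh h)).mem_of_local (s := t) fun x hx => ?_
  obtain ⟨W, k, hxW, g, hg, -, hnz⟩ := hI x trivial
  obtain ⟨V₁, hxV₁, hV₁⟩ := hdom x
  let V' := V ⊓ W ⊓ V₁
  have e₁ : V' ≤ V := inf_le_left.trans inf_le_left
  have e₂ : V' ≤ W := inf_le_left.trans inf_le_right
  have e₃ : V' ≤ V₁ := inf_le_right
  refine ⟨V', e₁, ⟨⟨hx, hxW⟩, hxV₁⟩, ?_⟩
  change res 𝔛 h e₁ t = 0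
  refine hnz V' e₂ _ ?_
  have hmem : res 𝔛 h e₂ g ∈ Ideal.span {res 𝔛 h le_top (F i)} := by
    have h1 := Ideal.mem_map_of_mem (res 𝔛 h e₂).hom hg
    rw [Ideal.map_span, Set.image_image] at h1
    refine (Ideal.span_le.2 ?_) h1
    rintro _ ⟨_, ⟨j, rfl⟩, rfl⟩
    obtain ⟨c, hc⟩ := (hV₁.mono e₃) j
    refine Ideal.mem_span_singleton'.2 ⟨c, hc.symm.trans ?_⟩
    exact (FBlow.IdealSh.map_comp_apply (O := 𝔛.Osh h) k e₂ (F j)).symm
  obtain ⟨c, hc⟩ := Ideal.mem_span_singleton'.1 hmem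
  change res 𝔛 h e₁ t * res 𝔛 h e₂ g = 0
  rw [← hc, mul_left_comm]
  refine mul_eq_zero_of_right c ?_
  have h2 := congrArg (res 𝔛 h e₁) ht
  rw [map_mul, map_zero] at h2
  simp only [res, FBlow.IdealSh.map_comp_apply] at h2 ⊢
  exact h2

/-- A section over the target whose inverse image is invertible near a point is invertible near the
image. -/
theorem exists_isUnit_of_sharpLE (f : 𝔜 ⟶ 𝔛) {V : (𝔛.X 0).Opens} {W : (𝔜.X 0).Opens}
    (e : W ≤ (f : Hom 𝔜 𝔛).app 0 ⁻¹ᵁ V) (c : Sec 𝔛 h V) {y : 𝔜.X 0} (hy : y ∈ W)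
    (hc : IsUnit (sharpLE (hY := hY) (h := h) f e c)) :
    ∃ (V' : (𝔛.X 0).Opens) (i : V' ≤ V), (f : Hom 𝔜 𝔛).app 0 y ∈ V' ∧ IsUnit (res 𝔛 h i c) := by
  have h1 : IsUnit (((f : Hom 𝔜 𝔛).app 0).appLE (𝔛.lvU h 0 V) (𝔜.lvU hY 0 W)
      (lvU_le_preimage f e 0) (proj 𝔛 h V 0 c)) := by
    have := hc.map (proj 𝔜 hY W 0).hom
    rwa [show (proj 𝔜 hY W 0).hom (sharpLE (hY := hY) (h := h) f e c) = _ from
      ConcreteCategory.congr_hom (sharpLE_proj (hY := hY) (h := h) f e 0) c] at this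
  have h2 := (𝔜.X 0).basicOpen_of_isUnit h1
  have hy' : y ∈ (f : Hom 𝔜 𝔛).app 0 ⁻¹ᵁ (𝔛.X 0).basicOpen (proj 𝔛 h V 0 c) := by
    rw [Scheme.preimage_basicOpen]
    have h3 := (𝔜.X 0).basicOpen_res (((f : Hom 𝔜 𝔛).app 0).app (𝔛.lvU h 0 V) (proj 𝔛 h V 0 c))
      (homOfLE (lvU_le_preimage (hY := hY) (h := h) f e 0)).op
    exact (h3.symm.trans h2).ge ((lvU_zero (h := hY) W).ge hy) |>.2
  obtain ⟨V', i, hyV', hu⟩ := exists_isUnit_res c ((f : Hom 𝔜 𝔛).app 0 y)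
    ((lvU_zero (h := h) V).ge (e hy))
    (((𝔛.X 0).mem_basicOpen _ _ ((lvU_zero (h := h) V).ge (e hy))).1 hy')
  exact ⟨V', i, hyV', hu⟩

end Dominant

end Groth.Agent.FBlow13
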