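import Groth.Agent.FBlow13.Glue

/-!
Existence of admissible formal blow-ups of coherent open ideals.
-/

set_option autoImplicit false

universe u

open CategoryTheory CategoryTheory.Limits AlgebraicGeometry TopologicalSpace Opposite

namespace Groth.Agent.FBlow13

open _root_.FSch

variable {R : Type u} [CommRing R] {I : Ideal R} {𝔛 : Sys.{u}} {h : 𝔛.IsFormal}
  {p : 𝔛 ⟶ FSch.spf R I}

/-- Near every point a coherent open ideal is generated by a finitely generated open ideal of the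
sections over an affine open. -/
theorem exists_affine_genOn (hp : IsAdicHom p) (hR : AdicRing.IsBase R I)
    {J : FBlow.IdealSh (𝔛.Osh h)} (hJ : FBlow.IsCohOpen 𝔛 h J) (x : 𝔛.X 0)
    {O : (𝔛.X 0).Opens} (hxO : x ∈ O) :
    ∃ U : (𝔛.X 0).Opens, IsAffineOpen U ∧ x ∈ U ∧ U ≤ O ∧
      GenOn J U (J.sect U : Set (Sec 𝔛 h U)) ∧ (J.sect U).FG ∧
      ∃ n : ℕ, (I ^ (n + 1)).map (baseSec h p U).hom ≤ J.sect U := by
  obtain ⟨U₀, hxU₀, n, 𝒜, hFT, h𝒜⟩ := hJ x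
  obtain ⟨W, hxW, hW⟩ := MP99.exists_affine_le x (W := U₀ ⊓ O) ⟨hxU₀, hxO⟩
  obtain ⟨h1, h2, h3⟩ := genOn_affine hp hR W.2 n 𝒜 hFT
    fun V hV => h𝒜 V (hV.trans (hW.trans inf_le_left))
  exact ⟨W.1, W.2, hxW, hW.trans inf_le_right, h1, h2, n, h3⟩

/-- Existence of the admissible formal blow-up. -/
theorem exists_isAdmBlowUp (hp : IsAdicHom p) (hR : AdicRing.IsBase R I)
    (hfp : ∀ n, LocallyOfFinitePresentation ((p : Hom 𝔛 (FSch.spf R I)).app n))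
    (htf : ∀ (U : (𝔛.X 0).Opens) (s : (𝔛.Osh h).obj.obj (op U)),
      (∀ a ∈ (FBlow.IdealSh.ker (𝔛.OshProj h 0)).sect U, a * s = 0) → s = 0)
    {J : FBlow.IdealSh (𝔛.Osh h)} (hJ : FBlow.IsCohOpen 𝔛 h J) :
    ∃ (𝔓 : Sys.{u}) (hP : 𝔓.IsFormal) (b : 𝔓 ⟶ 𝔛), FBlow.IsAdmBlowUp b hP h J := by
  refine exists_isAdmBlowUp_of_local fun x => ?_
  obtain ⟨U, hU, hxU, -, hgen, hfg, -⟩ := exists_affine_genOn hp hR hJ x (O := ⊤) trivial
  exact ⟨⟨U, exists_isBlowUpOver hp hR hfp htf hU hgen hfg⟩, hxU⟩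

end Groth.Agent.FBlow13
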