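import Groth.Agent.FBlow13.Admissible
import Mathlib.RingTheory.Spectrum.Prime.Noetherian
import Mathlib.RingTheory.Spectrum.Prime.Homeomorph

/-!
The underlying space of a formal scheme locally of finite presentation over an admitted base is
locally Noetherian.
-/

set_option autoImplicit false

universe u

open CategoryTheory CategoryTheory.Limits AlgebraicGeometry TopologicalSpace Opposite

namespace Groth.Agent.FBlow13

open _root_.FSch

/-- Modulo the radical of the ideal of definition an admitted base is Noetherian. -/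
theorem isNoetherianRing_quotient_radical {R : Type u} [CommRing R] {I : Ideal R}
    (hR : AdicRing.IsBase R I) : IsNoetherianRing (R ⧸ I.radical) := by
  rcases Frg27.base_cases hR with ⟨hN, -⟩ | ⟨_, _, _, t, ht, rfl, -⟩
  · exact Ideal.Quotient.isNoetherianRing _
  by_cases htop : Ideal.span {t} = (⊤ : Ideal R)
  · rw [htop, Ideal.radical_top]
    have : Subsingleton (R ⧸ (⊤ : Ideal R)) := Ideal.Quotient.subsingleton_iff.2 rfl
    infer_instance
  have hprime : ∀ P : Ideal R, Ideal.span {t} ≤ P → P.IsPrime → P = IsLocalRing.maximalIdeal R := by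
    intro P hP hPp
    have hbot : P ≠ ⊥ := fun hbot => ht (by simpa [hbot] using hP (Ideal.mem_span_singleton_self t))
    exact IsLocalRing.eq_maximalIdeal (hPp.isMaximal_of_ne_bot hbot)
  have hmax : (Ideal.span {t}).radical = IsLocalRing.maximalIdeal R := by
    refine le_antisymm ((IsLocalRing.maximalIdeal.isMaximal R).isPrime.radical_le_iff.2
      (IsLocalRing.le_maximalIdeal htop)) ?_
    rw [Ideal.radical_eq_sInf]
    exact le_sInf fun P hP => (hprime P hP.1 hP.2).ge
  rw [hmax]
  let := Ideal.Quotient.field (IsLocalRing.maximalIdeal R)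
  infer_instance

/-- An algebra of finite type killing the ideal of definition has Noetherian spectrum. -/
theorem noetherianSpace_primeSpectrum {R : Type u} [CommRing R] {I : Ideal R}
    (hR : AdicRing.IsBase R I) {A : Type u} [CommRing A] (φ : R →+* A) (hφ : φ.FiniteType)
    (hI : I ≤ RingHom.ker φ) : NoetherianSpace (PrimeSpectrum A) := by
  have := isNoetherianRing_quotient_radical hR
  have hle : I.radical ≤ RingHom.ker ((Ideal.Quotient.mk (nilradical A)).comp φ) := by
    intro r hr
    obtain ⟨n, hn⟩ := hr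
    rw [RingHom.mem_ker, RingHom.comp_apply, Ideal.Quotient.eq_zero_iff_mem, mem_nilradical]
    exact ⟨n, by rw [← map_pow]; exact RingHom.mem_ker.1 (hI hn)⟩
  let ψ : R ⧸ I.radical →+* A ⧸ nilradical A := Ideal.Quotient.lift I.radical _ hle
  have h1 : ψ.FiniteType := by
    refine RingHom.FiniteType.of_comp_finiteType (f := Ideal.Quotient.mk I.radical) ?_
    rw [show ψ.comp (Ideal.Quotient.mk I.radical) = (Ideal.Quotient.mk (nilradical A)).comp φ from
      RingHom.ext fun _ => rfl]
    exact (RingHom.FiniteType.of_surjective _ Ideal.Quotient.mk_surjective).comp hφ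
  have : IsNoetherianRing (A ⧸ nilradical A) := by
    let := ψ.toAlgebra
    have : Algebra.FiniteType (R ⧸ I.radical) (A ⧸ nilradical A) := h1
    exact Algebra.FiniteType.isNoetherianRing (R ⧸ I.radical) _
  have h2 : IsHomeomorph (PrimeSpectrum.comap (Ideal.Quotient.mk (nilradical A))) :=
    PrimeSpectrum.isHomeomorph_comap _
      (fun a => by
        obtain ⟨b, rfl⟩ := Ideal.Quotient.mk_surjective a
        exact ⟨1, one_pos, b, (pow_one _).symm⟩)
      (Ideal.mk_ker.le)
  exact noetherianSpace_of_surjective _ h2.continuous h2.surjective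

variable {R : Type u} [CommRing R] {I : Ideal R} {𝔛 : Sys.{u}} {h : 𝔛.IsFormal}
  {p : 𝔛 ⟶ FSch.spf R I}

/-- Affine opens of the bottom level are Noetherian spaces. -/
theorem noetherianSpace_affine (hR : AdicRing.IsBase R I)
    (hft : LocallyOfFiniteType ((p : Hom 𝔛 (FSch.spf R I)).app 0)) {U : (𝔛.X 0).Opens}
    (hU : IsAffineOpen U) : NoetherianSpace (U : Set (𝔛.X 0)) := by
  have : IsAffine ((FSch.spf R I).X 0) := inferInstanceAs (IsAffine (Spec _))
  let a : CommRingCat.of (R ⧸ I ^ (0 + 1)) ⟶ Γ(𝔛.X 0, U) :=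
    (Scheme.ΓSpecIso (CommRingCat.of (R ⧸ I ^ (0 + 1)))).inv ≫
      ((p : Hom 𝔛 (FSch.spf R I)).app 0).appLE ⊤ U le_top
  have h0 : a.hom.FiniteType :=
    (hft.finiteType_appLE (isAffineOpen_top _) hU le_top).comp (RingHom.FiniteType.of_surjective _
      (ConcreteCategory.bijective_of_isIso
        (Scheme.ΓSpecIso (CommRingCat.of (R ⧸ I ^ (0 + 1)))).inv).2)
  have : NoetherianSpace (PrimeSpectrum Γ(𝔛.X 0, U)) := by
    refine noetherianSpace_primeSpectrum hR (a.hom.comp (Ideal.Quotient.mk (I ^ (0 + 1))))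
      (h0.comp (RingHom.FiniteType.of_surjective _ Ideal.Quotient.mk_surjective)) fun r hr => ?_
    rw [RingHom.mem_ker, RingHom.comp_apply,
      Ideal.Quotient.eq_zero_iff_mem.2 (by rwa [zero_add, pow_one]), map_zero]
  have h1 : NoetherianSpace (Set.range hU.fromSpec) :=
    @NoetherianSpace.range (PrimeSpectrum Γ(𝔛.X 0, U)) (𝔛.X 0) _ _ this hU.fromSpec
      hU.fromSpec.continuous
  rwa [hU.range_fromSpec] at h1

/-- Every level is locally Noetherian as a space. -/
theorem locally_noetherianSpace_level (hR : AdicRing.IsBase R I)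
    (hft : LocallyOfFiniteType ((p : Hom 𝔛 (FSch.spf R I)).app 0)) (h : 𝔛.IsFormal) (n : ℕ)
    (y : 𝔛.X n) : ∃ U : (𝔛.X n).Opens, y ∈ U ∧ NoetherianSpace (U : Set (𝔛.X n)) := by
  obtain ⟨W, hxW, -⟩ := MP99.exists_affine_le (𝔛.gInv h n y) (W := ⊤) trivial
  refine ⟨𝔛.lvU h n W.1, hxW, ?_⟩
  have := noetherianSpace_affine hR hft W.2
  have hc : Continuous ((𝔛.levelHomeo h n) : 𝔛.X 0 → 𝔛.X n) := (𝔛.levelHomeo h n).continuous
  have h1 : NoetherianSpace (Set.range fun x : (W.1 : Set (𝔛.X 0)) => 𝔛.levelHomeo h n x.1) :=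
    NoetherianSpace.range _ (hc.comp continuous_subtype_val)
  have e : (Set.range fun x : (W.1 : Set (𝔛.X 0)) => 𝔛.levelHomeo h n x.1) =
      (𝔛.lvU h n W.1 : Set (𝔛.X n)) := by
    ext z
    constructor
    · rintro ⟨x, rfl⟩
      exact (toX_preimage_lvU (h := h) n W.1).ge x.2
    · intro hz
      obtain ⟨x, rfl⟩ := 𝔛.toX_surjective h n z
      exact ⟨⟨x, (toX_preimage_lvU (h := h) n W.1).le hz⟩, rfl⟩
  rwa [e] at h1

end Groth.Agent.FBlow13
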