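import Groth.Agent.FBlow13.SubData
import Groth.Agent.FBlow13.LocNoeth
import Groth.Agent.FBlow13.AdmModel

/-!
Extension of coherent open ideals.
-/

set_option autoImplicit false

universe u

open CategoryTheory CategoryTheory.Limits AlgebraicGeometry TopologicalSpace Opposite

namespace Groth.Agent.FBlow13

open _root_.FSch
open Groth.Agent.QC70 (unitMod toUnit)
open Groth.Agent.SubMod72 (Sub AgreeOn)

variable {R : Type u} [CommRing R] {I : Ideal R} {𝔛 : Sys.{u}} {h : 𝔛.IsFormal}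
  {p : 𝔛 ⟶ FSch.spf R I}

/-- Over `U` the ideal sheaf is of finite type and contains a fixed power of the ideal of
definition. -/
def OpenFTOn (h : 𝔛.IsFormal) (p : 𝔛 ⟶ FSch.spf R I) (K : FBlow.IdealSh (𝔛.Osh h))
    (U : (𝔛.X 0).Opens) (N : ℕ) : Prop :=
  ∀ x ∈ U, ∃ A : (𝔛.X 0).Opens, IsAffineOpen A ∧ x ∈ A ∧ A ≤ U ∧
    ∃ S : Set (Sec 𝔛 h A), S.Finite ∧ GenOn K A S ∧
      ∀ t ∈ I ^ (N + 1), baseSec h p A t ∈ K.sect A

theorem OpenFTOn.mono_level {K : FBlow.IdealSh (𝔛.Osh h)} {U : (𝔛.X 0).Opens} {N M : ℕ}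
    (hK : OpenFTOn h p K U N) (hNM : N ≤ M) : OpenFTOn h p K U M := fun x hx =>
  have ⟨A, hA, hxA, hAU, S, hS, hgen, hI⟩ := hK x hx
  ⟨A, hA, hxA, hAU, S, hS, hgen,
    fun t ht => hI t (Ideal.pow_le_pow_right (Nat.add_le_add_right hNM 1) ht)⟩

theorem OpenFTOn.sup {K : FBlow.IdealSh (𝔛.Osh h)} {U V : (𝔛.X 0).Opens} {N : ℕ}
    (hU : OpenFTOn h p K U N) (hV : OpenFTOn h p K V N) : OpenFTOn h p K (U ⊔ V) N := by
  rintro x (hx | hx)
  · obtain ⟨A, hA, hxA, hAU, h1⟩ := hU x hx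
    exact ⟨A, hA, hxA, hAU.trans le_sup_left, h1⟩
  · obtain ⟨A, hA, hxA, hAV, h1⟩ := hV x hx
    exact ⟨A, hA, hxA, hAV.trans le_sup_right, h1⟩

/-- On a quasi-compact open one power of the ideal of definition suffices. -/
theorem exists_openFTOn {K : FBlow.IdealSh (𝔛.Osh h)} {U : (𝔛.X 0).Opens}
    (hU : IsCompact (U : Set (𝔛.X 0)))
    (hK : ∀ x ∈ U, ∃ A : (𝔛.X 0).Opens, IsAffineOpen A ∧ x ∈ A ∧ A ≤ U ∧
      ∃ S : Set (Sec 𝔛 h A), S.Finite ∧ GenOn K A S ∧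
        ∃ N : ℕ, ∀ t ∈ I ^ (N + 1), baseSec h p A t ∈ K.sect A) :
    ∃ N, OpenFTOn h p K U N := by
  choose A hA hxA hAU S hS hgen N hN using hK
  obtain ⟨T, hT⟩ := hU.elim_finite_subcover (fun x : U => (A x.1 x.2 : Set (𝔛.X 0)))
    (fun x => (A x.1 x.2).2) (fun x hx => Set.mem_iUnion.2 ⟨⟨x, hx⟩, hxA x hx⟩)
  refine ⟨T.sup fun y => N y.1 y.2, fun x hx => ?_⟩
  obtain ⟨y, hy, hxy⟩ := Set.mem_iUnion₂.1 (hT hx)
  exact ⟨A y.1 y.2, hA _ _, hxy, hAU _ _, S _ _, hS _ _, hgen _ _, fun t ht => hN _ _ t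
    (Ideal.pow_le_pow_right (Nat.add_le_add_right (Finset.le_sup (f := fun z : U => N z.1 z.2) hy) 1) ht)⟩

theorem le_of_lvU_le {n : ℕ} {V A : (𝔛.X 0).Opens} (hle : 𝔛.lvU h n V ≤ 𝔛.lvU h n A) : V ≤ A :=
  fun _ hx => (toX_preimage_lvU (h := h) n A).le (hle ((toX_preimage_lvU (h := h) n V).ge hx))

/-- The sections on the level `N` which lie in a subsheaf, as an ideal. -/
def unitIdeal {X : Scheme.{u}} (Q : Sub (unitMod X)) (W : X.Opens) : Ideal Γ(X, W) where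
  carrier := {a | toUnit a ∈ Q.carrier W}
  add_mem' {a b} ha hb := by
    simp only [Set.mem_ofPred_eq] at ha hb ⊢
    exact (Q.carrier W).add_mem ha hb
  zero_mem' := by
    simp only [Set.mem_ofPred_eq]
    exact (Q.carrier W).zero_mem
  smul_mem' c a ha := by
    simp only [Set.mem_ofPred_eq] at ha ⊢
    exact (Q.carrier W).smul_mem c ha

theorem mem_unitIdeal {X : Scheme.{u}} {Q : Sub (unitMod X)} {W : X.Opens} {a : Γ(X, W)} :
    a ∈ unitIdeal Q W ↔ toUnit a ∈ Q.carrier W := by simp [unitIdeal]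

variable (K : FBlow.IdealSh (𝔛.Osh h)) (N : ℕ)

/-- The image of an ideal sheaf in the structure sheaf of a level, as a set of sections. -/
def ImgMem (T : (𝔛.X N).Opens) (s : Γ(𝔛.X N, T)) : Prop :=
  ∀ y ∈ T, ∃ (V : (𝔛.X 0).Opens) (e : 𝔛.lvU h N V ≤ T), y ∈ 𝔛.lvU h N V ∧
    (𝔛.X N).presheaf.map (homOfLE e).op s ∈ (K.sect V).map (proj 𝔛 h V N).hom

theorem imgMem_map {T : (𝔛.X N).Opens} {s : Γ(𝔛.X N, T)} {V V' : (𝔛.X 0).Opens} (i : V' ≤ V)
    (e : 𝔛.lvU h N V ≤ T)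
    (hs : (𝔛.X N).presheaf.map (homOfLE e).op s ∈ (K.sect V).map (proj 𝔛 h V N).hom) :
    (𝔛.X N).presheaf.map (homOfLE ((FBlow.lvU_mono 𝔛 h N i).trans e)).op s ∈
      (K.sect V').map (proj 𝔛 h V' N).hom := by
  have h1 := Ideal.mem_map_of_mem ((𝔛.X N).presheaf.map (homOfLE (FBlow.lvU_mono 𝔛 h N i)).op).hom hs
  rw [Ideal.map_map, ← CommRingCat.hom_comp, ← proj_res, CommRingCat.hom_comp, ← Ideal.map_map] at h1
  refine Ideal.map_mono (Ideal.map_le_iff_le_comap.2 fun a ha => K.map_mem i ha) ?_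
  erw [FBlow.sch_map_comp_apply] at h1
  exact h1

/-- The image of an ideal sheaf in the structure sheaf of a level. -/
noncomputable def imgSub : Sub (unitMod (𝔛.X N)) where
  carrier T :=
    { carrier := {s | ImgMem K N T (show Γ(𝔛.X N, T) from s)}
      add_mem' := fun {s t} hs ht => by
        simp only [Set.mem_ofPred_eq] at hs ht ⊢
        intro y hy
        obtain ⟨V, e, hyV, hV⟩ := hs y hy
        obtain ⟨V', e', hyV', hV'⟩ := ht y hy
        refine ⟨V ⊓ V', (FBlow.lvU_mono 𝔛 h N inf_le_left).trans e, ⟨hyV, hyV'⟩, ?_⟩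
        change (𝔛.X N).presheaf.map _ ((show Γ(𝔛.X N, T) from s) + (show Γ(𝔛.X N, T) from t)) ∈ _
        rw [map_add]
        exact Ideal.add_mem _ (imgMem_map K N inf_le_left e hV) (imgMem_map K N inf_le_right e' hV')
      zero_mem' := by
        simp only [Set.mem_ofPred_eq]
        intro y hy
        obtain ⟨W, hyW, hW⟩ := MP99.exists_affine_le (𝔛.gInv h N y) (W := 𝔛.toX N ⁻¹ᵁ T) (by
          obtain ⟨z, rfl⟩ := 𝔛.toX_surjective h N y
          have : 𝔛.gInv h N ((𝔛.toX N) z) = z :=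
            ConcreteCategory.congr_hom (𝔛.toX_base_gInv h N) z
          rw [this]
          exact hy)
        refine ⟨W.1, fun z hz => ?_, hyW, ?_⟩
        · obtain ⟨w, rfl⟩ := 𝔛.toX_surjective h N z
          exact hW ((toX_preimage_lvU (h := h) N W.1).le hz)
        · change (𝔛.X N).presheaf.map _ (0 : Γ(𝔛.X N, T)) ∈ _
          rw [map_zero]
          exact Ideal.zero_mem _
      smul_mem' := fun c s hs => by
        simp only [Set.mem_ofPred_eq] at hs ⊢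
        intro y hy
        obtain ⟨V, e, hyV, hV⟩ := hs y hy
        refine ⟨V, e, hyV, ?_⟩
        change (𝔛.X N).presheaf.map _ ((show Γ(𝔛.X N, T) from c) * (show Γ(𝔛.X N, T) from s)) ∈ _
        rw [map_mul]
        exact Ideal.mul_mem_left _ _ hV }
  res_mem {T' T} hle s hs := by
    simp only [Submodule.mem_mk, AddSubmonoid.mem_mk, AddSubsemigroup.mem_mk, Set.mem_ofPred_eq] at hs ⊢
    intro y hy
    obtain ⟨V, e, hyV, hV⟩ := hs y (hle hy)
    refine ⟨V ⊓ (𝔛.toX N ⁻¹ᵁ T'), ?_, ⟨hyV, ?_⟩, ?_⟩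
    · intro z hz
      obtain ⟨w, rfl⟩ := 𝔛.toX_surjective h N z
      exact ((toX_preimage_lvU (h := h) N (V ⊓ 𝔛.toX N ⁻¹ᵁ T')).le hz).2
    · obtain ⟨z, rfl⟩ := 𝔛.toX_surjective h N y
      show 𝔛.gInv h N ((𝔛.toX N) z) ∈ 𝔛.toX N ⁻¹ᵁ T'
      rw [show 𝔛.gInv h N ((𝔛.toX N) z) = z from ConcreteCategory.congr_hom (𝔛.toX_base_gInv h N) z]
      exact hy
    · have h1 := imgMem_map K N (inf_le_left : V ⊓ 𝔛.toX N ⁻¹ᵁ T' ≤ V) e hV
      change (𝔛.X N).presheaf.map _ ((𝔛.X N).presheaf.map (homOfLE hle).op (show Γ(𝔛.X N, T) from s)) ∈ _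
      erw [FBlow.sch_map_comp_apply]
      exact h1
  local_mem {T} s hs := by
    simp only [Submodule.mem_mk, AddSubmonoid.mem_mk, AddSubsemigroup.mem_mk, Set.mem_ofPred_eq] at hs ⊢
    intro y hy
    obtain ⟨T', hle, hyT', hs'⟩ := hs y hy
    obtain ⟨V, e, hyV, hV⟩ := hs' y hyT'
    refine ⟨V, e.trans hle, hyV, ?_⟩
    change (𝔛.X N).presheaf.map (homOfLE e).op
      ((𝔛.X N).presheaf.map (homOfLE hle).op (show Γ(𝔛.X N, T) from s)) ∈ _ at hV
    erw [FBlow.sch_map_comp_apply] at hV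
    exact hV

theorem mem_imgSub {T : (𝔛.X N).Opens} (s : Γ(𝔛.X N, T)) :
    toUnit s ∈ (imgSub K N).carrier T ↔ ImgMem K N T s := by simp [imgSub]

variable {K N}

theorem proj_mem_imgSub {V : (𝔛.X 0).Opens} {s : Sec 𝔛 h V} (hs : s ∈ K.sect V) :
    toUnit (proj 𝔛 h V N s) ∈ (imgSub K N).carrier (𝔛.lvU h N V) := by
  refine (mem_imgSub K N _).2 fun y hy => ⟨V, le_rfl, hy, ?_⟩
  erw [FBlow.IdealSh.map_id_apply (O := (𝔛.X N).sheaf) le_rfl]
  exact Ideal.mem_map_of_mem _ hs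

/-- Where the ideal sheaf is generated, so is its image. -/
theorem agreeOn_imgSub {A : (𝔛.X 0).Opens} {S : Set (Sec 𝔛 h A)} (hgen : GenOn K A S) :
    AgreeOn (𝔛.lvU h N A) (imgSub K N)
      (SubMod72.locSpan (F := unitMod (𝔛.X N)) (toUnit '' (proj 𝔛 h A N '' S))) := by
  refine fun T hT => le_antisymm (fun x hx => ?_) (SubMod72.span_le_of_forall_mem hT ?_)
  · refine (SubMod72.locSpan (toUnit '' (proj 𝔛 h A N '' S))).local_mem x fun y hy => ?_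
    obtain ⟨V, e, hyV, hV⟩ := (mem_imgSub K N (QC70.toUnit x)).1 hx y hy
    refine ⟨𝔛.lvU h N V, e, hyV, ?_⟩
    have hVA : V ≤ A := le_of_lvU_le (e.trans hT)
    refine mem_unitIdeal.1 ((Ideal.map_le_iff_le_comap.2 fun t ht => ?_) hV)
    rw [Ideal.mem_comap, mem_unitIdeal]
    refine (SubMod72.locSpan (toUnit '' (proj 𝔛 h A N '' S))).local_mem _ fun z hz => ?_
    obtain ⟨W, j, hzW, hW⟩ := hgen.2 V hVA ht (𝔛.gInv h N z) hz
    refine ⟨𝔛.lvU h N W, FBlow.lvU_mono 𝔛 h N j, hzW, ?_⟩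
    have h1 : proj 𝔛 h W N (res 𝔛 h j t) ∈ unitIdeal
        (SubMod72.locSpan (toUnit '' (proj 𝔛 h A N '' S))) (𝔛.lvU h N W) := by
      refine ((Ideal.map_span _ _).le.trans (Ideal.span_le.2 ?_))
        (Ideal.mem_map_of_mem (proj 𝔛 h W N).hom hW)
      rintro _ ⟨_, ⟨a, ha, rfl⟩, rfl⟩
      rw [SetLike.mem_coe, mem_unitIdeal]
      erw [proj_res_apply (j.trans hVA) N a]
      exact SubMod72.self_mem_locSpan (FBlow.lvU_mono 𝔛 h N (j.trans hVA))
        ⟨_, ⟨a, ha, rfl⟩, rfl⟩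
    rw [mem_unitIdeal, proj_res_apply] at h1
    exact h1
  · rintro _ ⟨_, ⟨a, ha, rfl⟩, rfl⟩
    exact (imgSub K N).res_mem hT (proj_mem_imgSub (hgen.1 ha))

set_option backward.isDefEq.respectTransparency false in
/-- An ideal sheaf which is open and of finite type on an open is given there by finite type ideal
data on a level. -/
theorem exists_levelData (hp : IsAdicHom p) (hR : AdicRing.IsBase R I)
    (hft : LocallyOfFiniteType ((p : Hom 𝔛 (FSch.spf R I)).app 0))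
    {U : (𝔛.X 0).Opens} (hK : OpenFTOn h p K U N) :
    ∃ ℬ : (𝔛.X N).IdealSheafData, FSch.IdealFT ℬ ∧
      ∀ T : (𝔛.X 0).Opens, T ≤ U → (FBlow.ofLevel 𝔛 h N ℬ).sect T = K.sect T := by
  have hFG : SubMod72.FG (𝔛.lvU h N U) (imgSub K N) := fun y hy => by
    obtain ⟨A, -, hyA, hAU, S, hS, hgen, -⟩ := hK _ hy
    exact ⟨𝔛.lvU h N A, _, FBlow.lvU_mono 𝔛 h N hAU, hyA, (hS.image _).image _, agreeOn_imgSub hgen⟩
  obtain ⟨Q, hQ, hQK⟩ :=
    SubMod72.exists_extension_noetherian (locally_noetherianSpace_level hR hft h N) hFG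
  obtain ⟨ℬ, hℬ, hmem⟩ := exists_idealData_unit Q hQ
  refine ⟨ℬ, hℬ, fun T hT => ?_⟩
  ext s
  rw [FBlow.mem_ofLevel_iff, hmem, hQK _ (FBlow.lvU_mono 𝔛 h N hT)]
  refine ⟨fun hs => K.mem_of_local fun x hx => ?_, fun hs => proj_mem_imgSub hs⟩
  have hy : (𝔛.toX N) x ∈ 𝔛.lvU h N T := (toX_preimage_lvU (h := h) N T).ge hx
  obtain ⟨V, e, hyV, hV⟩ := (mem_imgSub K N _).1 hs _ hy
  obtain ⟨A, -, hxA, hAU, S, -, -, hI⟩ := hK x (hT hx)
  obtain ⟨W, hxW, hW⟩ := MP99.exists_affine_le x (W := V ⊓ A)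
    ⟨(toX_preimage_lvU (h := h) N V).le hyV, hxA⟩
  have hVT : V ≤ T := le_of_lvU_le e
  have hWV : W.1 ≤ V := hW.trans inf_le_left
  refine ⟨W.1, hWV.trans hVT, hxW, ?_⟩
  obtain ⟨hsurj, hker⟩ := (sec_props (h := h) hp hR W.2).1 N
  have h1 := imgMem_map K N hWV e hV
  rw [show (𝔛.OshProj h N).hom.app (op T) s = proj 𝔛 h T N s from rfl,
    ← proj_res_apply (hWV.trans hVT)] at h1
  rw [Ideal.mem_map_iff_of_surjective _ hsurj] at h1
  obtain ⟨t, ht, hts⟩ := h1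
  have h2 : res 𝔛 h (hWV.trans hVT) s - t ∈ K.sect W.1 := by
    have h3 : res 𝔛 h (hWV.trans hVT) s - t ∈ RingHom.ker (proj 𝔛 h W.1 N).hom := by
      rw [RingHom.mem_ker, map_sub, hts, sub_self]
    rw [hker] at h3
    refine (Ideal.map_le_iff_le_comap.2 fun r hr => ?_) h3
    have := K.map_mem (hW.trans inf_le_right) (hI r hr)
    exact Ideal.mem_comap.2 ((baseSec_res (h := h) (hW.trans inf_le_right) r) ▸ this)
  have := Ideal.add_mem _ h2 ht
  rwa [sub_add_cancel] at this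

/-- An ideal sheaf which is open and of finite type on an open extends to a coherent open ideal. -/
theorem exists_isCohOpen_extension (hp : IsAdicHom p) (hR : AdicRing.IsBase R I)
    (hft : LocallyOfFiniteType ((p : Hom 𝔛 (FSch.spf R I)).app 0))
    {U : (𝔛.X 0).Opens} (hK : OpenFTOn h p K U N) :
    ∃ J : FBlow.IdealSh (𝔛.Osh h), FBlow.IsCohOpen 𝔛 h J ∧
      ∀ T : (𝔛.X 0).Opens, T ≤ U → J.sect T = K.sect T := by
  obtain ⟨ℬ, hℬ, hKℬ⟩ := exists_levelData hp hR hft hK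
  exact ⟨FBlow.ofLevel 𝔛 h N ℬ, fun x => ⟨⊤, trivial, N, ℬ, hℬ, fun _ _ => rfl⟩, hKℬ⟩

end Groth.Agent.FBlow13
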