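import Groth.Agent.FBlow13.OpenImm

/-!
Admissible formal blow-ups over opens: restriction, uniqueness, and patching.
-/

set_option autoImplicit false

universe u

open CategoryTheory CategoryTheory.Limits AlgebraicGeometry TopologicalSpace Opposite

namespace Groth.Agent.FBlow13

open FBlow
open _root_.FSch

variable {𝔛 : Sys.{u}} {h : 𝔛.IsFormal} {J : IdealSh (𝔛.Osh h)}

theorem comp_restrictOpenι_preimage {𝔜 : Sys.{u}} (hY : 𝔜.IsFormal) (g : 𝔜 ⟶ 𝔛)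
    (U : (𝔛.X 0).Opens) :
    ((𝔜.restrictOpenι hY ((g : Hom 𝔜 𝔛).app 0 ⁻¹ᵁ U) ≫ g : _ ⟶ 𝔛) : Hom _ 𝔛).app 0 ⁻¹ᵁ U = ⊤ := by
  rw [comp_app, Scheme.Hom.comp_preimage]
  exact restrictOpenι_preimage (h := hY) _

theorem isInvertible_restrict {𝔜 : Sys.{u}} (hY : 𝔜.IsFormal) (g : 𝔜 ⟶ 𝔛) (V : (𝔜.X 0).Opens)
    (hg : (FBlow.idealMap g hY h J).IsInvertible) :
    (FBlow.idealMap (𝔜.restrictOpenι hY V ≫ g) (isFormal_restrictOpen hY V) h J).IsInvertible := by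
  rw [idealMap_comp (hY := hY)]
  exact (openImm_restrictOpenι (h := hY) V).isInvertible_idealMap hg

/-- A blow-up over an open restricts to one over a smaller open. -/
theorem IsBlowUpOver.restrict {U U' : (𝔛.X 0).Opens} (hU : U' ≤ U) {𝔓 : Sys.{u}} {hP : 𝔓.IsFormal}
    {b : 𝔓 ⟶ 𝔛} (hb : IsBlowUpOver h U J hP b) :
    IsBlowUpOver h U' J (isFormal_restrictOpen hP ((b : Hom 𝔓 𝔛).app 0 ⁻¹ᵁ U'))
      (𝔓.restrictOpenι hP ((b : Hom 𝔓 𝔛).app 0 ⁻¹ᵁ U') ≫ b) := by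
  refine ⟨isAdicHom_comp (isAdicHom_restrictOpenι _) hb.1, comp_restrictOpenι_preimage hP b U',
    isInvertible_restrict hP b _ hb.2.2.1, fun 𝔜 hY g hg hgU hinv => ?_⟩
  obtain ⟨k, hk, hku⟩ := hb.2.2.2 𝔜 hY g hg
    (top_unique (hgU.ge.trans (Scheme.Hom.preimage_mono _ hU))) hinv
  have hkU : (k : Hom 𝔜 𝔓).app 0 ⁻¹ᵁ ((b : Hom 𝔓 𝔛).app 0 ⁻¹ᵁ U') = ⊤ := by
    rw [← Scheme.Hom.comp_preimage, ← comp_app]
    exact (congrArg (fun t : Hom 𝔜 𝔛 => t.app 0 ⁻¹ᵁ U') hk).trans hgU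
  obtain ⟨l, hl, hlu⟩ := existsUnique_liftOpen (h := hP) k hY hkU
  refine ⟨l, ?_, fun l' hl' => hlu l' (hku _ ?_)⟩
  · show l ≫ 𝔓.restrictOpenι hP _ ≫ b = g
    rw [← Category.assoc, hl, hk]
  · show (l' ≫ 𝔓.restrictOpenι hP _) ≫ b = g
    rw [Category.assoc]
    exact hl'

/-- Two blow-ups over one open are canonically isomorphic. -/
theorem IsBlowUpOver.exists_iso {U : (𝔛.X 0).Opens} {𝔓 𝔔 : Sys.{u}} {hP : 𝔓.IsFormal}
    {hQ : 𝔔.IsFormal} {b : 𝔓 ⟶ 𝔛} {c : 𝔔 ⟶ 𝔛} (hb : IsBlowUpOver h U J hP b)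
    (hc : IsBlowUpOver h U J hQ c) : ∃ e : 𝔓 ≅ 𝔔, e.hom ≫ c = b := by
  obtain ⟨k, hk, -⟩ := hc.2.2.2 𝔓 hP b hb.1 hb.2.1 hb.2.2.1
  obtain ⟨l, hl, -⟩ := hb.2.2.2 𝔔 hQ c hc.1 hc.2.1 hc.2.2.1
  refine ⟨⟨k, l, ?_, ?_⟩, hk⟩
  · exact (hb.2.2.2 𝔓 hP b hb.1 hb.2.1 hb.2.2.1).unique (by rw [Category.assoc, hl, hk])
      (Category.id_comp _)
  · exact (hc.2.2.2 𝔔 hQ c hc.1 hc.2.1 hc.2.2.1).unique (by rw [Category.assoc, hk, hl])
      (Category.id_comp _)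

/-- Levelwise isomorphisms of systems are isomorphisms. -/
theorem isIso_sys {𝔓 𝔔 : Sys.{u}} (k : 𝔓 ⟶ 𝔔) (hk : ∀ n, IsIso ((k : Hom 𝔓 𝔔).app n)) :
    IsIso k := by
  refine ⟨⟨fun n => inv ((k : Hom 𝔓 𝔔).app n), fun n => ?_⟩, ?_, ?_⟩
  · rw [IsIso.inv_comp_eq, ← Category.assoc, (k : Hom 𝔓 𝔔).comm, Category.assoc,
      IsIso.hom_inv_id, Category.comp_id]
  · exact Hom.ext (funext fun n => IsIso.hom_inv_id _)
  · exact Hom.ext (funext fun n => IsIso.inv_hom_id _)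

/-- Being a blow-up over an open is invariant under isomorphism. -/
theorem IsBlowUpOver.of_iso {U : (𝔛.X 0).Opens} {𝔓 𝔔 : Sys.{u}} {hP : 𝔓.IsFormal} {hQ : 𝔔.IsFormal}
    {b : 𝔓 ⟶ 𝔛} {c : 𝔔 ⟶ 𝔛} (hb : IsBlowUpOver h U J hP b) (e : 𝔓 ≅ 𝔔) (he : e.hom ≫ c = b) :
    IsBlowUpOver h U J hQ c := by
  have hc : c = e.inv ≫ b := by rw [← he, Iso.inv_hom_id_assoc]
  have hinvapp : ∀ n, IsIso ((e.inv : Hom 𝔔 𝔓).app n) := fun n =>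
    ⟨(e.hom : Hom 𝔓 𝔔).app n, congrArg (fun t : Hom 𝔔 𝔔 => t.app n) e.inv_hom_id,
      congrArg (fun t : Hom 𝔓 𝔓 => t.app n) e.hom_inv_id⟩
  have hop : OpenImm e.inv := fun n => have := hinvapp n; inferInstance
  refine ⟨?_, ?_, ?_, fun 𝔜 hY g hg hgU hinv => ?_⟩
  · rw [hc]
    refine isAdicHom_comp (fun n => ?_) hb.1
    have := hinvapp n
    have := hinvapp (n + 1)
    exact IsPullback.of_vert_isIso ⟨((e.inv : Hom 𝔔 𝔓).comm n).symm⟩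
  · rw [hc, comp_app, Scheme.Hom.comp_preimage, hb.2.1]
    rfl
  · rw [hc, idealMap_comp (hY := hP)]
    exact hop.isInvertible_idealMap hb.2.2.1
  · obtain ⟨k, hk, hku⟩ := hb.2.2.2 𝔜 hY g hg hgU hinv
    refine ⟨k ≫ e.hom, ?_, fun k' hk' => ?_⟩
    · show (k ≫ e.hom) ≫ c = g
      rw [Category.assoc, he, hk]
    · rw [← hku (k' ≫ e.inv) (by
        show (k' ≫ e.inv) ≫ b = g
        rw [Category.assoc, ← hc]
        exact hk'), Category.assoc, Iso.inv_hom_id, Category.comp_id]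

theorem iSup_lvU {𝔜 : Sys.{u}} (hY : 𝔜.IsFormal) {α : Type u} (W : α → (𝔜.X 0).Opens)
    (hW : ∀ y, ∃ a, y ∈ W a) (n : ℕ) : ⨆ a, 𝔜.lvU hY n (W a) = ⊤ :=
  top_unique fun z _ => (hW (𝔜.gInv hY n z)).elim fun a ha => Opens.mem_iSup.mpr ⟨a, ha⟩

/-- Morphisms of systems agree if they do on an open cover. -/
theorem sys_hom_ext {𝔜 𝔓 : Sys.{u}} (hY : 𝔜.IsFormal) {α : Type u} (W : α → (𝔜.X 0).Opens)
    (hW : ∀ y, ∃ a, y ∈ W a) {k k' : 𝔜 ⟶ 𝔓}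
    (e : ∀ a, 𝔜.restrictOpenι hY (W a) ≫ k = 𝔜.restrictOpenι hY (W a) ≫ k') : k = k' :=
  Hom.ext (funext fun n => hom_ext_opens (fun a => 𝔜.lvU hY n (W a)) (iSup_lvU hY W hW n)
    fun a => congrArg (fun t : Hom _ 𝔓 => t.app n) (e a))

/-- Inclusions of open sub-systems. -/
theorem exists_restrictOpen_le {𝔜 : Sys.{u}} (hY : 𝔜.IsFormal) {V V' : (𝔜.X 0).Opens} (i : V' ≤ V) :
    ∃ r : 𝔜.restrictOpen hY V' ⟶ 𝔜.restrictOpen hY V,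
      r ≫ 𝔜.restrictOpenι hY V = 𝔜.restrictOpenι hY V' :=
  (existsUnique_liftOpen (h := hY) (𝔜.restrictOpenι hY V') (isFormal_restrictOpen hY V')
    (top_unique ((restrictOpenι_preimage (h := hY) V').ge.trans
      (Scheme.Hom.preimage_mono _ i)))).exists

/-- Morphisms from the members of an open cover which agree on intersections glue. -/
theorem sys_glue {𝔜 𝔓 : Sys.{u}} (hY : 𝔜.IsFormal) {α : Type u} (W : α → (𝔜.X 0).Opens)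
    (hW : ∀ y, ∃ a, y ∈ W a) (f : ∀ a, 𝔜.restrictOpen hY (W a) ⟶ 𝔓)
    (hf : ∀ (a a' : α) (r : 𝔜.restrictOpen hY (W a ⊓ W a') ⟶ 𝔜.restrictOpen hY (W a))
      (r' : 𝔜.restrictOpen hY (W a ⊓ W a') ⟶ 𝔜.restrictOpen hY (W a')),
      r ≫ 𝔜.restrictOpenι hY (W a) = 𝔜.restrictOpenι hY _ →
      r' ≫ 𝔜.restrictOpenι hY (W a') = 𝔜.restrictOpenι hY _ → r ≫ f a = r' ≫ f a') :
    ∃ k : 𝔜 ⟶ 𝔓, ∀ a, 𝔜.restrictOpenι hY (W a) ≫ k = f a := by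
  have hlvl : ∀ n, ∃ k : 𝔜.X n ⟶ 𝔓.X n,
      ∀ a, (𝔜.lvU hY n (W a)).ι ≫ k = (f a : Hom _ 𝔓).app n := fun n => by
    refine exists_glue_opens (fun a => 𝔜.lvU hY n (W a)) (iSup_lvU hY W hW n) _ fun a a' => ?_
    obtain ⟨r, hr⟩ := exists_restrictOpen_le hY (inf_le_left : W a ⊓ W a' ≤ W a)
    obtain ⟨r', hr'⟩ := exists_restrictOpen_le hY (inf_le_right : W a ⊓ W a' ≤ W a')
    have h1 := congrArg (fun t : Hom _ 𝔓 => t.app n) (hf a a' r r' hr hr')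
    have er : (r : Hom _ _).app n = (𝔜.X n).homOfLE
        (inf_le_left : 𝔜.lvU hY n (W a) ⊓ 𝔜.lvU hY n (W a') ≤ _) :=
      (cancel_mono (𝔜.lvU hY n (W a)).ι).1 ((congrArg (fun t : Hom _ 𝔜 => t.app n) hr).trans
        (Scheme.homOfLE_ι _ _).symm)
    have er' : (r' : Hom _ _).app n = (𝔜.X n).homOfLE
        (inf_le_right : 𝔜.lvU hY n (W a) ⊓ 𝔜.lvU hY n (W a') ≤ _) :=
      (cancel_mono (𝔜.lvU hY n (W a')).ι).1 ((congrArg (fun t : Hom _ 𝔜 => t.app n) hr').trans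
        (Scheme.homOfLE_ι _ _).symm)
    rw [← er, ← er']
    exact h1
  choose k hk using hlvl
  refine ⟨⟨k, fun n => hom_ext_opens (fun a => 𝔜.lvU hY n (W a)) (iSup_lvU hY W hW n) fun a => ?_⟩,
    fun a => Hom.ext (funext fun n => hk n a)⟩
  rw [reassoc_of% hk n a, ← Scheme.Hom.resLE_comp_ι_assoc (𝔜.ι n) (𝔜.lvU_le hY n (W a)), hk (n + 1) a]
  exact (f a : Hom _ 𝔓).comm n

/-- A morphism which is a blow-up over every member of an open cover of the base is a blow-up. -/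
theorem isAdmBlowUp_of_cover {α : Type u} (U : α → (𝔛.X 0).Opens) (hU : ∀ x, ∃ a, x ∈ U a)
    {𝔓 : Sys.{u}} {hP : 𝔓.IsFormal} {b : 𝔓 ⟶ 𝔛} (hb : IsAdicHom b)
    (hloc : ∀ a, IsBlowUpOver h (U a) J (isFormal_restrictOpen hP ((b : Hom 𝔓 𝔛).app 0 ⁻¹ᵁ U a))
      (𝔓.restrictOpenι hP ((b : Hom 𝔓 𝔛).app 0 ⁻¹ᵁ U a) ≫ b)) :
    FBlow.IsAdmBlowUp b hP h J := by
  refine ⟨hb, fun y => ?_, fun 𝔜 hY g hg hinv => ?_⟩
  · obtain ⟨a, ha⟩ := hU ((b : Hom 𝔓 𝔛).app 0 y)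
    have h1 := (hloc a).2.2.1
    rw [idealMap_comp (hY := hP)] at h1
    exact ((openImm_restrictOpenι (h := hP) _).invAt_idealMap_iff (FBlow.idealMap b hP h J)
      ⟨y, (lvU_zero (h := hP) ((b : Hom 𝔓 𝔛).app 0 ⁻¹ᵁ U a)).ge ha⟩).1 (h1 _)
  · have key : ∀ (𝔚 : Sys.{u}) (hW : 𝔚.IsFormal) (g' : 𝔚 ⟶ 𝔛), IsAdicHom g' →
        (FBlow.idealMap g' hW h J).IsInvertible → ∀ k k' : 𝔚 ⟶ 𝔓, k ≫ b = g' → k' ≫ b = g' →
        k = k' := by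
      intro 𝔚 hW g' hg' hinv' k k' hk hk'
      refine sys_hom_ext hW (fun a => (g' : Hom 𝔚 𝔛).app 0 ⁻¹ᵁ U a) (fun y => hU _) fun a => ?_
      have hpre : ∀ t : 𝔚 ⟶ 𝔓, t ≫ b = g' →
          ((𝔚.restrictOpenι hW ((g' : Hom 𝔚 𝔛).app 0 ⁻¹ᵁ U a) ≫ t : _ ⟶ 𝔓) : Hom _ 𝔓).app 0 ⁻¹ᵁ
            ((b : Hom 𝔓 𝔛).app 0 ⁻¹ᵁ U a) = ⊤ := fun t ht => by
        rw [← Scheme.Hom.comp_preimage, ← comp_app, Category.assoc, ht]
        exact comp_restrictOpenι_preimage hW g' (U a)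
      have hW' := isFormal_restrictOpen hW ((g' : Hom 𝔚 𝔛).app 0 ⁻¹ᵁ U a)
      obtain ⟨l, hl, -⟩ := existsUnique_liftOpen (h := hP) _ hW' (hpre k hk)
      obtain ⟨l', hl', -⟩ := existsUnique_liftOpen (h := hP) _ hW' (hpre k' hk')
      rw [← hl, ← hl', ((hloc a).2.2.2 _ hW' (𝔚.restrictOpenι hW _ ≫ g')
        (isAdicHom_comp (isAdicHom_restrictOpenι _) hg') (comp_restrictOpenι_preimage hW g' (U a))
        (isInvertible_restrict hW g' _ hinv')).unique (y₁ := l) (y₂ := l')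
          (by rw [← Category.assoc, hl, Category.assoc, hk])
          (by rw [← Category.assoc, hl', Category.assoc, hk'])]
    have hex : ∀ a, ∃ f : 𝔜.restrictOpen hY ((g : Hom 𝔜 𝔛).app 0 ⁻¹ᵁ U a) ⟶ 𝔓,
        f ≫ b = 𝔜.restrictOpenι hY _ ≫ g := fun a => by
      obtain ⟨l, hl, -⟩ := (hloc a).2.2.2 _ (isFormal_restrictOpen hY _) (𝔜.restrictOpenι hY _ ≫ g)
        (isAdicHom_comp (isAdicHom_restrictOpenι _) hg) (comp_restrictOpenι_preimage hY g (U a))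
        (isInvertible_restrict hY g _ hinv)
      exact ⟨_, (Category.assoc _ _ _).trans hl⟩
    choose f hf using hex
    obtain ⟨k, hk⟩ := sys_glue hY _ (fun y => hU _) f fun a a' r r' hr hr' =>
      key _ (isFormal_restrictOpen hY _) _ (isAdicHom_comp (isAdicHom_restrictOpenι _) hg)
        (isInvertible_restrict hY g _ hinv) _ _
        (by rw [Category.assoc, hf, ← Category.assoc, hr])
        (by rw [Category.assoc, hf, ← Category.assoc, hr'])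
    have hkb : k ≫ b = g := sys_hom_ext hY (fun a => (g : Hom 𝔜 𝔛).app 0 ⁻¹ᵁ U a) (fun y => hU _)
      fun a => by rw [← Category.assoc, hk, hf]
    exact ⟨k, hkb, fun k' hk' => key 𝔜 hY g hg hinv k' k hk' hkb⟩

end Groth.Agent.FBlow13
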