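import Groth.Agent.FBlow13.Extend
import Groth.Agent.FBlow13.Patch

/-!
Coherent open ideals on open formal subschemes extend; coherence is local.
-/

set_option autoImplicit false

universe u

open CategoryTheory CategoryTheory.Limits AlgebraicGeometry TopologicalSpace Opposite

namespace Groth.Agent.FBlow13

open _root_.FSch

variable {R : Type u} [CommRing R] {I : Ideal R} {𝔛 𝔜 : Sys.{u}} {h : 𝔛.IsFormal}
  {hY : 𝔜.IsFormal} {p : 𝔛 ⟶ FSch.spf R I}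

/-- An ideal sheaf which is near every point open and of finite type is a coherent open ideal. -/
theorem isCohOpen_of_local (hp : IsAdicHom p) (hR : AdicRing.IsBase R I)
    (hft : LocallyOfFiniteType ((p : Hom 𝔛 (FSch.spf R I)).app 0))
    {K : FBlow.IdealSh (𝔛.Osh h)}
    (hK : ∀ x, ∃ (U : (𝔛.X 0).Opens) (N : ℕ), x ∈ U ∧ OpenFTOn h p K U N) :
    FBlow.IsCohOpen 𝔛 h K := fun x => by
  obtain ⟨U, N, hxU, hU⟩ := hK x
  obtain ⟨J, hJ, hJK⟩ := exists_isCohOpen_extension hp hR hft hU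
  obtain ⟨V, hxV, n, 𝒜, hFT, h𝒜⟩ := hJ x
  exact ⟨U ⊓ V, ⟨hxU, hxV⟩, n, 𝒜, hFT, fun W hW =>
    (hJK W (hW.trans inf_le_left)).symm.trans (h𝒜 W (hW.trans inf_le_right))⟩

/-- The ideal sheaf of sections whose restrictions along `f` lie in `K`. -/
noncomputable abbrev preSh (f : 𝔜 ⟶ 𝔛) (hY : 𝔜.IsFormal) (h : 𝔛.IsFormal)
    (K : FBlow.IdealSh (𝔜.Osh hY)) : FBlow.IdealSh (𝔛.Osh h) :=
  preIdeal ((f : Hom 𝔜 𝔛).app 0).base (Hom.sharp f hY h) K

theorem mem_preSh {f : 𝔜 ⟶ 𝔛} {K : FBlow.IdealSh (𝔜.Osh hY)} {T : (𝔛.X 0).Opens}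
    {s : Sec 𝔛 h T} : s ∈ (preSh f hY h K).sect T ↔
      sharpLE (hY := hY) (h := h) f (le_refl ((f : Hom 𝔜 𝔛).app 0 ⁻¹ᵁ T)) s ∈
        K.sect ((f : Hom 𝔜 𝔛).app 0 ⁻¹ᵁ T) := by
  have e : sharpLE (hY := hY) (h := h) f (le_refl ((f : Hom 𝔜 𝔛).app 0 ⁻¹ᵁ T)) s =
      (Hom.sharp f hY h).hom.app (op T) s :=
    FBlow.IdealSh.map_id_apply (O := 𝔜.Osh hY) (le_refl _) _
  rw [e]
  exact Ideal.mem_comap

theorem OpenImm.mem_preSh_img {f : 𝔜 ⟶ 𝔛} (hf : OpenImm f) {K : FBlow.IdealSh (𝔜.Osh hY)}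
    {V : (𝔜.X 0).Opens} {s : Sec 𝔛 h (hf.img V)} : s ∈ (preSh f hY h K).sect (hf.img V) ↔
      sharpLE (hY := hY) (h := h) f (hf.le_preimage_img V) s ∈ K.sect V := by
  rw [mem_preSh]
  refine ⟨fun hs => ?_, fun hs => ?_⟩
  · have := K.map_mem (hf.le_preimage_img V) hs
    erw [sharpLE_res] at this
    exact this
  · have := K.map_mem (hf.preimage_img V).le hs
    erw [sharpLE_res] at this
    exact this

/-- Restricting back gives the ideal sheaf again. -/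
theorem OpenImm.idealMap_preSh {f : 𝔜 ⟶ 𝔛} (hf : OpenImm f) (K : FBlow.IdealSh (𝔜.Osh hY)) :
    FBlow.idealMap f hY h (preSh f hY h K) = K := by
  rw [hf.idealMap_eq]
  refine FBlow.IdealSh.ext (funext fun V => le_antisymm ?_ fun t ht => ?_)
  · exact Ideal.map_le_iff_le_comap.2 fun s hs => Ideal.mem_comap.2 (hf.mem_preSh_img.1 hs)
  · obtain ⟨s, rfl⟩ := (hf.sharpLE_bijective (hY := hY) (h := h) V).2 t
    exact Ideal.mem_map_of_mem _ (hf.mem_preSh_img.2 ht)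

/-- Equal ideal sheaves on the image give equal inverse images. -/
theorem OpenImm.idealMap_congr {f : 𝔜 ⟶ 𝔛} (hf : OpenImm f) {J K : FBlow.IdealSh (𝔛.Osh h)}
    (e : ∀ T : (𝔛.X 0).Opens, T ≤ hf.img ⊤ → J.sect T = K.sect T) :
    FBlow.idealMap f hY h J = FBlow.idealMap f hY h K := by
  rw [hf.idealMap_eq, hf.idealMap_eq]
  refine FBlow.IdealSh.ext (funext fun V => ?_)
  show (J.sect (hf.img V)).map _ = (K.sect (hf.img V)).map _
  rw [e _ (hf.img_mono le_top)]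

/-- Generators on an open of the source generate the direct image on the image. -/
theorem OpenImm.genOn_preSh {f : 𝔜 ⟶ 𝔛} (hf : OpenImm f) {K : FBlow.IdealSh (𝔜.Osh hY)}
    {A : (𝔜.X 0).Opens} {S : Set (Sec 𝔛 h (hf.img A))}
    (hgen : GenOn K A (sharpLE (hY := hY) (h := h) f (hf.le_preimage_img A) '' S)) :
    GenOn (preSh f hY h K) (hf.img A) S := by
  refine ⟨fun a ha => hf.mem_preSh_img.2 (hgen.1 ⟨a, ha, rfl⟩), fun V i s hs x hx => ?_⟩
  obtain ⟨y, hy, rfl⟩ := i hx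
  have hpre : (f : Hom 𝔜 𝔛).app 0 ⁻¹ᵁ V ≤ A :=
    (Scheme.Hom.preimage_mono _ i).trans (hf.preimage_img A).le
  obtain ⟨W, j, hyW, hW⟩ := hgen.2 _ hpre (mem_preSh.1 hs) y hx
  have hWV : hf.img W ≤ V := hf.img_le j
  refine ⟨hf.img W, hWV, ⟨y, hyW, rfl⟩, ?_⟩
  let σ := sharpLE (hY := hY) (h := h) f (hf.le_preimage_img W)
  have hbij := hf.sharpLE_bijective (hY := hY) (h := h) W
  have hsp : σ (res 𝔛 h hWV s) ∈
      (Ideal.span (rs (𝔛.Osh h) (hWV.trans i) '' S)).map σ.hom := by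
    rw [Ideal.map_span, Set.image_image]
    rw [Set.image_image] at hW
    have e1 : σ (res 𝔛 h hWV s) =
        rs (𝔜.Osh hY) j (sharpLE (hY := hY) (h := h) f (le_refl ((f : Hom 𝔜 𝔛).app 0 ⁻¹ᵁ V)) s) :=
      (sharpLE_res_left (hY := hY) (h := h) f hWV _ s).trans
        (sharpLE_res (hY := hY) (h := h) f (le_refl _) j s).symm
    have e2 : ∀ a ∈ S, σ.hom (rs (𝔛.Osh h) (hWV.trans i) a) =
        rs (𝔜.Osh hY) (j.trans hpre) (sharpLE (hY := hY) (h := h) f (hf.le_preimage_img A) a) :=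
      fun a _ => (sharpLE_res_left (hY := hY) (h := h) f (hWV.trans i) _ a).trans
        (sharpLE_res (hY := hY) (h := h) f (hf.le_preimage_img A) (j.trans hpre) a).symm
    rw [e1, Set.image_congr e2]
    exact hW
  obtain ⟨t, ht, e⟩ := (Ideal.mem_map_iff_of_surjective _ hbij.2).1 hsp
  exact hbij.1 e ▸ ht

/-- A coherent open ideal on an open formal subscheme is open and of finite type there. -/
theorem exists_openFTOn_preSh (hp : IsAdicHom p) (hR : AdicRing.IsBase R I) {U : (𝔛.X 0).Opens}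
    (hUc : IsCompact (U : Set (𝔛.X 0))) (hU : (𝔛.restrictOpen h U).IsFormal)
    {JU : FBlow.IdealSh ((𝔛.restrictOpen h U).Osh hU)}
    (hJU : FBlow.IsCohOpen (𝔛.restrictOpen h U) hU JU) :
    ∃ N, OpenFTOn h p (preSh (𝔛.restrictOpenι h U) hU h JU) U N := by
  let ι := 𝔛.restrictOpenι h U
  have hι : OpenImm ι := openImm_restrictOpenι U
  refine exists_openFTOn hUc fun x hx => ?_
  obtain ⟨A, hA, hxA, -, hgen, hfg, n, hopen⟩ := exists_affine_genOn (p := ι ≫ p) (h := hU)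
    (isAdicHom_comp (isAdicHom_restrictOpenι U) hp) hR hJU
    (⟨x, (lvU_zero (h := h) U).ge hx⟩ : (𝔛.lvU h 0 U).toScheme) (O := ⊤) trivial
  obtain ⟨s, hs⟩ := hfg
  have hbij := hι.sharpLE_bijective (hY := hU) (h := h) A
  have hfin := (s.finite_toSet).image (Function.surjInv hbij.2)
  refine ⟨hι.img A, ?_, ⟨_, hxA, rfl⟩, ?_, _, hfin, hι.genOn_preSh ?_, n, fun t ht => ?_⟩
  · have := hι 0
    exact hA.image_of_isOpenImmersion ((ι : Hom _ 𝔛).app 0)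
  · refine hι.img_le (le_of_le_of_eq le_top ?_)
    exact (restrictOpenι_preimage (h := h) U).symm
  · rw [Set.image_image]
    simp only [Function.surjInv_eq hbij.2, Set.image_id']
    exact hgen.congr_span ((Ideal.span_eq _).trans hs.symm)
  · refine hι.mem_preSh_img.2 ?_
    rw [← CommRingCat.comp_apply, baseSec_sharpLE]
    exact hopen (Ideal.mem_map_of_mem _ ht)

/-- Every section lies in an ideal sheaf over the empty open. -/
theorem sect_eq_top_of_eq_bot (K : FBlow.IdealSh (𝔛.Osh h)) {T : (𝔛.X 0).Opens} (hT : T = ⊥) :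
    K.sect T = ⊤ := by
  refine eq_top_iff.2 fun s _ => K.mem_of_local fun x hx => ?_
  subst hT
  exact absurd hx (by simp)

theorem preSh_sect_eq_top (f : 𝔜 ⟶ 𝔛) (K : FBlow.IdealSh (𝔜.Osh hY)) {T : (𝔛.X 0).Opens}
    (hT : (f : Hom 𝔜 𝔛).app 0 ⁻¹ᵁ T = ⊥) : (preSh f hY h K).sect T = ⊤ := by
  refine eq_top_iff.2 fun s _ => mem_preSh.2 ?_
  rw [sect_eq_top_of_eq_bot K hT]
  trivial

theorem openFTOn_of_eq_top {K : FBlow.IdealSh (𝔛.Osh h)} {U : (𝔛.X 0).Opens}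
    (hK : ∀ T : (𝔛.X 0).Opens, T ≤ U → K.sect T = ⊤) (N : ℕ) : OpenFTOn h p K U N := fun x hx => by
  obtain ⟨A, hxA, hA⟩ := MP99.exists_affine_le x (W := U) hx
  refine ⟨A.1, A.2, hxA, hA, {1}, Set.finite_singleton _, ⟨?_, fun V i s _ => ?_⟩, fun t _ => ?_⟩
  · rw [hK _ hA]
    exact fun _ _ => trivial
  · refine span_le_locSpan _ i ?_
    rw [Set.image_singleton, map_one, Ideal.span_singleton_one]
    trivial
  · rw [hK _ hA]
    trivial

/-- A coherent open ideal on a quasi-compact open extends, trivially away from the open. -/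
theorem exists_extension_eq_top (hp : IsAdicHom p) (hR : AdicRing.IsBase R I)
    (hft : LocallyOfFiniteType ((p : Hom 𝔛 (FSch.spf R I)).app 0)) {U : (𝔛.X 0).Opens}
    (hUc : IsCompact (U : Set (𝔛.X 0))) (hU : (𝔛.restrictOpen h U).IsFormal)
    {JU : FBlow.IdealSh ((𝔛.restrictOpen h U).Osh hU)}
    (hJU : FBlow.IsCohOpen (𝔛.restrictOpen h U) hU JU) :
    ∃ J : FBlow.IdealSh (𝔛.Osh h), FBlow.IsCohOpen 𝔛 h J ∧
      FBlow.idealMap (𝔛.restrictOpenι h U) hU h J = JU ∧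
      ∀ V : (𝔛.X 0).Opens, V ⊓ U = ⊥ → J.sect V = ⊤ := by
  let E : (𝔛.X 0).Opens := ⟨(closure (U : Set (𝔛.X 0)))ᶜ, isClosed_closure.isOpen_compl⟩
  have hpre : ∀ T : (𝔛.X 0).Opens, T ⊓ U = ⊥ →
      ((𝔛.restrictOpenι h U : Hom _ 𝔛)).app 0 ⁻¹ᵁ T = ⊥ := fun T hT =>
    eq_bot_iff.2 fun (z : (𝔛.lvU h 0 U).toScheme) hz =>
      (show z.1 ∈ (⊥ : (𝔛.X 0).Opens) from
        hT ▸ (show z.1 ∈ T ⊓ U from ⟨hz, (lvU_zero (h := h) U).le z.2⟩)).elim
  have htop : ∀ T : (𝔛.X 0).Opens, T ⊓ U = ⊥ →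
      (preSh (𝔛.restrictOpenι h U) hU h JU).sect T = ⊤ := fun T hT =>
    preSh_sect_eq_top _ JU (hpre T hT)
  have hE : ∀ T : (𝔛.X 0).Opens, T ≤ E → T ⊓ U = ⊥ := fun T hT =>
    eq_bot_iff.2 fun z hz => (hT hz.1 (subset_closure hz.2)).elim
  have hEle : ∀ T : (𝔛.X 0).Opens, T ⊓ U = ⊥ → T ≤ E := fun T hT x hx hcl => by
    obtain ⟨z, hzT, hzU⟩ := mem_closure_iff.1 hcl (T : Set (𝔛.X 0)) T.isOpen hx
    exact (show z ∈ (⊥ : (𝔛.X 0).Opens) from hT ▸ (show z ∈ T ⊓ U from ⟨hzT, hzU⟩)).elim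
  obtain ⟨N, hN⟩ := exists_openFTOn_preSh hp hR hUc hU hJU
  obtain ⟨J, hJ, hJK⟩ := exists_isCohOpen_extension hp hR hft
    (hN.sup (openFTOn_of_eq_top (fun T hT => htop T (hE T hT)) N))
  have hι : OpenImm (𝔛.restrictOpenι h U) := openImm_restrictOpenι U
  refine ⟨J, hJ, ?_, fun V hV => (hJK V ((hEle V hV).trans le_sup_right)).trans (htop V hV)⟩
  rw [hι.idealMap_congr (hY := hU) (K := preSh (𝔛.restrictOpenι h U) hU h JU) fun T hT => hJK T ?_,
    hι.idealMap_preSh]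
  refine (hT.trans (hι.img_le ?_)).trans le_sup_left
  exact (restrictOpenι_preimage (h := h) U).ge

end Groth.Agent.FBlow13
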