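import Groth.Prelude.Def_FBlow
import Mathlib.RingTheory.Ideal.Span
import Mathlib.Topology.Sheaves.SheafCondition.UniqueGluing
import Mathlib.AlgebraicGeometry.AffineScheme

/-!
Ideal sheaves generated over an open by a set of sections over it, and invertibility in terms of
the generators.
-/

set_option autoImplicit false

universe u

open CategoryTheory CategoryTheory.Limits AlgebraicGeometry TopologicalSpace Opposite

namespace Groth.Agent.FBlow13

open FBlow FBlow.IdealSh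

variable {T : TopCat.{u}} {O : Sheaf (Opens.grothendieckTopology T) CommRingCat.{u}}

/-- Restriction of sections of a sheaf of rings. -/
noncomputable abbrev rs (O : Sheaf (Opens.grothendieckTopology T) CommRingCat.{u}) {U V : Opens T}
    (i : V ≤ U) : O.obj.obj (op U) ⟶ O.obj.obj (op V) :=
  O.obj.map (homOfLE i).op

/-- Transport of membership in a span along a ring map. -/
theorem span_image_transport {A B : Type u} [CommRing A] [CommRing B] (ψ : A →+* B) {α : Type u}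
    {S : Set α} {f : α → A} {k : α → B} {x : A} {y : B} (hx : x ∈ Ideal.span (f '' S)) (e : ψ x = y)
    (eS : ∀ a ∈ S, ψ (f a) = k a) : y ∈ Ideal.span (k '' S) := by
  subst e
  have := Ideal.mem_map_of_mem ψ hx
  rw [Ideal.map_span, Set.image_image, Set.image_congr eS] at this
  exact this

/-- The sections over `V` which are locally combinations of restrictions of members of `S`. -/
noncomputable def locSpan {U : Opens T} (S : Set (O.obj.obj (op U))) {V : Opens T} (i : V ≤ U) :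
    Ideal (O.obj.obj (op V)) where
  carrier := {s | ∀ x ∈ V, ∃ (W : Opens T) (j : W ≤ V), x ∈ W ∧
    rs O j s ∈ Ideal.span (rs O (j.trans i) '' S)}
  add_mem' {s t} hs ht x hx := by
    obtain ⟨W₁, j₁, hx₁, h₁⟩ := hs x hx
    obtain ⟨W₂, j₂, hx₂, h₂⟩ := ht x hx
    refine ⟨W₁ ⊓ W₂, inf_le_left.trans j₁, ⟨hx₁, hx₂⟩, ?_⟩
    have key : ∀ {W : Opens T} (j : W ≤ V) (k : W₁ ⊓ W₂ ≤ W) (r : O.obj.obj (op V)),
        rs O j r ∈ Ideal.span (rs O (j.trans i) '' S) →
          rs O (k.trans j) r ∈ Ideal.span (rs O ((k.trans j).trans i) '' S) := by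
      intro W j k r hr
      have := Ideal.mem_map_of_mem (rs O k).hom hr
      rw [Ideal.map_span, Set.image_image] at this
      simp only [rs, IdealSh.map_comp_apply] at this
      exact this
    rw [map_add]
    exact add_mem (key j₁ inf_le_left s h₁) (key j₂ inf_le_right t h₂)
  zero_mem' x hx := ⟨V, le_rfl, hx, by rw [map_zero]; exact zero_mem _⟩
  smul_mem' c {s} hs x hx := by
    obtain ⟨W, j, hxW, h⟩ := hs x hx
    refine ⟨W, j, hxW, ?_⟩
    rw [smul_eq_mul, map_mul]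
    exact Ideal.mul_mem_left _ _ h

theorem mem_locSpan {U : Opens T} {S : Set (O.obj.obj (op U))} {V : Opens T} {i : V ≤ U}
    {s : O.obj.obj (op V)} : s ∈ locSpan S i ↔
      ∀ x ∈ V, ∃ (W : Opens T) (j : W ≤ V), x ∈ W ∧ rs O j s ∈ Ideal.span (rs O (j.trans i) '' S) :=
  Iff.rfl

theorem span_le_locSpan {U : Opens T} (S : Set (O.obj.obj (op U))) {V : Opens T} (i : V ≤ U) :
    Ideal.span (rs O i '' S) ≤ locSpan S i := by
  refine Ideal.span_le.2 ?_
  rintro _ ⟨a, ha, rfl⟩ x hx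
  refine ⟨V, le_rfl, hx, ?_⟩
  rw [rs, IdealSh.map_id_apply]
  exact Ideal.subset_span ⟨a, ha, rfl⟩

/-- `J` is generated over `U` by `S`. -/
def GenOn (J : IdealSh O) (U : Opens T) (S : Set (O.obj.obj (op U))) : Prop :=
  S ⊆ J.sect U ∧ ∀ (V : Opens T) (i : V ≤ U), J.sect V ≤ locSpan S i

theorem GenOn.span_le {J : IdealSh O} {U : Opens T} {S : Set (O.obj.obj (op U))} (hJ : GenOn J U S)
    {V : Opens T} (i : V ≤ U) : Ideal.span (rs O i '' S) ≤ J.sect V := by
  refine Ideal.span_le.2 ?_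
  rintro _ ⟨a, ha, rfl⟩
  exact J.map_mem i (hJ.1 ha)

theorem GenOn.sect_eq {J : IdealSh O} {U : Opens T} {S : Set (O.obj.obj (op U))} (hJ : GenOn J U S)
    {V : Opens T} (i : V ≤ U) : J.sect V = locSpan S i :=
  le_antisymm (hJ.2 V i) fun _s hs => J.mem_of_local fun x hx => by
    obtain ⟨W, j, hxW, h⟩ := hs x hx
    exact ⟨W, j, hxW, hJ.span_le (j.trans i) h⟩

theorem GenOn.restrict {J : IdealSh O} {U U' : Opens T} {S : Set (O.obj.obj (op U))}
    (hJ : GenOn J U S) (i : U' ≤ U) : GenOn J U' (rs O i '' S) := by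
  refine ⟨?_, fun V j s hs x hx => ?_⟩
  · rintro _ ⟨a, ha, rfl⟩
    exact J.map_mem i (hJ.1 ha)
  · obtain ⟨W, k, hxW, h⟩ := hJ.2 V (j.trans i) hs x hx
    refine ⟨W, k, hxW, ?_⟩
    rw [Set.image_image]
    simp only [rs, IdealSh.map_comp_apply]
    exact h

theorem GenOn.eq_of_top {J K : IdealSh O} {S : Set (O.obj.obj (op ⊤))} (hJ : GenOn J ⊤ S)
    (hK : GenOn K ⊤ S) : J = K :=
  IdealSh.ext (funext fun V => (hJ.sect_eq (V := V) le_top).trans (hK.sect_eq (V := V) le_top).symm)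

theorem GenOn.congr_span {J : IdealSh O} {U : Opens T} {S S' : Set (O.obj.obj (op U))}
    (hJ : GenOn J U S) (e : Ideal.span S = Ideal.span S') : GenOn J U S' := by
  refine ⟨fun a ha => ?_, fun V i s hs x hx => ?_⟩
  · have h1 := hJ.span_le (le_refl U)
    rw [← Ideal.map_span, e, Ideal.map_span] at h1
    exact IdealSh.map_id_apply (O := O) le_rfl a ▸ h1 (Ideal.subset_span ⟨a, ha, rfl⟩)
  · obtain ⟨W, k, hxW, h⟩ := hJ.2 V i hs x hx
    refine ⟨W, k, hxW, ?_⟩
    rw [← Ideal.map_span, ← e, Ideal.map_span]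
    exact h

/-- Products of generated ideal sheaves. -/
theorem GenOn.mul {J K : IdealSh O} {U : Opens T} {S S' : Set (O.obj.obj (op U))}
    (hJ : GenOn J U S) (hK : GenOn K U S') :
    GenOn (IdealSh.mul J K) U {t | ∃ a ∈ S, ∃ b ∈ S', t = a * b} := by
  refine ⟨?_, fun V i s hs x hx => ?_⟩
  · rintro _ ⟨a, ha, b, hb, rfl⟩
    exact IdealSh.subset_gen _ U ⟨a, hJ.1 ha, b, hK.1 hb, rfl⟩
  · obtain ⟨W, j, hxW, hW⟩ := hs x hx
    have : Ideal.span (IdealSh.seed (fun W => {t | ∃ a ∈ J.sect W, ∃ b ∈ K.sect W, t = a * b}) W) ≤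
        locSpan {t | ∃ a ∈ S, ∃ b ∈ S', t = a * b} (j.trans i) := by
      refine Ideal.span_le.2 ?_
      rintro _ ⟨W', k, _, ⟨a, ha, b, hb, rfl⟩, rfl⟩ y hy
      obtain ⟨W₁, j₁, hy₁, h₁⟩ := hJ.2 W (j.trans i) (J.map_mem k ha) y hy
      obtain ⟨W₂, j₂, hy₂, h₂⟩ := hK.2 W (j.trans i) (K.map_mem k hb) y hy
      refine ⟨W₁ ⊓ W₂, inf_le_left.trans j₁, ⟨hy₁, hy₂⟩, ?_⟩
      have key : ∀ {W'' : Opens T} (j' : W'' ≤ W) (l : W₁ ⊓ W₂ ≤ W'') (r : O.obj.obj (op W))
          (R : Set (O.obj.obj (op U))),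
          rs O j' r ∈ Ideal.span (rs O (j'.trans (j.trans i)) '' R) →
            rs O (l.trans j') r ∈ Ideal.span (rs O ((l.trans j').trans (j.trans i)) '' R) := by
        intro W'' j' l r R hr
        have := Ideal.mem_map_of_mem (rs O l).hom hr
        rw [Ideal.map_span, Set.image_image] at this
        simp only [rs, IdealSh.map_comp_apply] at this
        exact this
      rw [map_mul, map_mul]
      refine Ideal.span_mono ?_ (Ideal.span_mul_span' (R := O.obj.obj (op (W₁ ⊓ W₂))) _ _ ▸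
        Ideal.mul_mem_mul (key j₁ inf_le_left _ S h₁) (key j₂ inf_le_right _ S' h₂))
      rintro _ ⟨_, ⟨a', ha', rfl⟩, _, ⟨b', hb', rfl⟩, rfl⟩
      exact ⟨a' * b', ⟨a', ha', b', hb', rfl⟩, map_mul _ _ _⟩
    obtain ⟨W', k, hxW', h⟩ := this hW x hxW
    refine ⟨W', k.trans j, hxW', ?_⟩
    rw [rs, IdealSh.map_comp_apply] at h
    exact h

section Map

variable {T' : TopCat.{u}} {O' : Sheaf (Opens.grothendieckTopology T') CommRingCat.{u}} (g : T' ⟶ T)
    (φ : O ⟶ (TopCat.Sheaf.pushforward CommRingCat.{u} g).obj O')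

/-- The component of a map of sheaves of rings into a direct image. -/
noncomputable abbrev appMap (U : Opens T) :
    O.obj.obj (op U) ⟶ O'.obj.obj (op ((Opens.map g).obj U)) :=
  φ.hom.app (op U)

theorem appMap_rs {U V : Opens T} (i : V ≤ U) (a : O.obj.obj (op U)) :
    appMap g φ V (rs O i a) = rs O' (fun _ hx => i hx) (appMap g φ U a) :=
  congrArg (fun ψ => ψ a) (φ.hom.naturality (homOfLE i).op)

/-- Inverse images of generated ideal sheaves are generated by the images. -/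
theorem GenOn.map {J : IdealSh O} {U : Opens T} {S : Set (O.obj.obj (op U))} (hJ : GenOn J U S) :
    GenOn (IdealSh.map g φ J) ((Opens.map g).obj U) (appMap g φ U '' S) := by
  refine ⟨?_, fun V i s hs x hx => ?_⟩
  · rintro _ ⟨a, ha, rfl⟩
    have := IdealSh.image_mem_map g φ J (hJ.1 ha) (V := (Opens.map g).obj U) le_rfl
    exact IdealSh.map_id_apply (O := O') le_rfl (appMap g φ U a) ▸ this
  · obtain ⟨V', j, hxV, hV⟩ := hs x hx
    have : Ideal.span (IdealSh.seed (fun V => {t | ∃ (W : Opens T) (j : V ≤ (Opens.map g).obj W)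
        (a : O.obj.obj (op W)), a ∈ J.sect W ∧
          t = O'.obj.map (homOfLE j).op (φ.hom.app (op W) a)}) V') ≤
        locSpan (appMap g φ U '' S) (j.trans i) := by
      refine Ideal.span_le.2 ?_
      rintro _ ⟨W₁, k, _, ⟨W, l, a, ha, rfl⟩, rfl⟩ y hy
      have hyU : g y ∈ U := (j.trans i) hy
      have hyW : g y ∈ W := (k.trans l) hy
      obtain ⟨N, m, hyN, hN⟩ := hJ.2 (U ⊓ W) inf_le_left
        (J.map_mem (inf_le_right : U ⊓ W ≤ W) ha) (g y) ⟨hyU, hyW⟩
      refine ⟨V' ⊓ (Opens.map g).obj N, inf_le_left, ⟨hy, hyN⟩, ?_⟩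
      have hle : V' ⊓ (Opens.map g).obj N ≤ (Opens.map g).obj N := inf_le_right
      rw [Set.image_image]
      refine span_image_transport ((rs O' hle).hom.comp (appMap g φ N).hom) hN ?_ fun a _ => ?_
      · change rs O' hle (appMap g φ N (rs O m (rs O _ a))) = rs O' _ (rs O' k (rs O' l (appMap g φ W a)))
        simp only [appMap_rs g φ, rs]
        erw [IdealSh.map_comp_apply, IdealSh.map_comp_apply, IdealSh.map_comp_apply,
          IdealSh.map_comp_apply]
      · change rs O' hle (appMap g φ N (rs O _ a)) = rs O' _ (appMap g φ U a)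
        simp only [appMap_rs g φ, rs]
        erw [IdealSh.map_comp_apply]
    obtain ⟨W', k, hxW', h⟩ := this hV x hxV
    refine ⟨W', k.trans j, hxW', ?_⟩
    rw [rs, IdealSh.map_comp_apply] at h
    exact h

end Map

/-! ### Invertibility -/

/-- `J` is invertible near `x`. -/
def InvAt (J : IdealSh O) (x : T) : Prop :=
  ∃ (U : Opens T), x ∈ U ∧ ∃ g ∈ J.sect U, ∀ (V : Opens T) (i : V ≤ U),
    (∀ t : O.obj.obj (op V), t * rs O i g = 0 → t = 0) ∧
    (∀ s ∈ J.sect V, ∃ t : O.obj.obj (op V), s = t * rs O i g)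

/-- The set `S` generates an invertible ideal near every point of its open. -/
def InvOn (U : Opens T) (S : Set (O.obj.obj (op U))) : Prop :=
  ∀ x ∈ U, ∃ (W : Opens T) (i : W ≤ U), x ∈ W ∧ ∃ g ∈ Ideal.span (rs O i '' S),
    (∀ a ∈ S, g ∣ rs O i a) ∧
      ∀ (V : Opens T) (j : V ≤ W) (t : O.obj.obj (op V)), t * rs O j g = 0 → t = 0

theorem GenOn.invOn_of_invAt {J : IdealSh O} {U : Opens T} {S : Set (O.obj.obj (op U))}
    (hJ : GenOn J U S) (hI : ∀ x ∈ U, InvAt J x) : InvOn U S := by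
  intro x hx
  obtain ⟨U₀, hxU₀, g, hg, hU₀⟩ := hI x hx
  obtain ⟨W, j, hxW, hW⟩ := hJ.2 (U₀ ⊓ U) inf_le_right (J.map_mem inf_le_left hg) x ⟨hxU₀, hx⟩
  refine ⟨W, j.trans inf_le_right, hxW, rs O (j.trans inf_le_left) g, ?_, fun a ha => ?_,
    fun V k t ht => ?_⟩
  · rw [rs, IdealSh.map_comp_apply] at hW
    exact hW
  · obtain ⟨t, ht⟩ := (hU₀ W (j.trans inf_le_left)).2 _
      (hJ.span_le (j.trans inf_le_right) (Ideal.subset_span ⟨a, ha, rfl⟩))
    exact ⟨t, ht.trans (mul_comm _ _)⟩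
  · rw [rs, IdealSh.map_comp_apply] at ht
    exact (hU₀ V (k.trans (j.trans inf_le_left))).1 t ht

/-- Sections which are locally multiples of a non-zero-divisor are multiples of it. -/
theorem exists_eq_mul_of_locally {W : Opens T} {g : O.obj.obj (op W)}
    (hg : ∀ (V : Opens T) (j : V ≤ W) (t : O.obj.obj (op V)), t * rs O j g = 0 → t = 0)
    {V : Opens T} (i : V ≤ W) {s : O.obj.obj (op V)}
    (hs : ∀ x ∈ V, ∃ (V' : Opens T) (j : V' ≤ V), x ∈ V' ∧
      ∃ t : O.obj.obj (op V'), rs O j s = t * rs O (j.trans i) g) :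
    ∃ t : O.obj.obj (op V), s = t * rs O i g := by
  choose N j hxN c hc using hs
  have hcov : V ≤ iSup fun x : V => N x.1 x.2 :=
    fun x hx => Opens.mem_iSup.mpr ⟨⟨x, hx⟩, hxN x hx⟩
  obtain ⟨t, ht, -⟩ := TopCat.Sheaf.existsUnique_gluing' O (fun x : V => N x.1 x.2) V
    (fun x => homOfLE (j x.1 x.2)) hcov (fun x => c x.1 x.2) (by
      intro x y
      have hle : N x.1 x.2 ⊓ N y.1 y.2 ≤ W := inf_le_left.trans ((j x.1 x.2).trans i)
      refine sub_eq_zero.1 (hg _ hle _ ?_)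
      have h1 := congrArg (rs O (inf_le_left : N x.1 x.2 ⊓ N y.1 y.2 ≤ _)) (hc x.1 x.2)
      have h2 := congrArg (rs O (inf_le_right : N x.1 x.2 ⊓ N y.1 y.2 ≤ _)) (hc y.1 y.2)
      simp only [map_mul, rs, IdealSh.map_comp_apply] at h1 h2
      rw [sub_mul, sub_eq_zero]
      exact h1.symm.trans h2)
  refine ⟨t, TopCat.Sheaf.eq_of_locally_eq' O (fun x : V => N x.1 x.2) V
    (fun x => homOfLE (j x.1 x.2)) hcov s _ fun x => ?_⟩
  refine (hc x.1 x.2).trans ?_
  rw [map_mul, ← ht x]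
  simp only [rs, IdealSh.map_comp_apply]

theorem GenOn.invAt_of_invOn {J : IdealSh O} {U : Opens T} {S : Set (O.obj.obj (op U))}
    (hJ : GenOn J U S) (hI : InvOn U S) {x : T} (hx : x ∈ U) : InvAt J x := by
  obtain ⟨W, i, hxW, g, hg, hdvd, hnzd⟩ := hI x hx
  refine ⟨W, hxW, g, hJ.span_le i hg, fun V j => ⟨hnzd V j, fun s hs => ?_⟩⟩
  refine exists_eq_mul_of_locally hnzd j fun y hy => ?_
  obtain ⟨V', k, hyV', h⟩ := hJ.2 V (j.trans i) hs y hy
  refine ⟨V', k, hyV', ?_⟩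
  have : Ideal.span (rs O (k.trans (j.trans i)) '' S) ≤ Ideal.span {rs O (k.trans j) g} := by
    refine Ideal.span_le.2 ?_
    rintro _ ⟨a, ha, rfl⟩
    obtain ⟨c, hc⟩ := hdvd a ha
    refine Ideal.mem_span_singleton'.2 ⟨rs O (k.trans j) c, ?_⟩
    rw [← map_mul, mul_comm c, ← hc]
    exact IdealSh.map_comp_apply i (k.trans j) a
  obtain ⟨t, ht⟩ := Ideal.mem_span_singleton'.1 (this h)
  exact ⟨t, ht.symm⟩

theorem isInvertible_iff_invOn {J : IdealSh O} {S : Set (O.obj.obj (op ⊤))} (hJ : GenOn J ⊤ S) :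
    J.IsInvertible ↔ InvOn ⊤ S :=
  ⟨fun h => hJ.invOn_of_invAt fun x _ => h x, fun h x => hJ.invAt_of_invOn h trivial⟩

theorem InvOn.restrict {U U' : Opens T} {S : Set (O.obj.obj (op U))} (hI : InvOn U S) (i : U' ≤ U) :
    InvOn U' (rs O i '' S) := by
  intro x hx
  obtain ⟨W, k, hxW, g, hg, hdvd, hnzd⟩ := hI x (i hx)
  refine ⟨W ⊓ U', inf_le_right, ⟨hxW, hx⟩, rs O inf_le_left g, ?_, ?_, fun V j t ht => ?_⟩
  · have := Ideal.mem_map_of_mem (rs O (inf_le_left : W ⊓ U' ≤ W)).hom hg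
    rw [Ideal.map_span, Set.image_image] at this
    rw [Set.image_image]
    simp only [rs, IdealSh.map_comp_apply] at this ⊢
    exact this
  · rintro _ ⟨a, ha, rfl⟩
    obtain ⟨c, hc⟩ := hdvd a ha
    refine ⟨rs O inf_le_left c, ?_⟩
    rw [← map_mul, ← hc]
    simp only [rs, IdealSh.map_comp_apply]
  · rw [rs, IdealSh.map_comp_apply] at ht
    exact hnzd V (j.trans inf_le_left) t ht

/-! ### The ideal sheaf of quasi-coherent ideal data -/

/-- On an affine open, the ideal sheaf of ideal data is generated by the ideal. -/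
theorem genOn_ofData {X : Scheme.{u}} (𝓘 : X.IdealSheafData) (U : X.affineOpens) :
    GenOn (IdealSh.ofData 𝓘) U.1 (𝓘.ideal U : Set Γ(X, U.1)) := by
  refine ⟨fun a ha x hx => ⟨U, le_rfl, hx, res_mem_ofData 𝓘 le_rfl ha⟩, fun V i s hs x hx => ?_⟩
  obtain ⟨W, j, hxW, hW⟩ := hs x hx
  refine ⟨W.1, j, hxW, ?_⟩
  have e := 𝓘.map_ideal (U := W) (V := U) (j.trans i)
  change X.presheaf.map (homOfLE j).op s ∈
    Ideal.span ((X.presheaf.map (homOfLE (j.trans i)).op).hom '' (𝓘.ideal U : Set Γ(X, U.1)))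
  change X.presheaf.map (homOfLE j).op s ∈
    Ideal.map (X.presheaf.map (homOfLE (j.trans i)).op).hom (𝓘.ideal U)
  exact e.ge hW

end Groth.Agent.FBlow13
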