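import Groth.Agent.FBlow13.Patch
import Mathlib.AlgebraicGeometry.RelativeGluing

/-!
Existence of admissible formal blow-ups from existence over the members of an open cover.
-/

set_option autoImplicit false

universe u

open CategoryTheory CategoryTheory.Limits AlgebraicGeometry TopologicalSpace Opposite

namespace Groth.Agent.FBlow13

open _root_.FSch

theorem isPullback_cancel_mono {P A B C D : Scheme.{u}} {fst : P ⟶ A} {snd : P ⟶ B} {f : A ⟶ C}
    {g : B ⟶ C} (i : C ⟶ D) [Mono i] (hsq : IsPullback fst snd (f ≫ i) (g ≫ i)) :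
    IsPullback fst snd f g := by
  have w : fst ≫ f = snd ≫ g := (cancel_mono i).1 (by simpa using hsq.w)
  refine IsPullback.of_isLimit' ⟨w⟩ (PullbackCone.IsLimit.mk w
    (fun s => hsq.lift s.fst s.snd (by rw [reassoc_of% s.condition]))
    (fun s => hsq.lift_fst _ _ _) (fun s => hsq.lift_snd _ _ _)
    (fun s m hm₁ hm₂ => hsq.hom_ext (by simpa using hm₁) (by simpa using hm₂)))

variable {𝔛 : Sys.{u}} (h : 𝔛.IsFormal) (J : FBlow.IdealSh (𝔛.Osh h))

/-- Opens over which there is a blow-up. -/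
abbrev GoodU : Type u :=
  {U : (𝔛.X 0).Opens // ∃ (𝔓 : Sys.{u}) (hP : 𝔓.IsFormal) (b : 𝔓 ⟶ 𝔛), IsBlowUpOver h U J hP b}

theorem goodU_of_le {U V : (𝔛.X 0).Opens} (i : V ≤ U)
    (hU : ∃ (𝔓 : Sys.{u}) (hP : 𝔓.IsFormal) (b : 𝔓 ⟶ 𝔛), IsBlowUpOver h U J hP b) :
    ∃ (𝔓 : Sys.{u}) (hP : 𝔓.IsFormal) (b : 𝔓 ⟶ 𝔛), IsBlowUpOver h V J hP b := by
  obtain ⟨𝔓, hP, b, hb⟩ := hU
  exact ⟨_, _, _, hb.restrict i⟩

variable {h J}

/-- The chosen blow-up over a good open. -/
noncomputable def bObj (U : GoodU h J) : Sys.{u} := U.2.choose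

theorem bObj_isFormal (U : GoodU h J) : (bObj U).IsFormal := U.2.choose_spec.choose

/-- Its structure morphism. -/
noncomputable def bMap (U : GoodU h J) : bObj U ⟶ 𝔛 := U.2.choose_spec.choose_spec.choose

theorem bMap_spec (U : GoodU h J) : IsBlowUpOver h U.1 J (bObj_isFormal U) (bMap U) :=
  U.2.choose_spec.choose_spec.choose_spec

/-- The chosen blow-up as a system over the open sub-system. -/
noncomputable def bLift (U : GoodU h J) : bObj U ⟶ 𝔛.restrictOpen h U.1 :=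
  (existsUnique_liftOpen (h := h) (bMap U) (bObj_isFormal U) (bMap_spec U).2.1).exists.choose

theorem bLift_spec (U : GoodU h J) : bLift U ≫ 𝔛.restrictOpenι h U.1 = bMap U :=
  (existsUnique_liftOpen (h := h) (bMap U) (bObj_isFormal U) (bMap_spec U).2.1).exists.choose_spec

theorem isAdicHom_bLift (U : GoodU h J) : IsAdicHom (bLift U) :=
  isAdicHom_of_comp ((bLift_spec U).symm ▸ (bMap_spec U).1) (isAdicHom_restrictOpenι U.1)

theorem trans_aux {U V : GoodU h J} (i : U.1 ≤ V.1) :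
    ∃! m : bObj U ⟶ bObj V, m ≫ bMap V = bMap U :=
  (bMap_spec V).2.2.2 _ (bObj_isFormal U) (bMap U) (bMap_spec U).1
    (top_unique ((bMap_spec U).2.1.ge.trans (Scheme.Hom.preimage_mono _ i))) (bMap_spec U).2.2.1

/-- The transition morphisms. -/
noncomputable def bTrans {U V : GoodU h J} (i : U.1 ≤ V.1) : bObj U ⟶ bObj V :=
  (trans_aux i).exists.choose

theorem bTrans_spec {U V : GoodU h J} (i : U.1 ≤ V.1) : bTrans i ≫ bMap V = bMap U :=
  (trans_aux i).exists.choose_spec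

theorem bTrans_self (U : GoodU h J) : bTrans (le_refl U.1) = 𝟙 (bObj U) :=
  (trans_aux (le_refl U.1)).unique (bTrans_spec _) (Category.id_comp _)

theorem bTrans_comp {U V W : GoodU h J} (i : U.1 ≤ V.1) (j : V.1 ≤ W.1) :
    bTrans i ≫ bTrans j = bTrans (i.trans j) :=
  (trans_aux (i.trans j)).unique (by rw [Category.assoc, bTrans_spec, bTrans_spec]) (bTrans_spec _)

set_option backward.isDefEq.respectTransparency false in
theorem bTrans_lift_app {U V : GoodU h J} (i : U.1 ≤ V.1) (n : ℕ) :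
    (bTrans i : Hom _ _).app n ≫ (bLift V : Hom (bObj V) (𝔛.restrictOpen h V.1)).app n =
      (bLift U : Hom (bObj U) (𝔛.restrictOpen h U.1)).app n ≫
        (𝔛.X n).homOfLE (FBlow.lvU_mono 𝔛 h n i) := by
  refine (cancel_mono (𝔛.lvU h n V.1).ι).1 ?_
  refine (Category.assoc _ _ _).trans (Eq.trans ?_ (Category.assoc _ _ _).symm)
  rw [Scheme.homOfLE_ι]
  exact ((congrArg (_ ≫ ·) (congrArg (fun t : Hom _ 𝔛 => t.app n) (bLift_spec V))).trans
    (congrArg (fun t : Hom _ 𝔛 => t.app n) (bTrans_spec i))).trans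
      (congrArg (fun t : Hom _ 𝔛 => t.app n) (bLift_spec U)).symm

set_option backward.isDefEq.respectTransparency false in
theorem isPullback_bTrans {U V : GoodU h J} (i : U.1 ≤ V.1) (n : ℕ) :
    IsPullback ((bLift U : Hom (bObj U) (𝔛.restrictOpen h U.1)).app n) ((bTrans i : Hom _ _).app n)
      ((𝔛.X n).homOfLE (FBlow.lvU_mono 𝔛 h n i))
      ((bLift V : Hom (bObj V) (𝔛.restrictOpen h V.1)).app n) := by
  obtain ⟨e, he⟩ := (bMap_spec U).exists_iso ((bMap_spec V).restrict i)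
  have hm : e.hom ≫ (bObj V).restrictOpenι (bObj_isFormal V) _ = bTrans i :=
    (trans_aux i).unique ((Category.assoc _ _ _).trans he) (bTrans_spec i)
  have h1 := isPullback_resLE ((bMap V : Hom (bObj V) 𝔛).app n)
    (Hom.lvU_preimage (bMap V) (bObj_isFormal V) h n U.1).symm
    (Hom.lvU_preimage (bMap V) (bObj_isFormal V) h n U.1).ge
  have he1 : IsIso ((e.hom : Hom _ _).app n) :=
    ⟨(e.inv : Hom _ _).app n, congrArg (fun t : Hom _ (bObj U) => t.app n) e.hom_inv_id,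
      congrArg (fun t : Hom _ ((bObj V).restrictOpen (bObj_isFormal V) _) => t.app n) e.inv_hom_id⟩
  have hbV : (bMap V : Hom (bObj V) 𝔛).app n =
      (bLift V : Hom (bObj V) (𝔛.restrictOpen h V.1)).app n ≫ (𝔛.lvU h n V.1).ι :=
    (congrArg (fun t : Hom _ 𝔛 => t.app n) (bLift_spec V)).symm
  refine isPullback_cancel_mono (𝔛.lvU h n V.1).ι ?_
  rw [Scheme.homOfLE_ι, ← hbV]
  have c1 := congrArg (fun t : Hom _ (bObj V) => t.app n) hm
  have c2 := congrArg (fun t : Hom _ 𝔛 => t.app n) he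
  have c3 := congrArg (fun t : Hom _ 𝔛 => t.app n) (bLift_spec U)
  refine h1.of_iso (asIso ((e.hom : Hom _ _).app n)).symm (Iso.refl _) (Iso.refl _) (Iso.refl _)
    ?_ ?_ (by simp) (by simp)
  · rw [Iso.refl_hom, Category.comp_id, Iso.symm_hom, asIso_inv, IsIso.eq_inv_comp]
    refine (cancel_mono (𝔛.lvU h n U.1).ι).1 ((Category.assoc _ _ _).trans ?_)
    rw [Scheme.Hom.resLE_comp_ι]
    exact c2.trans c3.symm
  · rw [Iso.refl_hom, Category.comp_id, Iso.symm_hom, asIso_inv, IsIso.eq_inv_comp]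
    exact c1

variable (hloc : ∀ x : 𝔛.X 0, ∃ U : GoodU h J, x ∈ U.1) (n : ℕ)

include hloc in
theorem isOpenCover_goodU : IsOpenCover (fun U : GoodU h J => 𝔛.lvU h n U.1) :=
  top_unique fun z _ => (hloc (𝔛.gInv h n z)).elim fun U hU => Opens.mem_iSup.mpr ⟨U, hU⟩

/-- The cover of a level by good opens. -/
noncomputable abbrev lvCover : (𝔛.X n).OpenCover :=
  Scheme.openCoverOfIsOpenCover (𝔛.X n) (fun U : GoodU h J => 𝔛.lvU h n U.1)
    (isOpenCover_goodU hloc n)

instance : Preorder (lvCover hloc n).I₀ := inferInstanceAs (Preorder (GoodU h J))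

theorem lvCover_le_iff {i j : (lvCover hloc n).I₀} :
    i ≤ j ↔ ((lvCover hloc n).f i).opensRange ≤ ((lvCover hloc n).f j).opensRange := by
  show i.1 ≤ j.1 ↔ (Scheme.Opens.ι (𝔛.lvU h n i.1)).opensRange ≤
    (Scheme.Opens.ι (𝔛.lvU h n j.1)).opensRange
  rw [Scheme.Opens.opensRange_ι, Scheme.Opens.opensRange_ι]
  refine ⟨fun hle => FBlow.lvU_mono 𝔛 h n hle, fun hle => ?_⟩
  exact (toX_preimage_lvU (h := h) n i.1).ge.trans
    ((Scheme.Hom.preimage_mono _ hle).trans (toX_preimage_lvU (h := h) n j.1).le)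

theorem lvCover_isBasis :
    Opens.IsBasis (Set.range fun U : (lvCover hloc n).I₀ => ((lvCover hloc n).f U).opensRange) := by
  rw [Opens.isBasis_iff_nbhd]
  intro W x hx
  obtain ⟨U, hU⟩ := hloc (𝔛.gInv h n x)
  have hgx : 𝔛.toX n (𝔛.gInv h n x) = x := congrArg (fun φ => φ x) (𝔛.gInv_toX_base h n)
  refine ⟨_, ⟨⟨U.1 ⊓ 𝔛.toX n ⁻¹ᵁ W, goodU_of_le h J inf_le_left U.2⟩, rfl⟩, ?_, ?_⟩
  · rw [SetLike.mem_coe.symm, Scheme.Hom.coe_opensRange]
    refine (Scheme.Opens.range_ι _).ge ⟨hU, ?_⟩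
    show 𝔛.toX n (𝔛.gInv h n x) ∈ W
    rwa [hgx]
  · rintro _ ⟨⟨z, hz⟩, rfl⟩
    have hz' : 𝔛.toX n (𝔛.gInv h n z) ∈ W := hz.2
    rwa [show 𝔛.toX n (𝔛.gInv h n z) = z from congrArg (fun φ => φ z) (𝔛.gInv_toX_base h n)] at hz'

set_option backward.isDefEq.respectTransparency false in
include hloc in
/-- The glued level. -/
theorem exists_glued_level : ∃ (P : Scheme.{u}) (b : P ⟶ 𝔛.X n)
    (k : ∀ U : GoodU h J, (bObj U).X n ⟶ P),
    (∀ U, IsPullback ((bLift U : Hom (bObj U) (𝔛.restrictOpen h U.1)).app n) (k U)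
      (𝔛.lvU h n U.1).ι b) ∧
    (∀ {U V : GoodU h J} (i : U.1 ≤ V.1), (bTrans i : Hom _ _).app n ≫ k V = k U) ∧
    (∀ {Q : Scheme.{u}} (f : ∀ U : GoodU h J, (bObj U).X n ⟶ Q),
      (∀ {U V : GoodU h J} (i : U.1 ≤ V.1), (bTrans i : Hom _ _).app n ≫ f V = f U) →
        ∃ t : P ⟶ Q, ∀ U, k U ≫ t = f U) ∧
    (∀ {Q : Scheme.{u}} (t t' : P ⟶ Q), (∀ U, k U ≫ t = k U ≫ t') → t = t') := by
  letI : (lvCover hloc n).LocallyDirected :=
    Scheme.Cover.LocallyDirected.ofIsBasisOpensRange (lvCover_le_iff hloc n) (lvCover_isBasis hloc n)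
  have htrans : ∀ {U V : (lvCover hloc n).I₀} (f : U ⟶ V),
      (lvCover hloc n).trans f = (𝔛.X n).homOfLE
        (FBlow.lvU_mono 𝔛 h n (show (U : GoodU h J).1 ≤ (V : GoodU h J).1 from f.le)) := fun {U V} f => by
    refine (cancel_mono (𝔛.lvU h n (V : GoodU h J).1).ι).mp ?_
    exact (Scheme.Cover.trans_map (lvCover hloc n) f).trans (Scheme.homOfLE_ι _ _).symm
  haveI : Quiver.IsThin (lvCover hloc n).I₀ := fun _ _ => ⟨fun a b => Subsingleton.elim (α := _ ⟶ _) a b⟩
  haveI : Small.{u} (lvCover hloc n).I₀ := small_self _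
  let F : GoodU h J ⥤ Scheme.{u} :=
    { obj := fun U => (bObj U).X n
      map := fun {U V} f => (bTrans (show U.1 ≤ V.1 from f.le) : Hom _ _).app n
      map_id := fun U => congrArg (fun t : Hom _ (bObj U) => t.app n) (bTrans_self U)
      map_comp := fun {U V W} f g => (congrArg (fun t : Hom _ (bObj W) => t.app n)
        (bTrans_comp (show U.1 ≤ V.1 from f.le) (show V.1 ≤ W.1 from g.le))).symm }
  let d : (lvCover hloc n).RelativeGluingData :=
    { functor := F
      natTrans :=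
        { app := fun U => (bLift (U : GoodU h J) : Hom (bObj U) (𝔛.restrictOpen h (U : GoodU h J).1)).app n
          naturality := fun U V f => (bTrans_lift_app f.le n).trans (congrArg (_ ≫ ·) (htrans f).symm) }
      equifibered := fun {U V} f => by
        have := (isPullback_bTrans (show (U : GoodU h J).1 ≤ (V : GoodU h J).1 from f.le) n).flip
        show IsPullback (F.map f) _ _ ((lvCover hloc n).functorOfLocallyDirected.map f)
        rw [show (lvCover hloc n).functorOfLocallyDirected.map f = _ from htrans f]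
        exact this }
  haveI : (d.functor ⋙ Scheme.forget).IsLocallyDirected :=
    Scheme.Cover.RelativeGluingData.instIsLocallyDirectedI₀CompFunctorForgetOfIsThin ..
  haveI : ∀ {i j} (f : i ⟶ j), IsOpenImmersion (d.functor.map f) := fun f =>
    Scheme.Cover.RelativeGluingData.instIsOpenImmersionMapI₀Functor ..
  refine ⟨d.glued, d.toBase, fun U => colimit.ι d.functor U,
    fun U => d.isPullback_natTrans_ι_toBase U, fun {U V} i => colimit.w d.functor (homOfLE (show (U : (lvCover hloc n).I₀) ≤ V from i)),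
    fun f hf => ⟨colimit.desc d.functor ⟨_, { app := f, naturality := fun U V g =>
      (hf (show (U : GoodU h J).1 ≤ (V : GoodU h J).1 from g.le)).trans (Category.comp_id _).symm }⟩,
      fun U => colimit.ι_desc _ U⟩, fun t t' e => colimit.hom_ext e⟩

set_option backward.isDefEq.respectTransparency false in
include hloc in
/-- Blow-ups over the members of an open cover give one on the whole system. -/
theorem exists_isAdmBlowUp_of_local :
    ∃ (𝔓 : Sys.{u}) (hP : 𝔓.IsFormal) (b : 𝔓 ⟶ 𝔛), FBlow.IsAdmBlowUp b hP h J := by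
  choose P b k hk hkc hdesc hext using exists_glued_level hloc
  choose ι hι using fun n => hdesc n (fun U => (bObj U).ι n ≫ k (n + 1) U) fun {U V} i => by
    rw [← Category.assoc, (bTrans i : Hom (bObj U) (bObj V)).comm, Category.assoc, hkc]
  let 𝔓 : Sys.{u} := ⟨P, ι⟩
  have hcomm : ∀ n, b n ≫ 𝔛.ι n = ι n ≫ b (n + 1) := fun n => hext n _ _ fun U => by
    rw [reassoc_of% hι n U, ← (hk n U).w_assoc, ← (hk (n + 1) U).w]
    have h1 := (bLift U : Hom (bObj U) (𝔛.restrictOpen h U.1)).comm n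
    have h2 := (Scheme.Hom.resLE_comp_ι (𝔛.ι n) (𝔛.lvU_le h n U.1))
    rw [← h2]
    exact (Category.assoc _ _ _).symm.trans ((congrArg (· ≫ (𝔛.lvU h (n + 1) U.1).ι) h1).trans
      (Category.assoc _ _ _))
  let bS : 𝔓 ⟶ 𝔛 := ⟨b, hcomm⟩
  let kS : ∀ U, bObj U ⟶ 𝔓 := fun U => ⟨fun n => k n U, fun n => hι n U⟩
  have hadic : IsAdicHom bS := fun n => by
    let T := pullback (b (n + 1)) (𝔛.ι n)
    let c : P n ⟶ T := pullback.lift (ι n) (b n) (hcomm n).symm
    have hc : IsIso c := by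
      have hcov : ⨆ U : GoodU h J, pullback.snd (b (n + 1)) (𝔛.ι n) ⁻¹ᵁ 𝔛.lvU h n U.1 = ⊤ := by
        rw [← Scheme.Hom.preimage_iSup, show ⨆ U : GoodU h J, 𝔛.lvU h n U.1 = ⊤ from
          isOpenCover_goodU hloc n]
        rfl
      refine (IsZariskiLocalAtTarget.iff_of_iSup_eq_top (P := MorphismProperty.isomorphisms Scheme)
        _ hcov).2 fun U => ?_
      have hT : IsPullback ((pullback.snd (b (n + 1)) (𝔛.ι n) ⁻¹ᵁ 𝔛.lvU h n U.1).ι ≫
          pullback.fst (b (n + 1)) (𝔛.ι n)) (pullback.snd (b (n + 1)) (𝔛.ι n) ∣_ 𝔛.lvU h n U.1)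
          (b (n + 1)) ((𝔛.lvU h n U.1).ι ≫ 𝔛.ι n) :=
        (isPullback_morphismRestrict (pullback.snd (b (n + 1)) (𝔛.ι n)) (𝔛.lvU h n U.1)).flip.paste_horiz
          (IsPullback.of_hasPullback (b (n + 1)) (𝔛.ι n))
      have h3 : IsOpenImmersion (k n U) := MorphismProperty.of_isPullback (hk n U) inferInstance
      have hV : (k n U).opensRange = b n ⁻¹ᵁ 𝔛.lvU h n U.1 := by
        have := (hk n U)
        refine Opens.ext ?_
        rw [Scheme.Hom.coe_opensRange]
        rw [← this.isoPullback_hom_snd, Scheme.Hom.comp_base, TopCat.coe_comp, Set.range_comp,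
          Set.range_eq_univ.2 this.isoPullback.hom.surjective, Set.image_univ,
          IsOpenImmersion.range_pullbackSnd]
        exact congrArg (fun W : (𝔛.X n).Opens => ((b n ⁻¹ᵁ W : (P n).Opens) : Set (P n)))
          (Scheme.Opens.opensRange_ι (𝔛.lvU h n U.1))
      let a := c ∣_ (pullback.snd (b (n + 1)) (𝔛.ι n) ⁻¹ᵁ 𝔛.lvU h n U.1)
      have hW : c ⁻¹ᵁ pullback.snd (b (n + 1)) (𝔛.ι n) ⁻¹ᵁ 𝔛.lvU h n U.1 = b n ⁻¹ᵁ 𝔛.lvU h n U.1 := by
        rw [← Scheme.Hom.comp_preimage, pullback.lift_snd]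
      let φ : (bObj U).X n ⟶ (c ⁻¹ᵁ pullback.snd (b (n + 1)) (𝔛.ι n) ⁻¹ᵁ 𝔛.lvU h n U.1).toScheme :=
        IsOpenImmersion.lift (Scheme.Opens.ι _) (k n U) (by
          rw [Scheme.Opens.range_ι, hW, ← hV, Scheme.Hom.coe_opensRange])
      have hφ : φ ≫ Scheme.Opens.ι _ = k n U := IsOpenImmersion.lift_fac _ _ _
      have : IsIso φ := by
        have : IsOpenImmersion φ := by
          have : IsOpenImmersion (φ ≫ Scheme.Opens.ι _) := hφ.symm ▸ h3
          exact IsOpenImmersion.of_comp φ (Scheme.Opens.ι _)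
        refine isIso_of_isOpenImmersion_of_opensRange_eq_top φ (top_unique fun z _ => ?_)
        have hz : z.1 ∈ (k n U).opensRange := (hW.trans hV.symm).le z.2
        obtain ⟨w, hw⟩ := hz
        exact ⟨w, Subtype.ext ((congrArg (fun t => t w) (congrArg (fun t : _ ⟶ P n => t.base) hφ)).trans hw)⟩
      let lU : (bObj U).X n ⟶ (𝔛.lvU h n U.1).toScheme :=
        (bLift U : Hom (bObj U) (𝔛.restrictOpen h U.1)).app n
      have hlU : lU ≫ (𝔛.lvU h n U.1).ι = k n U ≫ b n := (hk n U).w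
      have hP' : IsPullback ((bObj U).ι n ≫ k (n + 1) U) lU (b (n + 1))
          ((𝔛.lvU h n U.1).ι ≫ 𝔛.ι n) := by
        rw [← Scheme.Hom.resLE_comp_ι (𝔛.ι n) (𝔛.lvU_le h n U.1)]
        exact (isAdicHom_bLift U n).paste_horiz (hk (n + 1) U).flip
      have key : φ ≫ a = (hP'.isoIsPullback _ _ hT).hom := by
        refine hT.hom_ext ?_ ((cancel_mono (𝔛.lvU h n U.1).ι).1 ?_)
        · rw [IsPullback.isoIsPullback_hom_fst, Category.assoc, morphismRestrict_ι_assoc,
            pullback.lift_fst, reassoc_of% hφ, hι]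
        · rw [IsPullback.isoIsPullback_hom_snd, Category.assoc, Category.assoc, morphismRestrict_ι,
            morphismRestrict_ι_assoc, pullback.lift_snd, reassoc_of% hφ, hlU]
      have : IsIso (φ ≫ a) := key ▸ inferInstance
      exact IsIso.of_isIso_comp_left φ a
    exact IsPullback.of_iso_pullback ⟨(hcomm n).symm⟩ (asIso c) (pullback.lift_fst _ _ _)
      (pullback.lift_snd _ _ _)
  have hP : 𝔓.IsFormal := An92.FSch.isFormal_of_isAdicHom h hadic
  refine ⟨𝔓, hP, bS, isAdmBlowUp_of_cover (fun U : GoodU h J => U.1) hloc hadic fun U => ?_⟩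
  have hbk : kS U ≫ bS = bMap U := Hom.ext (funext fun n => (hk n U).w.symm.trans
    (congrArg (fun t : Hom _ 𝔛 => t.app n) (bLift_spec U)))
  obtain ⟨l, hl, -⟩ := existsUnique_liftOpen (h := hP) (kS U) (bObj_isFormal U)
    (U := (bS : Hom 𝔓 𝔛).app 0 ⁻¹ᵁ U.1) (by
      rw [← Scheme.Hom.comp_preimage, ← comp_app]
      exact (congrArg (fun t : Hom _ 𝔛 => t.app 0 ⁻¹ᵁ U.1) hbk).trans (bMap_spec U).2.1)
  have hliso : IsIso l := isIso_sys l fun n => by
    have hpb := isPullback_resLE (b n) (Hom.lvU_preimage bS hP h n U.1).symm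
      (Hom.lvU_preimage bS hP h n U.1).ge
    have e1 : ((hk n U).isoIsPullback _ _ hpb).hom = (l : Hom _ _).app n := by
      refine (cancel_mono (Scheme.Opens.ι _)).1 ((IsPullback.isoIsPullback_hom_snd _ _ _ _).trans ?_)
      exact (congrArg (fun t : Hom _ 𝔓 => t.app n) hl).symm
    exact e1 ▸ inferInstance
  exact (bMap_spec U).of_iso (asIso l) (by rw [asIso_hom, ← Category.assoc, hl, hbk])

end Groth.Agent.FBlow13
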