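import Groth.Agent.FBlow13.Inv

/-!
The completion of a blow-up of an affine scheme is an admissible formal blow-up.
-/

set_option autoImplicit false

universe u

open CategoryTheory CategoryTheory.Limits AlgebraicGeometry TopologicalSpace Opposite

namespace Groth.Agent.FBlow13

open _root_.FSch

variable {𝔛 𝔜 : Sys.{u}} {h : 𝔛.IsFormal} {hY : 𝔜.IsFormal}

theorem comp_fam_comm' {S : Scheme.{u}} (g : 𝔜 ⟶ 𝔛) (c : ∀ n, 𝔛.X n ⟶ S)
    (hc : ∀ n, 𝔛.ι n ≫ c (n + 1) = c n) (n : ℕ) :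
    𝔜.ι n ≫ (g : Hom 𝔜 𝔛).app (n + 1) ≫ c (n + 1) = (g : Hom 𝔜 𝔛).app n ≫ c n := by
  rw [← Category.assoc, ← (g : Hom 𝔜 𝔛).comm n, Category.assoc, hc]

theorem le_preimage_top {X Y : Scheme.{u}} (f : X ⟶ Y) (V : X.Opens) : V ≤ f ⁻¹ᵁ ⊤ := fun _ _ => trivial

theorem famHom_comp {A : CommRingCat.{u}} (g : 𝔜 ⟶ 𝔛) (c : ∀ n, 𝔛.X n ⟶ Spec A)
    (hc : ∀ n, 𝔛.ι n ≫ c (n + 1) = c n) :
    famHom h c hc ≫ sharpLE (hY := hY) (h := h) g (U := ⊤) (V := ⊤) (le_preimage_top _ _) =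
      famHom hY (fun n => (g : Hom 𝔜 𝔛).app n ≫ c n) (comp_fam_comm' g c hc) := by
  refine hom_ext_sec fun n => ?_
  rw [Category.assoc, sharpLE_proj, ← Category.assoc, famHom_proj, famHom_proj,
    Scheme.Hom.comp_appTop]
  refine (Category.assoc _ _ _).trans (congrArg ((Scheme.ΓSpecIso A).inv ≫ ·) ?_)
  exact congrArg ((c n).appTop ≫ ·) (Scheme.Hom.app_eq_appLE _).symm

/-- The inverse image of the ideal generated by an ideal of `A` is the ideal generated along the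
composite. -/
theorem idealMap_schIdealMap {A : CommRingCat.{u}} (g : 𝔜 ⟶ 𝔛) (c : ∀ n, 𝔛.X n ⟶ Spec A)
    (hc : ∀ n, 𝔛.ι n ≫ c (n + 1) = c n) (𝔞 : Ideal A) :
    FBlow.idealMap g hY h (FBlow.schIdealMap 𝔛 h c hc (FBlow.IdealSh.ofData (idealSpec A 𝔞))) =
      FBlow.schIdealMap 𝔜 hY (fun n => (g : Hom 𝔜 𝔛).app n ≫ c n) (comp_fam_comm' g c hc)
        (FBlow.IdealSh.ofData (idealSpec A 𝔞)) := by
  have h1 := genOn_idealMap (hY := hY) g (genOn_schIdealMap_spec (h := h) c hc 𝔞)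
  have h2 := genOn_schIdealMap_spec (h := hY) (fun n => (g : Hom 𝔜 𝔛).app n ≫ c n)
    (comp_fam_comm' g c hc) 𝔞
  rw [← famHom_comp (h := h) (hY := hY) g c hc] at h2
  erw [Set.image_image] at h1
  refine GenOn.eq_of_top h1 ?_
  refine Eq.mp (congrArg _ ?_) h2
  refine Set.image_congr fun a _ => ?_
  exact FBlow.IdealSh.map_id_apply (O := 𝔜.Osh hY) le_rfl _

/-- A levelwise base change of a blow-up of an affine scheme to a system of thickenings defined by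
the powers of the ideal of definition is an admissible formal blow-up. -/
theorem isAdmBlowUp_of_model {R : Type u} [CommRing R] {I : Ideal R} (hR : AdicRing.IsBase R I)
    {A : Type u} [CommRing A] [Algebra R A] (hA : AdicRing.TopFiniteType R I A)
    (c : ∀ n, 𝔛.X n ⟶ Spec (CommRingCat.of A)) (hc : ∀ n, 𝔛.ι n ≫ c (n + 1) = c n)
    (hci : ∀ n, IsClosedImmersion (c n))
    (hck : ∀ n, (c n).ker = idealSpec A (I.map (algebraMap R A) ^ (n + 1)))
    (𝔞 : Ideal A) {P : Scheme.{u}} (π : P ⟶ Spec (CommRingCat.of A))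
    (hπ : BlowUp.IsBlowUp π (idealSpec A 𝔞)) (hloc : LocPrincipalFT π 𝔞)
    {𝔓 : Sys.{u}} (hP : 𝔓.IsFormal) (d : ∀ n, 𝔓.X n ⟶ P) (hd : ∀ n, 𝔓.ι n ≫ d (n + 1) = d n)
    (b : 𝔓 ⟶ 𝔛) (hsq : ∀ n, IsPullback ((b : Hom 𝔓 𝔛).app n) (d n) (c n) π) :
    FBlow.IsAdmBlowUp b hP h
      (FBlow.schIdealMap 𝔛 h c hc (FBlow.IdealSh.ofData (idealSpec A 𝔞))) := by
  have hC : IsComplOf I π d :=
    { isClosedImmersion := fun n => MorphismProperty.of_isPullback (hsq n) (hci n)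
      ker_eq := fun n => by
        have := hci n
        rw [An92.FSch.comap_ker_of_isPullback (hsq n).flip, hck] }
  refine ⟨fun n => ?_, ?_, fun 𝔜 hY g _ hinv => ?_⟩
  · have h1 : IsPullback (𝔓.ι n ≫ d (n + 1)) ((b : Hom 𝔓 𝔛).app n) π (𝔛.ι n ≫ c (n + 1)) := by
      rw [hd, hc]
      exact (hsq n).flip
    exact IsPullback.of_right h1 ((b : Hom 𝔓 𝔛).comm n).symm (hsq (n + 1)).flip
  · rw [idealMap_schIdealMap]
    have := hC.isInvertible (h := hP) hd hR hA hloc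
    simp only [← (hsq _).w] at this
    exact this
  · rw [idealMap_schIdealMap] at hinv
    obtain ⟨k, ⟨hk1, hk2⟩, huniq⟩ :=
      existsUnique_lift (A := CommRingCat.of A) 𝔞 π hπ _ (comp_fam_comm' g c hc) hinv
    refine ⟨⟨fun n => (hsq n).lift ((g : Hom 𝔜 𝔛).app n) (k n) (hk2 n).symm, fun n => ?_⟩, ?_,
      fun k' hk' => ?_⟩
    · refine (hsq (n + 1)).hom_ext ?_ ?_
      · rw [Category.assoc, ← (b : Hom 𝔓 𝔛).comm n, IsPullback.lift_fst_assoc,
          Category.assoc, IsPullback.lift_fst, (g : Hom 𝔜 𝔛).comm]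
      · rw [Category.assoc, hd, IsPullback.lift_snd, Category.assoc, IsPullback.lift_snd, hk1]
    · exact Hom.ext (funext fun n => (hsq n).lift_fst _ _ _)
    · have hg : ∀ n, (k' : Hom 𝔜 𝔓).app n ≫ (b : Hom 𝔓 𝔛).app n = (g : Hom 𝔜 𝔛).app n :=
        fun n => congrArg (fun t : Hom 𝔜 𝔛 => t.app n) hk'
      have e := huniq (fun n => (k' : Hom 𝔜 𝔓).app n ≫ d n)
        ⟨fun n => by rw [← Category.assoc, ← (k' : Hom 𝔜 𝔓).comm n, Category.assoc, hd],
          fun n => by rw [Category.assoc, ← (hsq n).w, ← Category.assoc, hg]⟩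
      refine Hom.ext (funext fun n => (hsq n).hom_ext ?_ ?_)
      · exact (hg n).trans ((hsq n).lift_fst _ _ _).symm
      · exact (congrFun e n).trans ((hsq n).lift_snd _ _ _).symm

end Groth.Agent.FBlow13
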