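import Groth.Agent.FBlow13.Chart
import Groth.Agent.FBlow13.Model
import Groth.Prelude.Def_W4bk4boschfrg79
import Mathlib.RingTheory.Polynomial.ScaleRoots
import Mathlib.RingTheory.IntegralClosure.IsIntegral.Defs
import Mathlib.RingTheory.Localization.BaseChange
import Mathlib.RingTheory.Valuation.ValuationRing

/-!
Adjoining integral elements of the generic fibre is a blow-up of a scheme.
-/

set_option autoImplicit false

universe u

open CategoryTheory CategoryTheory.Limits AlgebraicGeometry TopologicalSpace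
open scoped TensorProduct Polynomial

namespace Groth.Agent.FBlow13

section Generic

variable {R : Type u} [CommRing R] [IsDomain R] [ValuationRing R] [Ring.KrullDimLE 1 R]

theorem exists_dvd_pow {d t : R} (hd : d ≠ 0) (ht : ¬IsUnit t) : ∃ N : ℕ, d ∣ t ^ N := by
  have : t ∈ (Ideal.span {d}).radical := by
    rw [Ideal.radical_eq_sInf, Ideal.mem_sInf]
    rintro p ⟨hp, hprime⟩
    have hne : p ≠ ⊥ := fun e => hd (by simpa [e] using hp (Ideal.mem_span_singleton_self d))
    have := hprime.isMaximal_of_ne_bot hne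
    rw [IsLocalRing.eq_maximalIdeal this, IsLocalRing.mem_maximalIdeal]
    exact ht
  obtain ⟨N, hN⟩ := this
  exact ⟨N, Ideal.mem_span_singleton.1 hN⟩

variable (A : Type u) [CommRing A] [Algebra R A]

theorem algebraMap_tensor_injective {t : R} (ht : ¬IsUnit t)
    (hA : AdicRing.NoPowTorsion (Ideal.span {t}) A) :
    Function.Injective (algebraMap A (A ⊗[R] FractionRing R)) := by
  have hloc : IsLocalization (Algebra.algebraMapSubmonoid A (nonZeroDivisors R))
      (A ⊗[R] FractionRing R) := IsLocalization.tensor _ _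
  rw [injective_iff_map_eq_zero]
  intro x hx
  obtain ⟨⟨_, d, hd, rfl⟩, hdx⟩ :=
    (IsLocalization.map_eq_zero_iff (Algebra.algebraMapSubmonoid A (nonZeroDivisors R))
      (A ⊗[R] FractionRing R) x).1 hx
  obtain ⟨N, e, he⟩ := exists_dvd_pow (nonZeroDivisors.ne_zero hd) ht
  refine hA x N fun a ha => ?_
  rw [Ideal.span_singleton_pow, Ideal.mem_span_singleton] at ha
  obtain ⟨b, rfl⟩ := ha
  rw [he, Algebra.smul_def, map_mul, map_mul]
  calc algebraMap R A d * algebraMap R A e * algebraMap R A b * x
      = algebraMap R A e * algebraMap R A b * (algebraMap R A d * x) := by ring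
    _ = 0 := by rw [hdx, mul_zero]

end Generic

variable {A B : Type u} [CommRing A] [CommRing B] [Algebra A B]

/-- Sub-algebras of a generic fibre generated by integral fractions `g i / c` are blow-ups. -/
theorem isBlowUp_adjoin (hinj : Function.Injective (algebraMap A B)) {ι : Type*} (f : ι → B)
    (hf : ∀ i, IsIntegral A (f i)) (c : A) (hc : algebraMap A B c ∈ nonZeroDivisors B) (g : ι → A)
    (hg : ∀ i, algebraMap A B (g i) = algebraMap A B c * f i) :
    BlowUp.IsBlowUp (Spec.map (CommRingCat.ofHom (algebraMap A ↥(Algebra.adjoin A (Set.range f)))))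
      (FSch.idealSpec A (Ideal.span (insert c (Set.range g)))) := by
  set 𝔞 := Ideal.span (insert c (Set.range g)) with h𝔞
  set A' := Algebra.adjoin A (Set.range f) with hA'
  have hc' : algebraMap A A' c ∈ nonZeroDivisors A' := by
    rw [mem_nonZeroDivisors_iff_right]
    exact fun y hy => Subtype.ext (mem_nonZeroDivisors_iff_right.1 hc _ (congrArg Subtype.val hy))
  have hgen : ∀ x ∈ 𝔞, algebraMap A A' c ∣ algebraMap A A' x := by
    intro x hx
    rw [← Ideal.mem_span_singleton]
    refine (show 𝔞 ≤ (Ideal.span {algebraMap A A' c}).comap (algebraMap A A') from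
      Ideal.span_le.2 ?_) hx
    rintro y (rfl | ⟨i, rfl⟩)
    · exact Ideal.mem_span_singleton_self _
    · exact Ideal.mem_span_singleton.2
        ⟨⟨f i, Algebra.subset_adjoin ⟨i, rfl⟩⟩, Subtype.ext (hg i)⟩
  obtain ⟨ψ, hψ⟩ := affineAlgebra_exists_lift (𝔞 := 𝔞) (a := c) (algebraMap A A') hc' hgen
  have hψ' : ∀ r : A, ψ (algebraMap A _ r) = algebraMap A A' r := RingHom.congr_fun hψ
  have hcmem : c ∈ 𝔞 := Ideal.subset_span (Set.mem_insert _ _)
  have hbij : Function.Bijective ψ := by
    refine ⟨(injective_iff_map_eq_zero ψ).2 fun y hy => ?_, fun z => ?_⟩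
    · obtain ⟨⟨r, ⟨_, n, rfl⟩⟩, hr⟩ :=
        IsLocalization.surj (Submonoid.powers c) (y : Localization.Away c)
      have h0 : y * algebraMap A (BlowUp.affineAlgebra A 𝔞 c) (c ^ n) =
          algebraMap A (BlowUp.affineAlgebra A 𝔞 c) r := Subtype.ext hr
      have h1 := congrArg ψ h0
      rw [map_mul, hy, zero_mul, hψ'] at h1
      have hr0 : r = 0 := hinj (by rw [map_zero]; exact congrArg Subtype.val h1.symm)
      rw [hr0, map_zero, map_pow] at h0
      exact mem_nonZeroDivisors_iff_right.1 (pow_mem (affineAlgebra_nzd c) n) y h0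
    · let ψA : BlowUp.affineAlgebra A 𝔞 c →ₐ[A] A' := ⟨ψ, hψ'⟩
      have hle : (⊤ : Subalgebra A A') ≤ ψA.range := by
        rw [← Algebra.adjoin_adjoin_coe_preimage (s := Set.range f) (R := A)]
        refine Algebra.adjoin_le ?_
        rintro ⟨_, hy⟩ ⟨i, rfl⟩
        obtain ⟨w, hw⟩ := affineAlgebra_div (𝔞 := 𝔞) (a := c)
          (Ideal.subset_span (Set.mem_insert_of_mem _ ⟨i, rfl⟩) : g i ∈ 𝔞)
        refine ⟨w, ?_⟩
        refine (mul_cancel_right_mem_nonZeroDivisors hc').1 ?_
        have h1 := congrArg ψ hw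
        rw [map_mul, hψ', hψ'] at h1
        exact h1.symm.trans (Subtype.ext ((hg i).trans (mul_comm _ _)))
      exact hle Algebra.mem_top
  let e : CommRingCat.of (BlowUp.affineAlgebra A 𝔞 c) ≅ CommRingCat.of A' :=
    (RingEquiv.ofBijective ψ hbij).toCommRingCatIso
  have hmor : Spec.map (CommRingCat.ofHom (algebraMap A A')) =
      Spec.map e.hom ≫ chartMor A 𝔞 c := by
    rw [chartMor, ← Spec.map_comp]
    exact congrArg Spec.map (CommRingCat.hom_ext hψ).symm
  have hrep := isRep_chart (A := A) (𝔞 := 𝔞) (a := c)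
  have key : ∀ {Z : Scheme.{u}} (h : Z ⟶ Spec (CommRingCat.of A)),
      BlowUp.IsEffCartierIdeal ((FSch.idealSpec A 𝔞).comap h) → ChartPred A 𝔞 c Z h := by
    intro Z h hh
    have hle : (FSch.idealSpec A (Ideal.span {c})).comap h ≤ (FSch.idealSpec A 𝔞).comap h :=
      Scheme.IdealSheafData.comap_mono _ (idealSpec_mono ((Ideal.span_singleton_le_iff_mem _).2 hcmem))
    have hge : (FSch.idealSpec A 𝔞).comap h ≤ (FSch.idealSpec A (Ideal.span {c})).comap h := by
      refine MP99.le_of_local fun z => ?_
      obtain ⟨U, hzU, s, hsz, hs⟩ := hh z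
      refine ⟨U, hzU, ?_⟩
      let φ := baseHom h U.1
      have ee : ∀ K : Ideal A, ((FSch.idealSpec A K).comap h).ideal U = K.map φ.hom := fun K => by
        rw [MP99.ideal_comap _ h ⟨⊤, isAffineOpen_top _⟩ U le_top, idealSpec_ideal_top, Ideal.map_map,
          ← CommRingCat.hom_comp]
      rw [ee] at hs
      rw [ee, ee, Ideal.map_span φ.hom {c}, Set.image_singleton, hs]
      have hmem : ∀ x ∈ 𝔞, ∃ d, d * s = φ x := fun x hx =>
        Ideal.mem_span_singleton'.1 (hs.le (Ideal.mem_map_of_mem _ hx))
      obtain ⟨d, hd⟩ := hmem c hcmem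
      choose ei hei using fun i => hmem (g i) (Ideal.subset_span (Set.mem_insert_of_mem _ ⟨i, rfl⟩))
      have hrad : ∀ i, ei i ∈ (Ideal.span {d}).radical := by
        intro i
        obtain ⟨p, hp, hp0⟩ := hf i
        have h1 : Polynomial.eval₂ (algebraMap A B) (algebraMap A B (g i))
            (p.scaleRoots c) = 0 := by
          rw [hg i]
          exact Polynomial.scaleRoots_eval₂_eq_zero _ hp0
        have h2 : Polynomial.eval (g i) (p.scaleRoots c) = 0 := hinj (by
          rw [map_zero, ← Polynomial.eval₂_at_apply]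
          exact h1)
        have h3 : Polynomial.eval₂ φ.hom (φ (g i)) (p.scaleRoots c) = 0 := by
          rw [Polynomial.eval₂_at_apply, h2, map_zero]
        have h4 : Polynomial.eval₂ (RingHom.id Γ(Z, U.1)) (s * ei i)
            (((p.map φ.hom).scaleRoots d).scaleRoots s) = 0 := by
          rw [← Polynomial.scaleRoots_mul, hd, mul_comm s, hei,
            ← Polynomial.map_scaleRoots _ _ _ (by
              rw [hp.leadingCoeff, map_one]
              exact fun e0 => (Z.presheaf.germ U.1 z hzU).hom.domain_nontrivial.exists_pair_ne.elim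
                fun a ⟨b, hab⟩ => hab (by rw [← one_mul a, ← one_mul b, e0, zero_mul, zero_mul]))]
          rw [Polynomial.eval₂_map, RingHom.id_comp]
          exact h3
        have h5 := Polynomial.scaleRoots_eval₂_mul (p := (p.map φ.hom).scaleRoots d)
          (RingHom.id Γ(Z, U.1)) (ei i) s
        rw [RingHom.id_apply, h4] at h5
        have h6 : Polynomial.eval₂ (RingHom.id Γ(Z, U.1)) (ei i) ((p.map φ.hom).scaleRoots d) = 0 :=
          mem_nonZeroDivisors_iff_left.1 (pow_mem hsz _) _ h5.symm
        have h7 := congrArg (Ideal.Quotient.mk (Ideal.span {d})) h6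
        rw [Polynomial.eval₂_id, map_zero, ← Polynomial.eval₂_at_apply, ← Polynomial.eval_map] at h7
        refine ⟨p.natDegree, ?_⟩
        rw [← Ideal.Quotient.eq_zero_iff_mem, map_pow]
        have hq : ((p.map φ.hom).scaleRoots d).map (Ideal.Quotient.mk (Ideal.span {d})) =
            Polynomial.X ^ p.natDegree ∨ Subsingleton (Γ(Z, U.1) ⧸ Ideal.span {d}) := by
          by_cases hnt : Nontrivial (Γ(Z, U.1) ⧸ Ideal.span {d})
          · left
            rw [Polynomial.map_scaleRoots _ _ _ (by
              rw [(hp.map _).leadingCoeff, map_one]; exact one_ne_zero),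
              Ideal.Quotient.eq_zero_iff_mem.2 (Ideal.mem_span_singleton_self d),
              Polynomial.scaleRoots_zero, ((hp.map _).map _).leadingCoeff, one_smul,
              Polynomial.map_map, hp.natDegree_map]
          · exact Or.inr (not_nontrivial_iff_subsingleton.1 hnt)
        rcases hq with hq | hq
        · rw [hq, Polynomial.eval_pow, Polynomial.eval_X] at h7
          exact h7
        · exact Subsingleton.elim _ _
      have hone : (1 : Γ(Z, U.1)) ∈ (Ideal.span {d}).radical := by
        have hle' : 𝔞.map φ.hom ≤ (Ideal.span {d}).radical * Ideal.span {s} := by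
          rw [h𝔞, Ideal.map_span, Ideal.span_le]
          rintro _ ⟨y, (rfl | ⟨i, rfl⟩), rfl⟩
          · rw [← hd]
            exact Ideal.mul_mem_mul (Ideal.le_radical (Ideal.mem_span_singleton_self d))
              (Ideal.mem_span_singleton_self s)
          · rw [← hei]
            exact Ideal.mul_mem_mul (hrad i) (Ideal.mem_span_singleton_self s)
        obtain ⟨w, hw, hws⟩ := Ideal.mem_mul_span_singleton.1
          (hle' (hs.ge (Ideal.mem_span_singleton_self s)))
        rwa [(mul_cancel_right_mem_nonZeroDivisors hsz).1 (hws.trans (one_mul s).symm)] at hw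
      obtain ⟨N, hN⟩ := hone
      rw [one_pow, Ideal.mem_span_singleton] at hN
      rw [← hd, Ideal.span_singleton_mul_left_unit (isUnit_of_dvd_one hN)]
    refine ⟨hge, ?_⟩
    rw [le_antisymm hle hge]
    exact hh
  refine ⟨?_, fun Z h hh => ?_⟩
  · refine isEffCartier_comap_spec (CommRingCat.ofHom (algebraMap A A')) 𝔞 ?_ hc'
    refine le_antisymm (Ideal.map_le_iff_le_comap.2 fun x hx => ?_)
      ((Ideal.span_singleton_le_iff_mem _).2 (Ideal.mem_map_of_mem _ hcmem))
    exact Ideal.mem_span_singleton.2 (hgen x hx)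
  · obtain ⟨l, hl, hlu⟩ := hrep.2 Z h (key h hh)
    refine ⟨l ≫ Spec.map e.inv, ?_, fun m hm => ?_⟩
    · show (l ≫ Spec.map e.inv) ≫ _ = h
      rw [hmor, Category.assoc, ← Category.assoc (Spec.map e.inv), ← Spec.map_comp, e.hom_inv_id,
        Spec.map_id, Category.id_comp]
      exact hl
    · rw [← hlu (m ≫ Spec.map e.hom) (by rw [hmor] at hm; simpa using hm), Category.assoc,
        ← Spec.map_comp, e.inv_hom_id, Spec.map_id, Category.comp_id]

end Groth.Agent.FBlow13

namespace Groth.Agent.FBlow13

/-- An affine blow-up with principal inverse image of the centre gives an admissible formal blow-up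
of formal spectra. -/
theorem isAdmBlowUp_spfMap_of_affine {R : Type u} [CommRing R] {I : Ideal R}
    (hR : AdicRing.IsBase R I) {A A' : Type u} [CommRing A] [CommRing A'] [Algebra R A]
    [Algebra R A'] [Algebra A A'] [IsScalarTower R A A'] [Algebra.FiniteType A A']
    (hA : AdicRing.TopFiniteType R I A) (𝔞 : Ideal A)
    (hπ : BlowUp.IsBlowUp (Spec.map (CommRingCat.ofHom (algebraMap A A'))) (FSch.idealSpec A 𝔞))
    (c : A) (hc : c ∈ 𝔞) (hnz : algebraMap A A' c ∈ nonZeroDivisors A')
    (hgen : ∀ x ∈ 𝔞, algebraMap A A' c ∣ algebraMap A A' x)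
    (hX : (FSch.spf A (I.map (algebraMap R A))).IsFormal)
    (h' : (FSch.spf A' (I.map (algebraMap R A'))).IsFormal)
    (hle : I.map (algebraMap R A) ≤ (I.map (algebraMap R A')).comap (algebraMap A A')) :
    FBlow.IsAdmBlowUp (FSch.spfMap (I.map (algebraMap R A')) (I.map (algebraMap R A))
      (algebraMap A A') hle) h' hX
      (FBlow.schIdealMap (FSch.spf A (I.map (algebraMap R A))) hX
        (FSch.spfToSpec A (I.map (algebraMap R A))) (FSch.spfToSpec_comm A (I.map (algebraMap R A)))
        (FBlow.IdealSh.ofData (FSch.idealSpec A 𝔞))) := by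
  set K := I.map (algebraMap R A) with hK
  set K' := I.map (algebraMap R A') with hK'
  have hci : ∀ (B : Type u) [CommRing B] (J : Ideal B) (n : ℕ),
      IsClosedImmersion (FSch.spfToSpec B J n) := fun B _ J n =>
    IsClosedImmersion.spec_of_surjective (CommRingCat.ofHom (Ideal.Quotient.mk (J ^ (n + 1))))
      Ideal.Quotient.mk_surjective
  have h2 : baseHom (Spec.map (CommRingCat.ofHom (algebraMap A A'))) ⊤ =
      CommRingCat.ofHom (algebraMap A A') ≫ (Scheme.ΓSpecIso (CommRingCat.of A')).inv := by
    rw [baseHom, Scheme.ΓSpecIso_inv_naturality, Scheme.Hom.appTop, Scheme.Hom.app_eq_appLE]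
    rfl
  let ε := (Scheme.ΓSpecIso (CommRingCat.of A')).symm.commRingCatIsoToRingEquiv
  refine isAdmBlowUp_of_model hR hA (FSch.spfToSpec A K) (FSch.spfToSpec_comm A K) (hci A K)
    (fun n => rfl) 𝔞 _ hπ ?_ h' (FSch.spfToSpec _ K') (FSch.spfToSpec_comm _ K') _ (fun n => ?_)
  · intro p
    refine ⟨⊤, trivial, ⟨isAffineOpen_top _, ?_⟩, c, hc, ?_, ?_⟩
    · rw [h2, CommRingCat.hom_comp]
      exact RingHom.FiniteType.comp (RingHom.FiniteType.of_surjective _ ε.surjective)
        (RingHom.finiteType_algebraMap.2 inferInstance)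
    · rw [h2]
      exact MulEquivClass.map_nonZeroDivisors ε ▸ Submonoid.mem_map.2 ⟨_, hnz, rfl⟩
    · rw [h2, Ideal.map_le_iff_le_comap]
      intro x hx
      obtain ⟨d, hd⟩ := hgen x hx
      exact Ideal.mem_span_singleton'.2
        ⟨ε d, ((congrArg ε (hd.trans (mul_comm _ _))).trans (map_mul ε _ _)).symm⟩
  · have := hci A' K' n
    have := hci A K n
    refine (AlgebraicGeometry.isPullback_of_isClosedImmersion _ _ _ _ ?_ ?_).flip
    · change Spec.map _ ≫ Spec.map _ = Spec.map _ ≫ Spec.map _
      rw [← Spec.map_comp, ← Spec.map_comp]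
      exact congrArg Spec.map rfl
    · change (FSch.idealSpec A (K ^ (n + 1))).comap _ = FSch.idealSpec A' (K' ^ (n + 1))
      refine An92.FSch.toIdeal_injective (R := CommRingCat.of A') ?_
      refine (An92.FSch.toIdeal_comap _ _).trans ?_
      rw [An92.FSch.toIdeal_idealSpec, An92.FSch.toIdeal_idealSpec, CommRingCat.hom_ofHom,
        Ideal.map_pow, hK, hK', Ideal.map_map, ← IsScalarTower.algebraMap_eq]

end Groth.Agent.FBlow13
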