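import Groth.Agent.FBlow13.Adic
import Groth.Agent.S11539
import Mathlib.RingTheory.Flat.Basic
import Mathlib.LinearAlgebra.TensorProduct.Pi

/-!
Completions of schemes of finite type over a topologically finite type algebra: absence of
torsion, and invertibility of inverse images of locally principal ideals.
-/

set_option autoImplicit false

universe u

open CategoryTheory CategoryTheory.Limits AlgebraicGeometry TopologicalSpace Opposite
open scoped TensorProduct

namespace Groth.Agent.FBlow13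

open _root_.FSch

section Flat

variable {C : Type u} [CommRing C]

theorem eq_zero_of_flat {M : Type u} [AddCommGroup M] [Module C M] [Module.Flat C M]
    {ι : Type} [Fintype ι] [DecidableEq ι] (a : ι → C)
    (hinj : ∀ x : C, (∀ j, a j * x = 0) → x = 0) (m : M) (hm : ∀ j, a j • m = 0) : m = 0 := by
  let f : C →ₗ[C] (ι → C) := LinearMap.pi fun j => LinearMap.mulLeft C (a j)
  have hf : Function.Injective f := by
    rw [← LinearMap.ker_eq_bot, LinearMap.ker_eq_bot']
    exact fun x hx => hinj x fun j => congrFun hx j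
  have h1 : f.lTensor M (m ⊗ₜ (1 : C)) = 0 := by
    refine (TensorProduct.piScalarRight C C M ι).injective (funext fun j => ?_)
    rw [LinearMap.lTensor_tmul, map_zero, TensorProduct.piScalarRight_apply,
      TensorProduct.piScalarRightHom_tmul]
    change (a j * 1) • m = 0
    rw [mul_one, hm]
  have h2 := Module.Flat.lTensor_preserves_injective_linearMap f hf
    (h1.trans (map_zero (f.lTensor M)).symm)
  simpa using congrArg (TensorProduct.rid C M) h2

theorem mem_pow_of_flat (J : Ideal C) [Module.Flat C (AdicCompletion J C)]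
    {ι : Type} [Fintype ι] [DecidableEq ι] (a : ι → C)
    (hinj : ∀ x : C, (∀ j, a j * x = 0) → x = 0) (c : ℕ → C)
    (hc : ∀ n, c (n + 1) - c n ∈ J ^ (n + 1)) (hca : ∀ j n, a j * c n ∈ J ^ (n + 1)) (n : ℕ) :
    c n ∈ J ^ (n + 1) := by
  let x : AdicCompletion J C := AdicCompletion.mk J C (AdicCompletion.AdicCauchySequence.mk J C c
    fun m => by
      rw [SModEq.sub_mem, smul_eq_mul, Ideal.mul_top, ← neg_sub]
      exact neg_mem (Ideal.pow_le_pow_right (Nat.le_succ m) (hc m)))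
  have hx : x = 0 := eq_zero_of_flat a hinj x fun j => AdicCompletion.ext fun m => by
    change a j • Submodule.Quotient.mk (c m) = (0 : C ⧸ (J ^ m • ⊤ : Submodule C C))
    rw [← Submodule.Quotient.mk_smul, Submodule.Quotient.mk_eq_zero, smul_eq_mul, smul_eq_mul,
      Ideal.mul_top]
    exact Ideal.pow_le_pow_right (Nat.le_succ m) (hca j m)
  have h0 : Submodule.Quotient.mk (c (n + 1)) = (0 : C ⧸ (J ^ (n + 1) • ⊤ : Submodule C C)) :=
    congrArg (fun y : AdicCompletion J C => y.val (n + 1)) hx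
  rw [Submodule.Quotient.mk_eq_zero, smul_eq_mul, Ideal.mul_top] at h0
  have := sub_mem h0 (hc n)
  rwa [sub_sub_cancel] at this

end Flat

variable {R : Type u} [CommRing R] (I : Ideal R) {A : Type u} [CommRing A] [Algebra R A]
  {𝔛 : Sys.{u}} {h : 𝔛.IsFormal} {P : Scheme.{u}} (π : P ⟶ Spec (CommRingCat.of A))
  (d : ∀ n, 𝔛.X n ⟶ P) (hd : ∀ n, 𝔛.ι n ≫ d (n + 1) = d n)

/-- The family `d` presents `𝔛` as the completion of `P` along the inverse image of `I A`. -/
structure IsComplOf : Prop where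
  isClosedImmersion : ∀ n, IsClosedImmersion (d n)
  ker_eq : ∀ n, (d n).ker =
    (idealSpec A (I.map (algebraMap R A) ^ (n + 1))).comap π

variable {I π d}

include hd in
theorem comp_fam_comm (n : ℕ) : 𝔛.ι n ≫ d (n + 1) ≫ π = d n ≫ π := by
  rw [← Category.assoc, hd]

include hd in
theorem IsComplOf.adicOver (hC : IsComplOf I π d) :
    AdicOver (R := CommRingCat.of A) (I.map (algebraMap R A)) (fun n => d n ≫ π) := fun n => by
  have := hC.isClosedImmersion (n + 1)
  have := hC.isClosedImmersion n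
  have hsq : IsPullback (𝔛.ι n) (𝟙 _) (d (n + 1)) (d n) :=
    IsPullback.of_isLimit (PullbackCone.IsLimit.mk (fst := 𝔛.ι n) (snd := 𝟙 _)
      (by rw [Category.id_comp, hd]) (fun s => s.snd)
      (fun s => (cancel_mono (d (n + 1))).1 (by rw [s.condition, Category.assoc, hd]))
      (fun s => Category.comp_id _) (fun s m _ h₂ => by simpa using h₂))
  rw [An92.FSch.comap_ker_of_isPullback hsq, hC.ker_eq, Scheme.IdealSheafData.comap_comp]

/-- The map from functions on an open of `P` to sections on the completion. -/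
noncomputable def compSec (hd : ∀ n, 𝔛.ι n ≫ d (n + 1) = d n) (Q : P.Opens) :
    Γ(P, Q) ⟶ Sec 𝔛 h (d 0 ⁻¹ᵁ Q) :=
  (schSharp 𝔛 h d hd).hom.app (op Q)

theorem compSec_proj (hd : ∀ n, 𝔛.ι n ≫ d (n + 1) = d n) (Q : P.Opens) (n : ℕ) :
    compSec (h := h) hd Q ≫ proj 𝔛 h (d 0 ⁻¹ᵁ Q) n =
      (d n).appLE Q (𝔛.lvU h n (d 0 ⁻¹ᵁ Q)) (lvU_p 𝔛 h d hd n Q).ge :=
  schSharp_proj_app d hd Q n

/-- The ring map from the base to the functions on an affine open of `P`. -/
noncomputable abbrev baseHom (π : P ⟶ Spec (CommRingCat.of A)) (Q : P.Opens) :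
    CommRingCat.of A ⟶ Γ(P, Q) :=
  (Scheme.ΓSpecIso (CommRingCat.of A)).inv ≫ π.appLE ⊤ Q le_top

include hd in
theorem IsComplOf.proj_schSharp (hC : IsComplOf I π d) {Q : P.Opens} (hQ : IsAffineOpen Q) (n : ℕ) :
    Function.Surjective (compSec (h := h) hd Q ≫ proj 𝔛 h (d 0 ⁻¹ᵁ Q) n) ∧
      RingHom.ker (compSec (h := h) hd Q ≫ proj 𝔛 h (d 0 ⁻¹ᵁ Q) n).hom =
        (I.map (algebraMap R A) ^ (n + 1)).map (baseHom π Q).hom := by
  have := hC.isClosedImmersion n
  rw [compSec_proj]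
  have e := appLE_of_eq (d n) (lvU_p 𝔛 h d hd n Q).symm (lvU_p 𝔛 h d hd n Q).ge
  refine ⟨fun t => e.1 t ((d n).app_surjective Q hQ), e.2.trans ?_⟩
  rw [← Scheme.Hom.ker_apply (d n) ⟨Q, hQ⟩, hC.ker_eq,
    MP99.ideal_comap _ π ⟨⊤, isAffineOpen_top _⟩ ⟨Q, hQ⟩ le_top, eq_of_ideal_top,
    An92.FSch.toIdeal_idealSpec, Ideal.map_map, ← CommRingCat.hom_comp]

/-- On the completion, a section over an affine open killed by the images of a jointly regular
family vanishes. -/
theorem IsComplOf.eq_zero_of_joint (hC : IsComplOf I π d) (hR : AdicRing.IsBase R I)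
    (hA : AdicRing.TopFiniteType R I A) {Q : P.Opens} (hQ : IsAffineOpen Q)
    (hQft : (baseHom π Q).hom.FiniteType) {ι : Type} [Fintype ι] [DecidableEq ι]
    (a : ι → Γ(P, Q)) (hinj : ∀ x, (∀ j, a j * x = 0) → x = 0) (s : Sec 𝔛 h (d 0 ⁻¹ᵁ Q))
    (hs : ∀ j, compSec (h := h) hd Q (a j) * s = 0) : s = 0 := by
  algebraize [(baseHom π Q).hom]
  let : Algebra R Γ(P, Q) := ((algebraMap A Γ(P, Q)).comp (algebraMap R A)).toAlgebra
  have : IsScalarTower R A Γ(P, Q) := IsScalarTower.of_algebraMap_eq fun _ => rfl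
  have hflat := S11539.result R I hR A hA Γ(P, Q)
  have hJ : ∀ n : ℕ, (I.map (algebraMap R A) ^ (n + 1)).map (baseHom π Q).hom =
      I.map (algebraMap R Γ(P, Q)) ^ (n + 1) := fun n => by
    rw [Ideal.map_pow, Ideal.map_map]
    rfl
  choose c hc using fun n => (hC.proj_schSharp (h := h) hd hQ n).1 (proj 𝔛 h _ n s)
  have hker : ∀ n (x : Γ(P, Q)), (compSec (h := h) hd Q ≫ proj 𝔛 h (d 0 ⁻¹ᵁ Q) n) x = 0 ↔
      x ∈ I.map (algebraMap R Γ(P, Q)) ^ (n + 1) := fun n x => by
    rw [← hJ, ← (hC.proj_schSharp (h := h) hd hQ n).2]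
    rfl
  refine sec_ext fun n => ?_
  rw [map_zero, ← hc n, hker]
  refine mem_pow_of_flat _ a hinj c (fun m => ?_) (fun j m => ?_) n
  · rw [← hker, map_sub, hc m]
    refine sub_eq_zero.2 (((proj_succ_apply _ m (compSec (h := h) hd Q (c (m + 1)))).symm.trans
      ?_).trans (proj_succ_apply _ m s))
    exact congrArg _ (hc (m + 1))
  · rw [← hker, map_mul, hc m]
    refine Eq.trans ?_ ((congrArg (proj 𝔛 h _ m) (hs j)).trans (map_zero _))
    exact (map_mul (proj 𝔛 h (d 0 ⁻¹ᵁ Q) m).hom _ _).symm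

variable (π)

/-- An affine open of `P` of finite type over the base. -/
def FTOpen (Q : P.Opens) : Prop :=
  IsAffineOpen Q ∧ (baseHom π Q).hom.FiniteType

/-- Locally on `P` the ideal `𝔞` is generated by one of its elements, which is regular, and `P` is
locally of finite type over the base. -/
def LocPrincipalFT (𝔞 : Ideal A) : Prop :=
  ∀ p : P, ∃ Q : P.Opens, p ∈ Q ∧ FTOpen π Q ∧ ∃ a ∈ 𝔞,
    baseHom π Q a ∈ nonZeroDivisors Γ(P, Q) ∧
      𝔞.map (baseHom π Q).hom ≤ Ideal.span {baseHom π Q a}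

variable {π}

set_option backward.isDefEq.respectTransparency false in
theorem baseHom_res {Q Q' : P.Opens} (e : Q' ≤ Q) :
    baseHom π Q ≫ P.presheaf.map (homOfLE e).op = baseHom π Q' := by
  rw [baseHom, baseHom, Category.assoc, Scheme.Hom.appLE_map]

theorem FTOpen.exists_le {Q : P.Opens} (hQ : FTOpen π Q) {p : P} (hp : p ∈ Q) {O : P.Opens}
    (hO : p ∈ O) : ∃ (Q' : P.Opens) (e : Q' ≤ Q), p ∈ Q' ∧ Q' ≤ O ∧ FTOpen π Q' ∧
      ∀ b ∈ nonZeroDivisors Γ(P, Q), P.presheaf.map (homOfLE e).op b ∈ nonZeroDivisors Γ(P, Q') := by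
  obtain ⟨f, hfO, hpf⟩ := hQ.1.exists_basicOpen_le ⟨p, hO⟩ hp
  have e : P.basicOpen f ≤ Q := P.basicOpen_le f
  have hloc := hQ.1.isLocalization_basicOpen f
  refine ⟨P.basicOpen f, e, hpf, hfO, ⟨hQ.1.basicOpen f, ?_⟩, fun b hb => ?_⟩
  · rw [← baseHom_res e, CommRingCat.hom_comp]
    exact RingHom.FiniteType.comp (RingHom.finiteType_algebraMap.2
      (IsLocalization.finiteType_of_monoid_fg (Submonoid.powers f) _)) hQ.2
  · exact MP99.map_mem_nonZeroDivisors (U := ⟨Q, hQ.1⟩) (V := ⟨P.basicOpen f, hQ.1.basicOpen f⟩) e hb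

set_option backward.isDefEq.respectTransparency false in
/-- Sections of the structure sheaf of the completion over an affine open subscheme act as their
images. -/
theorem famHom_res_eq (Q : P.Opens) {W : (𝔛.X 0).Opens} (hW : W ≤ d 0 ⁻¹ᵁ Q) :
    famHom h (fun n => d n ≫ π) (comp_fam_comm hd) ≫ res 𝔛 h le_top =
      baseHom π Q ≫ compSec (h := h) hd Q ≫ res 𝔛 h hW := by
  refine hom_ext_sec fun n => ?_
  rw [Category.assoc, proj_res, ← Category.assoc, famHom_proj, Category.assoc, Category.assoc,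
    Category.assoc, Category.assoc, proj_res, ← Category.assoc (compSec (h := h) hd Q),
    compSec_proj]
  simp only [Scheme.Hom.appLE_map]
  rw [Scheme.Hom.appLE_comp_appLE, Scheme.Hom.appTop, Scheme.Hom.app_eq_appLE,
    Scheme.Hom.appLE_map]

/-- Inverse images of locally principal regular ideals on completions are invertible. -/
theorem IsComplOf.isInvertible (hC : IsComplOf I π d) (hR : AdicRing.IsBase R I)
    (hA : AdicRing.TopFiniteType R I A) {𝔞 : Ideal A} (h𝔞 : LocPrincipalFT π 𝔞) :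
    (FBlow.schIdealMap 𝔛 h (fun n => d n ≫ π) (comp_fam_comm hd)
      (FBlow.IdealSh.ofData (idealSpec A 𝔞))).IsInvertible := by
  rw [isInvertible_iff_invOn (genOn_schIdealMap_spec (A := CommRingCat.of A) _ _ 𝔞)]
  intro x _
  obtain ⟨Q, hxQ, hQ, a, ha, hnz, hgen⟩ := h𝔞 (d 0 x)
  refine ⟨d 0 ⁻¹ᵁ Q, le_top, hxQ,
    res 𝔛 h le_top (famHom h (fun n => d n ≫ π) (comp_fam_comm hd) a),
    Ideal.subset_span ⟨_, ⟨a, ha, rfl⟩, rfl⟩, ?_, fun V j t ht => ?_⟩
  · rintro _ ⟨b, hb, rfl⟩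
    obtain ⟨c, hc⟩ := Ideal.mem_span_singleton'.1 (hgen (Ideal.mem_map_of_mem _ hb))
    have e : ∀ r : A, res 𝔛 h le_top (famHom h (fun n => d n ≫ π) (comp_fam_comm hd) r) =
        res 𝔛 h le_rfl (compSec (h := h) hd Q (baseHom π Q r)) := fun r =>
      congrArg (fun φ => φ r) (famHom_res_eq (h := h) (π := π) hd Q (le_refl _))
    refine ⟨res 𝔛 h le_rfl (compSec (h := h) hd Q c), ?_⟩
    change res 𝔛 h le_top (famHom h (fun n => d n ≫ π) (comp_fam_comm hd) b) = _
    rw [e, ← hc, mul_comm, map_mul, map_mul]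
    exact congrArg (fun z => z * _) (e a).symm
  · refine (FBlow.IdealSh.bot (𝔛.Osh h)).mem_of_local (s := t) fun y hy => ?_
    have := hC.isClosedImmersion 0
    obtain ⟨O, hO, hOV⟩ := (d 0).isClosedEmbedding.isInducing.isOpen_iff.1 V.isOpen
    obtain ⟨Q', e, hyQ', hQ'O, hQ', hnz'⟩ := hQ.exists_le (j hy) (O := ⟨O, hO⟩)
      (show d 0 y ∈ O from hOV.ge hy)
    have hle : d 0 ⁻¹ᵁ Q' ≤ V := fun z hz => hOV.le (hQ'O hz)
    refine ⟨d 0 ⁻¹ᵁ Q', hle, hyQ', ?_⟩
    change res 𝔛 h hle t = 0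
    refine hC.eq_zero_of_joint hd hR hA hQ'.1 hQ'.2 (ι := Unit) (fun _ => baseHom π Q' a)
      (fun z hz => ?_) _ fun _ => ?_
    · have h1 : baseHom π Q' a ∈ nonZeroDivisors Γ(P, Q') := by
        rw [← baseHom_res e]; exact hnz' _ hnz
      exact mem_nonZeroDivisors_iff_right.1 h1 z (by rw [mul_comm]; exact hz ())
    · have h2 := congrArg (res 𝔛 h hle) ht
      rw [map_mul, map_zero] at h2
      rw [mul_comm]
      refine Eq.trans (congrArg (res 𝔛 h hle t * ·) ?_) h2
      have e2 : res 𝔛 h le_top (famHom h (fun n => d n ≫ π) (comp_fam_comm hd) a) =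
          res 𝔛 h le_rfl (compSec (h := h) hd Q' (baseHom π Q' a)) :=
        congrArg (fun φ => φ a) (famHom_res_eq (h := h) (π := π) hd Q' (le_refl _))
      refine ((congrArg _ rfl).trans (FBlow.IdealSh.map_id_apply (O := 𝔛.Osh h) le_rfl _).symm).trans
        (e2.symm.trans ?_)
      simp only [res, FBlow.IdealSh.map_comp_apply]

end Groth.Agent.FBlow13
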