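import Groth.Agent.FBlow13.Sections
import Groth.Agent.FBlow13.Gen

/-!
Units in the sections of a formal system, sections of a compatible family of morphisms to an
affine scheme, and generators of inverse image ideals.
-/

set_option autoImplicit false

universe u

open CategoryTheory CategoryTheory.Limits AlgebraicGeometry TopologicalSpace Opposite

namespace Groth.Agent.FBlow13

open _root_.FSch

variable {𝔛 : Sys.{u}} {h : 𝔛.IsFormal}

theorem isUnit_proj_of_zero {U : (𝔛.X 0).Opens} (s : Sec 𝔛 h U)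
    (hs : IsUnit (proj 𝔛 h U 0 s)) : ∀ n, IsUnit (proj 𝔛 h U n s)
  | 0 => hs
  | n + 1 => by
    have hn := isUnit_proj_of_zero s hs n
    refine (𝔛.X (n + 1)).toRingedSpace.isUnit_of_isUnit_germ _ _ fun z hz => ?_
    obtain ⟨y, rfl⟩ := (h n).2 z
    have hy : y ∈ 𝔛.lvU h n U := (𝔛.lvU_succ h n U) ▸ hz
    have key : y ∈ (𝔛.ι n) ⁻¹ᵁ (𝔛.X (n + 1)).basicOpen (proj 𝔛 h U (n + 1) s) := by
      have h2 := (𝔛.X n).basicOpen_res ((𝔛.ι n).app _ (proj 𝔛 h U (n + 1) s))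
        (homOfLE (𝔛.lvU_le h n U)).op
      have h3 := (𝔛.X n).basicOpen_of_isUnit ((proj_succ_apply U n s).symm ▸ hn)
      rw [← Scheme.preimage_basicOpen] at h2
      exact (h2.symm.trans h3).ge hy |>.2
    exact ((𝔛.X (n + 1)).mem_basicOpen _ _ hz).1 key

/-- A section is invertible if and only if its image on the bottom level is. -/
theorem isUnit_sec_iff {U : (𝔛.X 0).Opens} (s : Sec 𝔛 h U) :
    IsUnit s ↔ IsUnit (proj 𝔛 h U 0 s) := by
  refine ⟨fun hs => hs.map _, fun hs => ?_⟩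
  choose u hu using fun n => isUnit_iff_exists_inv.1 (isUnit_proj_of_zero s hs n)
  obtain ⟨t, ht⟩ := exists_sec U u fun n => by
    have h1 : proj 𝔛 h U n s *
        (𝔛.ι n).appLE _ _ (𝔛.lvU_le h n U) (u (n + 1)) = 1 := by
      rw [← proj_succ_apply U n s, ← map_mul, hu, map_one]
    exact (left_inv_eq_right_inv (by rw [mul_comm]; exact hu n) h1).symm
  exact isUnit_iff_exists_inv.2 ⟨t, sec_ext fun n => by rw [map_mul, ht, hu, map_one]⟩

/-- Where the bottom-level image of a section is invertible, so is the section. -/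
theorem exists_isUnit_res {U : (𝔛.X 0).Opens} (s : Sec 𝔛 h U) (x : 𝔛.X 0)
    (hx : x ∈ 𝔛.lvU h 0 U) (hs : IsUnit ((𝔛.X 0).presheaf.germ _ x hx (proj 𝔛 h U 0 s))) :
    ∃ (V : (𝔛.X 0).Opens) (i : V ≤ U), x ∈ V ∧ IsUnit (res 𝔛 h i s) := by
  have hlv : ∀ W : (𝔛.X 0).Opens, 𝔛.lvU h 0 W = W := fun W => by
    change (Opens.map (𝔛.gInv h 0)).obj W = W
    have h0 : 𝔛.gInv h 0 = 𝟙 _ := by
      have := 𝔛.toX_base_gInv h 0
      simpa [Sys.toX] using this
    rw [h0]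
    rfl
  obtain ⟨V, hxV, hV⟩ : ∃ V : (𝔛.X 0).Opens, x ∈ V ∧
      V = (𝔛.X 0).basicOpen (proj 𝔛 h U 0 s) := ⟨_, ((𝔛.X 0).mem_basicOpen _ _ hx).2 hs, rfl⟩
  have hVU : V ≤ U := hV ▸ ((𝔛.X 0).basicOpen_le _).trans (hlv U).le
  refine ⟨V, hVU, hxV, (isUnit_sec_iff _).2 ?_⟩
  rw [proj_res_apply]
  refine (𝔛.X 0).toRingedSpace.isUnit_of_isUnit_germ _ _ fun z hz => ?_
  refine ((𝔛.X 0).mem_basicOpen _ _ hz).1 ?_
  rw [(𝔛.X 0).basicOpen_res]
  exact ⟨hz, hV ▸ (hlv V).le hz⟩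

/-- If finitely many products of sections sum to `1`, one factor is invertible near a given
point. -/
theorem exists_isUnit_of_sum_eq_one {U : (𝔛.X 0).Opens} {α : Type*} (t : Finset α)
    (c d : α → Sec 𝔛 h U) (hsum : ∑ a ∈ t, c a * d a = 1) (x : 𝔛.X 0) (hx : x ∈ 𝔛.lvU h 0 U) :
    ∃ a ∈ t, ∃ (V : (𝔛.X 0).Opens) (i : V ≤ U), x ∈ V ∧ IsUnit (res 𝔛 h i (d a)) := by
  set g := ((𝔛.X 0).presheaf.germ _ x hx).hom.comp (proj 𝔛 h U 0).hom
  have h1 := congrArg g hsum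
  rw [map_one, map_sum] at h1
  by_contra hc
  push Not at hc
  have : (∑ a ∈ t, g (c a * d a)) ∈ nonunits ((𝔛.X 0).presheaf.stalk x) := by
    refine Finset.sum_induction _ (· ∈ nonunits ((𝔛.X 0).presheaf.stalk x))
      (fun a b => IsLocalRing.nonunits_add) (zero_mem_nonunits.2 zero_ne_one) fun a ha => ?_
    rw [map_mul]
    intro hu
    obtain ⟨V, i, hxV, hV⟩ := exists_isUnit_res (d a) x hx (isUnit_of_mul_isUnit_right hu)
    exact hc a ha V i hxV hV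
  exact this (h1 ▸ isUnit_one)

/-! ### Families of morphisms to an affine scheme -/

variable {A : CommRingCat.{u}} (q : ∀ n, 𝔛.X n ⟶ Spec A) (hq : ∀ n, 𝔛.ι n ≫ q (n + 1) = q n)

variable (h) in
/-- The ring map into global sections given by a compatible family of morphisms to `Spec A`. -/
noncomputable def famHom : A ⟶ Sec 𝔛 h ⊤ :=
  (Scheme.ΓSpecIso A).inv ≫ (schSharp 𝔛 h q hq).hom.app (op ⊤)

set_option backward.isDefEq.respectTransparency false in
theorem famHom_proj (n : ℕ) :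
    famHom h q hq ≫ proj 𝔛 h ⊤ n = (Scheme.ΓSpecIso A).inv ≫ (q n).appTop := by
  rw [famHom, Category.assoc]
  exact congrArg (_ ≫ ·) ((schSharp_proj_app q hq ⊤ n).trans (Scheme.Hom.app_eq_appLE _).symm)

set_option backward.isDefEq.respectTransparency false in
theorem toSpecO_famHom (W : (𝔛.X 0).Opens) (n : ℕ) :
    toSpecO 𝔛 h W n ≫ Spec.map (famHom h q hq ≫ res 𝔛 h le_top) = (𝔛.lvU h n W).ι ≫ q n := by
  rw [toSpecO, Category.assoc, ← Spec.map_comp, Category.assoc, proj_res, ← Category.assoc,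
    famHom_proj]
  simp only [Category.assoc, Spec.map_comp]
  erw [Scheme.Opens.toSpecΓ_SpecMap_presheaf_map_top_assoc]
  rw [← Scheme.toSpecΓ_naturality_assoc, toSpecΓ_SpecMap_ΓSpecIso_inv, Category.comp_id]

theorem toSpecΓ_SpecMap_injective {X : Scheme.{u}} (U : X.Opens) {C : CommRingCat.{u}}
    {a b : C ⟶ Γ(X, U)} (e : U.toSpecΓ ≫ Spec.map a = U.toSpecΓ ≫ Spec.map b) : a = b := by
  have := congrArg Scheme.Hom.appTop e
  simp only [Scheme.Hom.comp_appTop, Scheme.Opens.toSpecΓ_appTop, Scheme.ΓSpecIso_naturality_assoc,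
    cancel_epi] at this
  exact (cancel_mono U.topIso.inv).1 this

/-- A ring map into sections is determined by the morphisms it induces. -/
theorem hom_sec_ext_toSpecO {W : (𝔛.X 0).Opens} {C : CommRingCat.{u}} {a b : C ⟶ Sec 𝔛 h W}
    (e : ∀ n, toSpecO 𝔛 h W n ≫ Spec.map a = toSpecO 𝔛 h W n ≫ Spec.map b) : a = b := by
  refine hom_ext_sec fun n => toSpecΓ_SpecMap_injective (𝔛.lvU h n W) ?_
  have := e n
  simp only [toSpecO, Category.assoc, ← Spec.map_comp] at this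
  exact this

/-! ### Generators of inverse image ideals -/

theorem genOn_schIdealMap {Y : Scheme.{u}} (p : ∀ n, 𝔛.X n ⟶ Y)
    (hp : ∀ n, 𝔛.ι n ≫ p (n + 1) = p n) (𝓘 : Y.IdealSheafData) (V : Y.affineOpens) :
    GenOn (FBlow.schIdealMap 𝔛 h p hp (FBlow.IdealSh.ofData 𝓘)) (p 0 ⁻¹ᵁ V.1)
      ((schSharp 𝔛 h p hp).hom.app (op V.1) '' (𝓘.ideal V : Set Γ(Y, V.1))) :=
  (genOn_ofData 𝓘 V).map (p 0).base (schSharp 𝔛 h p hp)

theorem genOn_schIdealMap_spec (𝔞 : Ideal A) :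
    GenOn (FBlow.schIdealMap 𝔛 h q hq (FBlow.IdealSh.ofData (idealSpec A 𝔞))) ⊤
      (famHom h q hq '' (𝔞 : Set A)) := by
  have key := genOn_schIdealMap (h := h) q hq (idealSpec A 𝔞) ⟨⊤, isAffineOpen_top _⟩
  have e : ((idealSpec A 𝔞).ideal ⟨⊤, isAffineOpen_top _⟩ : Set Γ(Spec A, ⊤)) =
      (Scheme.ΓSpecIso A).inv '' (𝔞 : Set A) := by
    ext s
    have hk : s ∈ (idealSpec A 𝔞).ideal ⟨⊤, isAffineOpen_top _⟩ ↔
        (Scheme.ΓSpecIso A).hom s ∈ 𝔞 := by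
      rw [idealSpec, Scheme.Hom.ker_apply, RingHom.mem_ker]
      have h2 := congrArg (fun φ => φ s) (Scheme.ΓSpecIso_naturality
        (CommRingCat.ofHom (Ideal.Quotient.mk 𝔞)))
      rw [← Ideal.Quotient.eq_zero_iff_mem]
      exact (map_eq_zero_iff _
        (Scheme.ΓSpecIso (CommRingCat.of (A ⧸ 𝔞))).commRingCatIsoToRingEquiv.injective).symm.trans
          (iff_of_eq (congrArg (· = 0) h2))
    rw [SetLike.mem_coe, hk]
    refine ⟨fun hs => ⟨_, hs, ?_⟩, ?_⟩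
    · rw [← CommRingCat.comp_apply, Iso.hom_inv_id]; rfl
    · rintro ⟨a, ha, rfl⟩
      rw [← CommRingCat.comp_apply, Iso.inv_hom_id]
      exact ha
  rw [e] at key
  erw [Set.image_image] at key
  exact key

theorem genOn_idealMap {𝔜 : Sys.{u}} {hY : 𝔜.IsFormal} (f : 𝔜 ⟶ 𝔛) {J : FBlow.IdealSh (𝔛.Osh h)}
    {U : (𝔛.X 0).Opens} {S : Set (Sec 𝔛 h U)} (hJ : GenOn J U S) :
    GenOn (FBlow.idealMap f hY h J) ((f : Hom 𝔜 𝔛).app 0 ⁻¹ᵁ U)
      ((Hom.sharp f hY h).hom.app (op U) '' S) :=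
  hJ.map ((f : Hom 𝔜 𝔛).app 0).base (Hom.sharp f hY h)

end Groth.Agent.FBlow13
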