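import Groth.Agent.FBlow13.Admissible

/-!
The local admissible formal blow-up over an affine open.
-/

set_option autoImplicit false

universe u

open CategoryTheory CategoryTheory.Limits AlgebraicGeometry TopologicalSpace Opposite

namespace Groth.Agent.FBlow13

open _root_.FSch

section ModelSys

variable {S P : Scheme.{u}} {𝔖 : Sys.{u}} (c : ∀ n, 𝔖.X n ⟶ S)
  (hc : ∀ n, 𝔖.ι n ≫ c (n + 1) = c n) (π : P ⟶ S)

/-- The levelwise base change of `π`. -/
noncomputable def modelSys : Sys.{u} where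
  X n := pullback (c n) π
  ι n := pullback.map (c n) π (c (n + 1)) π (𝔖.ι n) (𝟙 P) (𝟙 S)
    (by rw [Category.comp_id, hc]) (by rw [Category.id_comp, Category.comp_id])

/-- The projection of the levelwise base change. -/
noncomputable def modelProj : modelSys c hc π ⟶ 𝔖 :=
  ⟨fun n => pullback.fst (c n) π, fun n => (pullback.lift_fst _ _ _).symm⟩

/-- The maps of the levelwise base change to `P`. -/
noncomputable def modelTo (n : ℕ) : (modelSys c hc π).X n ⟶ P := pullback.snd (c n) π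

theorem modelTo_comm (n : ℕ) :
    (modelSys c hc π).ι n ≫ modelTo c hc π (n + 1) = modelTo c hc π n :=
  (pullback.lift_snd _ _ _).trans (Category.comp_id _)

theorem modelProj_sq (n : ℕ) :
    IsPullback ((modelProj c hc π : Hom _ _).app n) (modelTo c hc π n) (c n) π :=
  IsPullback.of_hasPullback _ _

theorem isAdicHom_modelProj : IsAdicHom (modelProj c hc π) := fun n => by
  have h1 : IsPullback ((modelSys c hc π).ι n ≫ modelTo c hc π (n + 1))
      ((modelProj c hc π : Hom _ _).app n) π (𝔖.ι n ≫ c (n + 1)) := by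
    rw [modelTo_comm, hc]
    exact (modelProj_sq c hc π n).flip
  exact IsPullback.of_right h1 ((modelProj c hc π : Hom _ _).comm n).symm
    (modelProj_sq c hc π (n + 1)).flip

theorem isFormal_modelSys (h : 𝔖.IsFormal) : (modelSys c hc π).IsFormal :=
  An92.FSch.isFormal_of_isAdicHom h (isAdicHom_modelProj c hc π)

end ModelSys

variable {R : Type u} [CommRing R] {I : Ideal R} {𝔛 : Sys.{u}} {h : 𝔛.IsFormal}
  {p : 𝔛 ⟶ FSch.spf R I}

/-- The levelwise base change of the blow-up of the spectrum of the ring of sections of an affine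
open is an admissible formal blow-up over this open. -/
theorem isBlowUpOver_model (hp : IsAdicHom p) (hR : AdicRing.IsBase R I)
    (hfp : ∀ n, LocallyOfFinitePresentation ((p : Hom 𝔛 (FSch.spf R I)).app n))
    (htf : ∀ (U : (𝔛.X 0).Opens) (s : (𝔛.Osh h).obj.obj (op U)),
      (∀ a ∈ (FBlow.IdealSh.ker (𝔛.OshProj h 0)).sect U, a * s = 0) → s = 0)
    {U : (𝔛.X 0).Opens} (hU : IsAffineOpen U) {J : FBlow.IdealSh (𝔛.Osh h)}
    {𝔞 : Ideal (Sec 𝔛 h U)} (hgen : GenOn J U (𝔞 : Set (Sec 𝔛 h U))) (hfg : 𝔞.FG) {P : Scheme.{u}}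
    (π : P ⟶ Spec (Sec 𝔛 h U)) (hπ : BlowUp.IsBlowUp π (idealSpec (Sec 𝔛 h U) 𝔞)) :
    IsBlowUpOver h U J
      (isFormal_modelSys (𝔖 := 𝔛.restrictOpen h U) (toSpecO 𝔛 h U) (toSpecO_comm U) π
        (isFormal_restrictOpen h U))
      (modelProj (𝔖 := 𝔛.restrictOpen h U) (toSpecO 𝔛 h U) (toSpecO_comm U) π ≫
        𝔛.restrictOpenι h U) := by
  let := (baseSec h p U).hom.toAlgebra
  have hA := admissible_sec (h := h) hp hR hfp htf hU
  have hAT : AdicRing.TopFiniteType R I (Sec 𝔛 h U) := hA.1.imp fun _ e => e.imp fun _ e => e.1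
  have hUf := isFormal_restrictOpen h U
  refine isBlowUpOver_of_open hgen (hU := hUf) ?_
  exact isAdmBlowUp_of_model (h := hUf) hR (A := Sec 𝔛 h U) hAT (toSpecO 𝔛 h U) (toSpecO_comm U)
    (fun n => (isClosedImmersion_toSpecO hp hR hU n).1)
    (fun n => (isClosedImmersion_toSpecO hp hR hU n).2) 𝔞 π hπ
    (locPrincipalFT_of_isBlowUp π hπ hfg) _
    (modelTo (𝔖 := 𝔛.restrictOpen h U) (toSpecO 𝔛 h U) (toSpecO_comm U) π)
    (modelTo_comm (𝔖 := 𝔛.restrictOpen h U) (toSpecO 𝔛 h U) (toSpecO_comm U) π) _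
    (modelProj_sq (𝔖 := 𝔛.restrictOpen h U) (toSpecO 𝔛 h U) (toSpecO_comm U) π)

/-- Over an affine open on which the coherent open ideal is given by ideal data on a level there is
an admissible formal blow-up. -/
theorem exists_isBlowUpOver (hp : IsAdicHom p) (hR : AdicRing.IsBase R I)
    (hfp : ∀ n, LocallyOfFinitePresentation ((p : Hom 𝔛 (FSch.spf R I)).app n))
    (htf : ∀ (U : (𝔛.X 0).Opens) (s : (𝔛.Osh h).obj.obj (op U)),
      (∀ a ∈ (FBlow.IdealSh.ker (𝔛.OshProj h 0)).sect U, a * s = 0) → s = 0)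
    {U : (𝔛.X 0).Opens} (hU : IsAffineOpen U) {J : FBlow.IdealSh (𝔛.Osh h)}
    (hgen : GenOn J U (J.sect U : Set (Sec 𝔛 h U))) (hfg : (J.sect U).FG) :
    ∃ (𝔓 : Sys.{u}) (hP : 𝔓.IsFormal) (b : 𝔓 ⟶ 𝔛), IsBlowUpOver h U J hP b := by
  obtain ⟨P, π, hπ⟩ := exists_isBlowUp_spec (J.sect U)
  exact ⟨_, _, _, isBlowUpOver_model hp hR hfp htf hU hgen hfg π hπ⟩

end Groth.Agent.FBlow13
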