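import Groth.Agent.FBlow13.Local

/-!
Functoriality of inverse image ideals, and invertibility along open immersions of formal systems.
-/

set_option autoImplicit false

universe u

open CategoryTheory CategoryTheory.Limits AlgebraicGeometry TopologicalSpace Opposite

namespace Groth.Agent.FBlow13

open FBlow

section Sheaf

variable {T T' : TopCat.{u}} {O : Sheaf (Opens.grothendieckTopology T) CommRingCat.{u}}
  {O' : Sheaf (Opens.grothendieckTopology T') CommRingCat.{u}} (g : T' ⟶ T)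
  (φ : O ⟶ (TopCat.Sheaf.pushforward CommRingCat.{u} g).obj O')

/-- The sections whose images lie in `K`. -/
noncomputable def preIdeal (K : IdealSh O') : IdealSh O where
  sect W := (K.sect ((Opens.map g).obj W)).comap (appMap g φ W).hom
  map_mem {U V} i s hs := by
    rw [Ideal.mem_comap] at hs ⊢
    change appMap g φ V (rs O i s) ∈ _
    rw [appMap_rs]
    exact K.map_mem _ hs
  mem_of_local {U s} hs := by
    rw [Ideal.mem_comap]
    refine K.mem_of_local fun y hy => ?_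
    obtain ⟨V, i, hV, hVs⟩ := hs (g y) hy
    refine ⟨(Opens.map g).obj V, fun z hz => i hz, hV, ?_⟩
    rw [Ideal.mem_comap] at hVs
    change appMap g φ V (rs O i s) ∈ _ at hVs
    rwa [appMap_rs] at hVs

theorem map_le_iff {J : IdealSh O} {K : IdealSh O'} :
    IdealSh.map g φ J ≤ K ↔ J ≤ preIdeal g φ K := by
  refine ⟨fun hle W a ha => ?_, fun hle => IdealSh.map_le fun W a ha V j => K.map_mem j (hle W ha)⟩
  have := hle _ (IdealSh.image_mem_map g φ J ha (V := (Opens.map g).obj W) le_rfl)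
  refine Ideal.mem_comap.2 (Eq.mp (congrArg (fun z => z ∈ K.sect ((Opens.map g).obj W))
    (IdealSh.map_id_apply (O := O') le_rfl (appMap g φ W a))) this)

theorem idealSh_le_antisymm {J K : IdealSh O} (h₁ : J ≤ K) (h₂ : K ≤ J) : J = K :=
  IdealSh.ext (funext fun U => le_antisymm (h₁ U) (h₂ U))

end Sheaf

open _root_.FSch

variable {𝔛 𝔜 ℨ : Sys.{u}} {h : 𝔛.IsFormal} {hY : 𝔜.IsFormal} {hZ : ℨ.IsFormal}

theorem sharpLE_sharpLE (f : ℨ ⟶ 𝔜) (g : 𝔜 ⟶ 𝔛) {U : (𝔛.X 0).Opens} {V : (𝔜.X 0).Opens}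
    {W : (ℨ.X 0).Opens} (e₁ : V ≤ (g : Hom 𝔜 𝔛).app 0 ⁻¹ᵁ U) (e₂ : W ≤ (f : Hom ℨ 𝔜).app 0 ⁻¹ᵁ V)
    (e₃ : W ≤ ((f ≫ g : ℨ ⟶ 𝔛) : Hom ℨ 𝔛).app 0 ⁻¹ᵁ U) :
    sharpLE (hY := hY) (h := h) g e₁ ≫ sharpLE (hY := hZ) (h := hY) f e₂ =
      sharpLE (hY := hZ) (h := h) (f ≫ g) e₃ := by
  refine hom_ext_sec fun n => ?_
  rw [Category.assoc, sharpLE_proj, ← Category.assoc, sharpLE_proj, Category.assoc,
    Scheme.Hom.appLE_comp_appLE, sharpLE_proj]
  rfl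

theorem sharpLE_res (f : 𝔜 ⟶ 𝔛) {U : (𝔛.X 0).Opens} {V V' : (𝔜.X 0).Opens}
    (e : V ≤ (f : Hom 𝔜 𝔛).app 0 ⁻¹ᵁ U) (i : V' ≤ V) (s : Sec 𝔛 h U) :
    res 𝔜 hY i (sharpLE (hY := hY) (h := h) f e s) =
      sharpLE (hY := hY) (h := h) f (i.trans e) s :=
  IdealSh.map_comp_apply (O := 𝔜.Osh hY) e i _

theorem sharpLE_res_left (f : 𝔜 ⟶ 𝔛) {U U' : (𝔛.X 0).Opens} {V : (𝔜.X 0).Opens} (i : U' ≤ U)
    (e : V ≤ (f : Hom 𝔜 𝔛).app 0 ⁻¹ᵁ U') (s : Sec 𝔛 h U) :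
    sharpLE (hY := hY) (h := h) f e (res 𝔛 h i s) =
      sharpLE (hY := hY) (h := h) f (e.trans (Scheme.Hom.preimage_mono _ i)) s := by
  have h1 := appMap_rs ((f : Hom 𝔜 𝔛).app 0).base (Hom.sharp f hY h) i s
  exact (congrArg (res 𝔜 hY e) h1).trans (IdealSh.map_comp_apply (O := 𝔜.Osh hY) _ e _)

theorem sharpLE_mem_idealMap (f : 𝔜 ⟶ 𝔛) {J : IdealSh (𝔛.Osh h)} {U : (𝔛.X 0).Opens}
    {V : (𝔜.X 0).Opens} (e : V ≤ (f : Hom 𝔜 𝔛).app 0 ⁻¹ᵁ U) {a : Sec 𝔛 h U} (ha : a ∈ J.sect U) :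
    sharpLE (hY := hY) (h := h) f e a ∈ (FBlow.idealMap f hY h J).sect V :=
  IdealSh.image_mem_map ((f : Hom 𝔜 𝔛).app 0).base (Hom.sharp f hY h) J ha e

theorem idealMap_le {f : 𝔜 ⟶ 𝔛} {J : IdealSh (𝔛.Osh h)} {K : IdealSh (𝔜.Osh hY)}
    (hK : ∀ (U : (𝔛.X 0).Opens) (V : (𝔜.X 0).Opens) (e : V ≤ (f : Hom 𝔜 𝔛).app 0 ⁻¹ᵁ U)
      (a : Sec 𝔛 h U), a ∈ J.sect U → sharpLE (hY := hY) (h := h) f e a ∈ K.sect V) :
    FBlow.idealMap f hY h J ≤ K :=
  IdealSh.map_le fun U a ha V j => hK U V j a ha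

/-- Inverse images of ideals compose. -/
theorem idealMap_comp (f : ℨ ⟶ 𝔜) (g : 𝔜 ⟶ 𝔛) (J : IdealSh (𝔛.Osh h)) :
    FBlow.idealMap (f ≫ g) hZ h J = FBlow.idealMap f hZ hY (FBlow.idealMap g hY h J) := by
  refine idealSh_le_antisymm (idealMap_le fun U W e a ha => ?_)
    ((map_le_iff _ _).2 (idealMap_le fun U V e₁ a ha => ?_))
  · rw [← sharpLE_sharpLE (hY := hY) f g le_rfl e e]
    exact sharpLE_mem_idealMap f e (sharpLE_mem_idealMap g le_rfl ha)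
  · rw [preIdeal, Ideal.mem_comap]
    have e₂ : (f : Hom ℨ 𝔜).app 0 ⁻¹ᵁ V ≤ (f : Hom ℨ 𝔜).app 0 ⁻¹ᵁ V := le_rfl
    have e₃ : (f : Hom ℨ 𝔜).app 0 ⁻¹ᵁ V ≤ ((f ≫ g : ℨ ⟶ 𝔛) : Hom ℨ 𝔛).app 0 ⁻¹ᵁ U :=
      fun z hz => e₁ hz
    have h1 := sharpLE_mem_idealMap (hY := hZ) (f ≫ g) e₃ ha
    rw [← sharpLE_sharpLE (hY := hY) f g e₁ e₂ e₃] at h1
    have h2 : sharpLE (hY := hZ) (h := hY) f e₂ (sharpLE (hY := hY) (h := h) g e₁ a) =
        (Hom.sharp f hZ hY).hom.app (op V) (sharpLE (hY := hY) (h := h) g e₁ a) :=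
      IdealSh.map_id_apply (O := ℨ.Osh hZ) le_rfl _
    exact h2 ▸ h1

/-! ### Open immersions of formal systems -/

/-- A morphism of systems which is an open immersion at every level. -/
def OpenImm (f : 𝔜 ⟶ 𝔛) : Prop := ∀ n, IsOpenImmersion ((f : Hom 𝔜 𝔛).app n)

theorem openImm_restrictOpenι (U : (𝔛.X 0).Opens) : OpenImm (𝔛.restrictOpenι h U) :=
  fun n => inferInstanceAs (IsOpenImmersion (𝔛.lvU h n U).ι)

variable {f : 𝔜 ⟶ 𝔛}

/-- The image of an open. -/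
noncomputable def OpenImm.img (hf : OpenImm f) (V : (𝔜.X 0).Opens) : (𝔛.X 0).Opens :=
  have := hf 0
  (f : Hom 𝔜 𝔛).app 0 ''ᵁ V

theorem OpenImm.preimage_img (hf : OpenImm f) (V : (𝔜.X 0).Opens) :
    (f : Hom 𝔜 𝔛).app 0 ⁻¹ᵁ hf.img V = V :=
  have := hf 0
  ((f : Hom 𝔜 𝔛).app 0).preimage_image_eq V

theorem OpenImm.le_preimage_img (hf : OpenImm f) (V : (𝔜.X 0).Opens) :
    V ≤ (f : Hom 𝔜 𝔛).app 0 ⁻¹ᵁ hf.img V :=
  (hf.preimage_img V).ge

theorem OpenImm.img_le (hf : OpenImm f) {U : (𝔛.X 0).Opens} {V : (𝔜.X 0).Opens}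
    (e : V ≤ (f : Hom 𝔜 𝔛).app 0 ⁻¹ᵁ U) : hf.img V ≤ U := by
  rintro _ ⟨y, hy, rfl⟩
  exact e hy

theorem OpenImm.img_mono (hf : OpenImm f) {V V' : (𝔜.X 0).Opens} (i : V' ≤ V) :
    hf.img V' ≤ hf.img V :=
  hf.img_le (i.trans (hf.le_preimage_img V))

theorem OpenImm.lvU_img_le (hf : OpenImm f) (V : (𝔜.X 0).Opens) (n : ℕ) :
    (𝔛.lvU h n (hf.img V) : Set (𝔛.X n)) ⊆ Set.range ((f : Hom 𝔜 𝔛).app n) := by
  intro x hx
  obtain ⟨z, rfl⟩ := 𝔛.toX_surjective h n x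
  have hz : z ∈ hf.img V := (toX_preimage_lvU (h := h) n (hf.img V)).le hx
  obtain ⟨y, -, rfl⟩ := hz
  refine ⟨(𝔜.toX n) y, ?_⟩
  exact ((Scheme.Hom.comp_apply _ _ _).symm.trans
    (congrArg (fun φ : 𝔜.X 0 ⟶ 𝔛.X n => φ y) (Hom.toX_comm f n))).trans (Scheme.Hom.comp_apply _ _ _)

/-- The levelwise maps of sections between an open and its image are isomorphisms. -/
theorem OpenImm.isIso_appLE (hf : OpenImm f) (V : (𝔜.X 0).Opens) (n : ℕ) :
    IsIso (((f : Hom 𝔜 𝔛).app n).appLE (𝔛.lvU h n (hf.img V)) (𝔜.lvU hY n V)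
      (lvU_le_preimage f (hf.le_preimage_img V) n)) := by
  have := hf n
  have e : 𝔜.lvU hY n V = (f : Hom 𝔜 𝔛).app n ⁻¹ᵁ 𝔛.lvU h n (hf.img V) := by
    rw [Hom.lvU_preimage f hY h n (hf.img V), hf.preimage_img]
  have := ((f : Hom 𝔜 𝔛).app n).isIso_app (𝔛.lvU h n (hf.img V)) (hf.lvU_img_le V n)
  have e' : ((f : Hom 𝔜 𝔛).app n).appLE (𝔛.lvU h n (hf.img V)) (𝔜.lvU hY n V)
      (lvU_le_preimage f (hf.le_preimage_img V) n) =
      ((f : Hom 𝔜 𝔛).app n).app (𝔛.lvU h n (hf.img V)) ≫ (𝔜.X n).presheaf.map (eqToHom e).op := by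
    rw [Scheme.Hom.appLE]
    rfl
  rw [e']
  infer_instance

/-- Sections over an open are those over its image. -/
theorem OpenImm.sharpLE_bijective (hf : OpenImm f) (V : (𝔜.X 0).Opens) :
    Function.Bijective (sharpLE (hY := hY) (h := h) f (hf.le_preimage_img V)) := by
  have hp : ∀ n (s : Sec 𝔛 h (hf.img V)),
      proj 𝔜 hY V n (sharpLE (hY := hY) (h := h) f (hf.le_preimage_img V) s) =
        ((f : Hom 𝔜 𝔛).app n).appLE (𝔛.lvU h n (hf.img V)) (𝔜.lvU hY n V)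
          (lvU_le_preimage f (hf.le_preimage_img V) n) (proj 𝔛 h (hf.img V) n s) :=
    fun n s => ConcreteCategory.congr_hom
      (sharpLE_proj (hY := hY) (h := h) f (hf.le_preimage_img V) n) s
  have bij := fun n => have := hf.isIso_appLE (hY := hY) (h := h) V n
    ConcreteCategory.bijective_of_isIso (((f : Hom 𝔜 𝔛).app n).appLE
      (𝔛.lvU h n (hf.img V)) (𝔜.lvU hY n V) (lvU_le_preimage f (hf.le_preimage_img V) n))
  refine ⟨fun s t e => sec_ext fun n => (bij n).1 ?_, fun t => ?_⟩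
  · rw [← hp, ← hp, e]
  · choose a ha using fun n => (bij n).2 (proj 𝔜 hY V n t)
    obtain ⟨s, hs⟩ := exists_sec (hf.img V) a fun n => (bij n).1 (by
      rw [ha, ← proj_succ_apply V n t, ← ha (n + 1), ← CommRingCat.comp_apply,
        ← CommRingCat.comp_apply]
      congr 2
      rw [Scheme.Hom.appLE_comp_appLE, Scheme.Hom.appLE_comp_appLE]
      simp only [(f : Hom 𝔜 𝔛).comm n])
    exact ⟨s, sec_ext fun n => by rw [hp, hs, ha]⟩

/-- The transported ideal sheaf on the source of an open immersion. -/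
noncomputable def OpenImm.trans (hf : OpenImm f) (hY : 𝔜.IsFormal) (K : IdealSh (𝔛.Osh h)) :
    IdealSh (𝔜.Osh hY) where
  sect V := (K.sect (hf.img V)).map (sharpLE (hY := hY) (h := h) f (hf.le_preimage_img V)).hom
  map_mem {V V'} i t ht := by
    rw [Ideal.mem_map_iff_of_surjective _ (hf.sharpLE_bijective (hY := hY) (h := h) V).2] at ht
    obtain ⟨s, hs, rfl⟩ := ht
    have h1 := sharpLE_res (hY := hY) (h := h) f (hf.le_preimage_img V) i s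
    have h2 := sharpLE_res_left (hY := hY) (h := h) f (hf.img_mono i) (hf.le_preimage_img V') s
    exact (h1.trans h2.symm) ▸ Ideal.mem_map_of_mem _ (K.map_mem (hf.img_mono i) hs)
  mem_of_local {V t} ht := by
    obtain ⟨s, rfl⟩ := (hf.sharpLE_bijective (hY := hY) (h := h) V).2 t
    refine Ideal.mem_map_of_mem _ (K.mem_of_local fun x hx => ?_)
    obtain ⟨y, hy, rfl⟩ := hx
    obtain ⟨V', i, hyV', hV'⟩ := ht y hy
    refine ⟨hf.img V', hf.img_mono i, ⟨y, hyV', rfl⟩, ?_⟩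
    rw [Ideal.mem_map_iff_of_surjective _ (hf.sharpLE_bijective (hY := hY) (h := h) V').2] at hV'
    obtain ⟨s', hs', e⟩ := hV'
    have h1 := sharpLE_res (hY := hY) (h := h) f (hf.le_preimage_img V) i s
    have h2 := sharpLE_res_left (hY := hY) (h := h) f (hf.img_mono i) (hf.le_preimage_img V') s
    exact (hf.sharpLE_bijective (hY := hY) (h := h) V').1 (e.trans (h1.trans h2.symm)) ▸ hs'

theorem OpenImm.idealMap_eq (hf : OpenImm f) (K : IdealSh (𝔛.Osh h)) :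
    FBlow.idealMap f hY h K = hf.trans hY K := by
  refine idealSh_le_antisymm (idealMap_le fun U V e a ha => ?_)
    fun V => Ideal.map_le_iff_le_comap.2 fun a ha => ?_
  · rw [← sharpLE_res_left (hY := hY) (h := h) f (hf.img_le e) (hf.le_preimage_img V) a]
    exact Ideal.mem_map_of_mem _ (K.map_mem (hf.img_le e) ha)
  · exact Ideal.mem_comap.2 (sharpLE_mem_idealMap (hY := hY) (h := h) (J := K) f
      (hf.le_preimage_img V) ha)

/-- Invertibility is local, along open immersions. -/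
theorem OpenImm.invAt_idealMap_iff (hf : OpenImm f) (K : IdealSh (𝔛.Osh h)) (y : 𝔜.X 0) :
    InvAt (FBlow.idealMap f hY h K) y ↔ InvAt K ((f : Hom 𝔜 𝔛).app 0 y) := by
  rw [hf.idealMap_eq]
  let σ := fun V : (𝔜.X 0).Opens => sharpLE (hY := hY) (h := h) f (hf.le_preimage_img V)
  have hmem : ∀ {V : (𝔜.X 0).Opens} {s : Sec 𝔛 h (hf.img V)},
      σ V s ∈ (hf.trans hY K).sect V ↔ s ∈ K.sect (hf.img V) := fun {V s} => by
    refine ⟨fun hs => ?_, Ideal.mem_map_of_mem _⟩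
    obtain ⟨s', hs', e⟩ := (Ideal.mem_map_iff_of_surjective _ (hf.sharpLE_bijective (hY := hY) (h := h) V).2).1 hs
    exact (hf.sharpLE_bijective (hY := hY) (h := h) V).1 e ▸ hs'
  have hres : ∀ {V V' : (𝔜.X 0).Opens} (i : V' ≤ V) (s : Sec 𝔛 h (hf.img V)),
      res 𝔜 hY i (σ V s) = σ V' (res 𝔛 h (hf.img_mono i) s) := fun {V V'} i s =>
    (sharpLE_res (hY := hY) (h := h) f (hf.le_preimage_img V) i s).trans
      (sharpLE_res_left (hY := hY) (h := h) f (hf.img_mono i) (hf.le_preimage_img V') s).symm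
  constructor
  · rintro ⟨U, hyU, g, hg, hU⟩
    obtain ⟨g₀, rfl⟩ := (hf.sharpLE_bijective (hY := hY) (h := h) U).2 g
    refine ⟨hf.img U, ⟨y, hyU, rfl⟩, g₀, hmem.1 hg, fun W i => ?_⟩
    obtain ⟨V, i', rfl⟩ : ∃ (V : (𝔜.X 0).Opens) (_ : V ≤ U), W = hf.img V := by
      refine ⟨(f : Hom 𝔜 𝔛).app 0 ⁻¹ᵁ W,
        (Scheme.Hom.preimage_mono _ i).trans (hf.preimage_img U).le, le_antisymm ?_ (hf.img_le le_rfl)⟩
      intro x hx
      obtain ⟨z, -, rfl⟩ := i hx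
      exact ⟨z, hx, rfl⟩
    have h1 := hU V i'
    refine ⟨fun t ht => (hf.sharpLE_bijective (hY := hY) (h := h) V).1 ((h1.1 (σ V t) ?_).trans (map_zero _).symm),
      fun s hs => ?_⟩
    · have := congrArg (σ V) ht
      rw [map_mul, map_zero] at this
      exact (congrArg (σ V t * ·) (hres i' g₀)).trans this
    · obtain ⟨t, ht⟩ := h1.2 _ (hmem.2 hs)
      obtain ⟨t₀, rfl⟩ := (hf.sharpLE_bijective (hY := hY) (h := h) V).2 t
      refine ⟨t₀, (hf.sharpLE_bijective (hY := hY) (h := h) V).1 ?_⟩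
      rw [map_mul]
      exact ht.trans (congrArg (_ * ·) (hres i' g₀))
  · rintro ⟨U, hyU, g, hg, hU⟩
    have i₀ : hf.img ((f : Hom 𝔜 𝔛).app 0 ⁻¹ᵁ U) ≤ U := hf.img_le le_rfl
    refine ⟨(f : Hom 𝔜 𝔛).app 0 ⁻¹ᵁ U, hyU, σ _ (res 𝔛 h i₀ g), hmem.2 (K.map_mem i₀ hg),
      fun V i => ?_⟩
    have h1 := hU (hf.img V) ((hf.img_mono i).trans i₀)
    have e : rs (𝔜.Osh hY) i (σ _ (res 𝔛 h i₀ g)) = σ V (res 𝔛 h ((hf.img_mono i).trans i₀) g) :=
      (hres i _).trans (congrArg (σ V) (IdealSh.map_comp_apply (O := 𝔛.Osh h) i₀ _ g))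
    refine ⟨fun t ht => ?_, fun s hs => ?_⟩
    · obtain ⟨t₀, rfl⟩ := (hf.sharpLE_bijective (hY := hY) (h := h) V).2 t
      rw [e] at ht
      rw [h1.1 t₀ ((hf.sharpLE_bijective (hY := hY) (h := h) V).1 ?_), map_zero]
      rw [map_mul, map_zero]
      exact ht
    · obtain ⟨s₀, rfl⟩ := (hf.sharpLE_bijective (hY := hY) (h := h) V).2 s
      obtain ⟨t, ht⟩ := h1.2 s₀ (hmem.1 hs)
      refine ⟨σ V t, ?_⟩
      rw [e, ← map_mul]
      exact congrArg (σ V) ht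

theorem OpenImm.isInvertible_idealMap (hf : OpenImm f) {K : IdealSh (𝔛.Osh h)}
    (hK : K.IsInvertible) : (FBlow.idealMap f hY h K).IsInvertible :=
  fun y => (hf.invAt_idealMap_iff K y).2 (hK _)

end Groth.Agent.FBlow13
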