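import Groth.Agent.FBlow13.ChartDense
import Groth.Agent.FBlow13.CohOps

/-!
Generators of `J' · (J·O')^n` on an admissible formal blow-up coming from the base.
-/

set_option autoImplicit false

universe u

open CategoryTheory CategoryTheory.Limits AlgebraicGeometry TopologicalSpace Opposite

namespace Groth.Agent.FBlow13

open _root_.FSch

/-- A section of an affine open lying in quasi-coherent ideal data on a basic open lies in it after
multiplication by a power. -/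
theorem exists_pow_mul_mem_ideal {X : Scheme.{u}} (ℬ : X.IdealSheafData) (V : X.affineOpens)
    (φ x : Γ(X, V.1))
    (hx : X.presheaf.map (homOfLE (X.basicOpen_le φ)).op x ∈
      (FBlow.IdealSh.ofData ℬ).sect (X.basicOpen φ)) :
    ∃ l : ℕ, φ ^ l * x ∈ ℬ.ideal V := by
  have h1 := mem_ideal_of_memData ℬ (X.affineBasicOpen φ) hx
  rw [← ℬ.map_ideal_basicOpen V φ] at h1
  let := (X.presheaf.map (homOfLE (X.basicOpen_le φ)).op).hom.toAlgebra
  have := V.2.isLocalization_of_eq_basicOpen φ (homOfLE (X.basicOpen_le φ)) rfl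
  obtain ⟨⟨⟨a, ha⟩, ⟨_, n, rfl⟩⟩, e⟩ :=
    (IsLocalization.mem_map_algebraMap_iff (Submonoid.powers φ) Γ(X, X.basicOpen φ)).mp h1
  have e' : algebraMap Γ(X, V.1) Γ(X, X.basicOpen φ) (x * φ ^ n) = algebraMap _ _ a := by
    rw [map_mul]
    exact e
  obtain ⟨⟨_, m, rfl⟩, hm⟩ := IsLocalization.exists_of_eq (M := Submonoid.powers φ) e'
  refine ⟨m + n, ?_⟩
  have h2 : φ ^ (m + n) * x = φ ^ m * a := by
    change φ ^ m * (x * φ ^ n) = φ ^ m * a at hm
    rw [← hm]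
    ring
  rw [h2]
  exact Ideal.mul_mem_left _ _ ha

/-- Generators of `A ^ n * B` where `A` is generated by one section. -/
theorem genOn_mulPow_singleton {T : TopCat.{u}}
    {O : Sheaf (Opens.grothendieckTopology T) CommRingCat.{u}} {A B : FBlow.IdealSh O} {U : Opens T}
    {g : O.obj.obj (op U)} (hA : GenOn A U {g}) {S : Set (O.obj.obj (op U))} (hB : GenOn B U S) :
    ∀ n, GenOn (mulPow A B n) U ((fun s => g ^ n * s) '' S)
  | 0 => by simpa [mulPow] using hB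
  | n + 1 => by
    refine Eq.mp (congrArg (GenOn (mulPow A B (n + 1)) U) ?_) (hA.mul (genOn_mulPow_singleton hA hB n))
    ext t
    constructor
    · rintro ⟨_, rfl, _, ⟨s, hs, rfl⟩, rfl⟩
      exact ⟨s, hs, by ring⟩
    · rintro ⟨s, hs, rfl⟩
      exact ⟨g, rfl, _, ⟨s, hs, rfl⟩, by ring⟩

variable {R : Type u} [CommRing R] {I : Ideal R} {𝔛 : Sys.{u}} {h : 𝔛.IsFormal}
  {p : 𝔛 ⟶ FSch.spf R I}

set_option backward.isDefEq.respectTransparency false in
/-- Over an affine open of the base some `J' · (J·O')^n` is generated by sections of the base. -/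
theorem exists_pushGen (hp : IsAdicHom p) (hR : AdicRing.IsBase R I)
    (hfp : ∀ n, LocallyOfFinitePresentation ((p : Hom 𝔛 (FSch.spf R I)).app n))
    (htf : ∀ (U : (𝔛.X 0).Opens) (s : (𝔛.Osh h).obj.obj (op U)),
      (∀ a ∈ (FBlow.IdealSh.ker (𝔛.OshProj h 0)).sect U, a * s = 0) → s = 0)
    {U : (𝔛.X 0).Opens} (hU : IsAffineOpen U) {J : FBlow.IdealSh (𝔛.Osh h)}
    (hJ : FBlow.IsCohOpen 𝔛 h J) {𝔓 : Sys.{u}} {hP : 𝔓.IsFormal} {b : 𝔓 ⟶ 𝔛}
    (hb : FBlow.IsAdmBlowUp b hP h J) {J' : FBlow.IdealSh (𝔓.Osh hP)}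
    (hJ' : FBlow.IsCohOpen 𝔓 hP J') :
    ∃ (n : ℕ) (Z : Set (Sec 𝔛 h U)), Z.Finite ∧
      GenOn (mulPow (FBlow.idealMap b hP h J) J' n) ((b : Hom 𝔓 𝔛).app 0 ⁻¹ᵁ U)
        ((Hom.sharp b hP h).hom.app (op U) '' Z) := by
  classical
  have hft : LocallyOfFiniteType ((p : Hom 𝔛 (FSch.spf R I)).app 0) :=
    have := hfp 0
    inferInstance
  have hp' : IsAdicHom (b ≫ p) := isAdicHom_comp hb.1 hp
  have hft' : LocallyOfFiniteType ((b ≫ p : Hom 𝔓 (FSch.spf R I)).app 0) := by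
    have := locallyOfFiniteType_blowUp hp hR hfp htf (locFG_of_isCohOpen hp hR hJ) hb 0
    exact inferInstanceAs (LocallyOfFiniteType (_ ≫ _))
  have hA' := isCohOpen_idealMap (hY := hP) hp hR b hb.1 hft' hJ
  obtain ⟨hgJ, ⟨S₀, hS₀⟩, -⟩ := genOn_of_isCohOpen hp hR hft hJ hU
  let S : Set (Sec 𝔛 h U) := S₀
  have hS : S.Finite := S₀.finite_toSet
  obtain ⟨-, D, e, hcov, hD, hgen, hdense, hover⟩ :=
    exists_charts_over hp hR hfp htf hU hS (hgJ.congr_span ((Ideal.span_eq _).trans hS₀.symm)) hb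
  let σ := fun a => sharpLE (hY := hP) (h := h) b (e a)
  have : Finite S := hS.to_subtype
  have hB : ∀ a, ∃ B : Set (Sec 𝔓 hP (D a)), B.Finite ∧ GenOn J' (D a) B ∧
      ∀ c ∈ B, ∃ (k : ℕ) (z : Sec 𝔛 h U), σ a a.1 ^ k * c = σ a z := by
    intro a
    obtain ⟨hg, ⟨T, hT⟩, N, hN⟩ := genOn_of_isCohOpen (p := b ≫ p) hp' hR hft' hJ' (hD a)
    obtain ⟨Tb, hTb⟩ := Ideal.FG.pow (Frg27.base_fg hR) (n := N + 1)
    have hker := ((sec_props (h := hP) (p := b ≫ p) hp' hR (hD a)).1 N).2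
    choose k z c' hc' hck using fun c : T => hdense a c.1 N
    have hdiff : ∀ c : T, c' c - c.1 ∈ (I ^ (N + 1)).map (baseSec hP (b ≫ p) (D a)).hom := fun c => by
      rw [← hker, RingHom.mem_ker, map_sub, sub_eq_zero]
      exact hc' c
    have hbase : ∀ t : R, baseSec hP (b ≫ p) (D a) t = σ a (baseSec h p U t) := fun t =>
      congrArg (fun φ : CommRingCat.of R ⟶ Sec 𝔓 hP (D a) => φ t) (baseSec_sharpLE (h := h) b (e a)).symm
    refine ⟨Set.range c' ∪ (baseSec hP (b ≫ p) (D a) '' (Tb : Set R)),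
      (Set.finite_range c').union (Tb.finite_toSet.image _), hg.congr_span ?_, ?_⟩
    · rw [Ideal.span_eq]
      refine le_antisymm ?_ (Ideal.span_le.2 ?_)
      · rw [← hT]
        refine Ideal.span_le.2 fun c hc => ?_
        have hI : (I ^ (N + 1)).map (baseSec hP (b ≫ p) (D a)).hom ≤ Ideal.span (Set.range c' ∪
            (baseSec hP (b ≫ p) (D a) '' (Tb : Set R))) := by
          rw [← hTb, Ideal.map_span]
          exact Ideal.span_mono Set.subset_union_right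
        have hr : c' ⟨c, hc⟩ ∈ Set.range c' := ⟨⟨c, hc⟩, rfl⟩
        have := Ideal.sub_mem _ (Ideal.subset_span (Set.mem_union_left
          (baseSec hP (b ≫ p) (D a) '' (Tb : Set R)) hr)) (hI (hdiff ⟨c, hc⟩))
        rwa [sub_sub_cancel] at this
      · rintro _ (⟨c, rfl⟩ | ⟨t, ht, rfl⟩)
        · have := Ideal.add_mem _ (hN (hdiff c))
            (show c.1 ∈ J'.sect (D a) from hT ▸ Ideal.subset_span c.2)
          rwa [sub_add_cancel] at this
        · exact hN (Ideal.mem_map_of_mem _ (hTb ▸ Ideal.subset_span ht))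
    · rintro _ (⟨c, rfl⟩ | ⟨t, -, rfl⟩)
      · exact ⟨k c, z c, hck c⟩
      · exact ⟨0, baseSec h p U t, by rw [pow_zero, one_mul]; exact hbase t⟩
  choose B hBfin hBgen hBlift using hB
  choose k z hkz using hBlift
  have : ∀ a, Finite (B a) := fun a => (hBfin a).to_subtype
  have : Finite (Σ a : S, B a) := inferInstance
  have := Fintype.ofFinite (Σ a : S, B a)
  have := Fintype.ofFinite S
  let K := Finset.univ.sup fun q : Σ a : S, B a => k q.1 q.2.1 q.2.2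
  let w : (Σ a : S, B a) → Sec 𝔛 h U := fun q =>
    q.1.1 ^ (K - k q.1 q.2.1 q.2.2) * z q.1 q.2.1 q.2.2
  have hw : ∀ q, σ q.1 q.1.1 ^ K * q.2.1 = σ q.1 (w q) := fun q => by
    have hle : k q.1 q.2.1 q.2.2 ≤ K :=
      Finset.le_sup (f := fun q : Σ a : S, B a => k q.1 q.2.1 q.2.2) (Finset.mem_univ q)
    simp only [w, map_mul, map_pow, ← hkz q.1 q.2.1 q.2.2]
    rw [← mul_assoc, ← pow_add, Nat.sub_add_cancel hle]
  have hwmem : ∀ q, σ q.1 (w q) ∈ (mulPow (FBlow.idealMap b hP h J) J' K).sect (D q.1) := fun q => by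
    rw [← hw q]
    have h1 := pow_mul_mem_mulPow ((hgen q.1).1 rfl) (n := 0)
      (show q.2.1 ∈ J'.sect (D q.1) from (hBgen q.1).1 q.2.2) K
    rw [Nat.zero_add] at h1
    exact h1
  have hcohK := isCohOpen_mulPow (p := b ≫ p) hp' hR hft' hA' hJ' K
  have hsat : ∀ (q : Σ a : S, B a) (a' : S), ∃ (f : Sec 𝔓 hP (D a')) (l : ℕ),
      σ a' q.1.1 = f * σ a' a'.1 ∧
        f ^ l * σ a' (w q) ∈ (mulPow (FBlow.idealMap b hP h J) J' K).sect (D a') := by
    intro q a'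
    obtain ⟨f, hf, hfle⟩ := hover q.1 a'
    obtain ⟨M, hM⟩ := exists_openFTOn_of_isCohOpen (p := b ≫ p) hp' hR hcohK (hD a').isCompact
    obtain ⟨ℬ, -, hℬ⟩ := exists_levelData hp' hR hft' hM
    let φ := proj 𝔓 hP (D a') M f
    let V := 𝔓.toX M ⁻¹ᵁ (𝔓.X M).basicOpen φ
    have hV : V ≤ D a' := fun x hx =>
      (toX_preimage_lvU (h := hP) M (D a')).le ((𝔓.X M).basicOpen_le φ hx)
    have hWV : (𝔓.X M).basicOpen φ ≤ 𝔓.lvU hP M V := fun y hy => by
      obtain ⟨x, rfl⟩ := 𝔓.toX_surjective hP M y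
      exact (toX_preimage_lvU (h := hP) M V).ge hy
    have h1 : res 𝔓 hP (hfle M) (σ q.1 (w q)) = res 𝔓 hP hV (σ a' (w q)) := by
      simp only [σ]
      rw [sharpLE_res, sharpLE_res]
    have h2 : res 𝔓 hP hV (σ a' (w q)) ∈ (FBlow.ofLevel 𝔓 hP M ℬ).sect V := by
      rw [hℬ V hV, ← h1]
      exact (mulPow _ J' K).map_mem _ (hwmem q)
    rw [FBlow.mem_ofLevel_iff] at h2
    have h3 := (FBlow.IdealSh.ofData ℬ).map_mem hWV h2
    change (𝔓.X M).presheaf.map (homOfLE hWV).op (proj 𝔓 hP V M (res 𝔓 hP hV (σ a' (w q)))) ∈ _ at h3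
    rw [proj_res_apply] at h3
    erw [FBlow.sch_map_comp_apply] at h3
    obtain ⟨l, hl⟩ := exists_pow_mul_mem_ideal ℬ ⟨_, isAffineOpen_lvU (h := hP) (hD a') M⟩ φ
      (proj 𝔓 hP (D a') M (σ a' (w q))) h3
    refine ⟨f, l, hf, ?_⟩
    rw [← hℬ _ le_rfl, mem_ofLevel_affine (hD a'), map_mul, map_pow]
    exact hl
  choose f l hf hl using hsat
  let L := Finset.univ.sup fun r : (Σ a : S, B a) × S => l r.1 r.2
  refine ⟨K + L, Set.range (fun q => q.1.1 ^ L * w q), Set.finite_range _, ?_, fun V i s hs x hx => ?_⟩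
  · rintro _ ⟨_, ⟨q, rfl⟩, rfl⟩
    refine FBlow.IdealSh.mem_of_local _ fun x hx => ?_
    obtain ⟨a', hxa⟩ := hcov x hx
    refine ⟨D a', e a', hxa, ?_⟩
    change σ a' (q.1.1 ^ L * w q) ∈ _
    have hle : l q a' ≤ L := Finset.le_sup (f := fun r : (Σ a : S, B a) × S => l r.1 r.2)
      (Finset.mem_univ (q, a'))
    have h1 : σ a' (q.1.1 ^ L * w q) =
        σ a' a'.1 ^ L * (f q a' ^ (L - l q a') * (f q a' ^ l q a' * σ a' (w q))) := by
      rw [map_mul, map_pow, hf q a', ← mul_assoc (f q a' ^ _), ← pow_add, Nat.sub_add_cancel hle]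
      ring
    rw [h1]
    exact pow_mul_mem_mulPow ((hgen a').1 rfl) (Ideal.mul_mem_left _ _ (hl q a')) L
  · obtain ⟨a, hxa⟩ := hcov x (i hx)
    have hgenL := genOn_mulPow_singleton (hgen a) (hBgen a) (K + L)
    obtain ⟨W, j, hxW, hW⟩ := hgenL.2 (V ⊓ D a) inf_le_right
      ((mulPow _ J' (K + L)).map_mem inf_le_left hs) x ⟨hx, hxa⟩
    refine ⟨W, j.trans inf_le_left, hxW, ?_⟩
    rw [rs, FBlow.IdealSh.map_comp_apply] at hW
    refine (Ideal.span_mono ?_) hW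
    rintro _ ⟨_, ⟨c, hc, rfl⟩, rfl⟩
    refine ⟨_, ⟨_, ⟨⟨a, c, hc⟩, rfl⟩, rfl⟩, ?_⟩
    have h1 : σ a (a.1 ^ L * w ⟨a, c, hc⟩) = σ a a.1 ^ (K + L) * c := by
      rw [map_mul, map_pow, ← hw ⟨a, c, hc⟩, pow_add]
      ring
    refine Eq.trans ?_ (congrArg (rs (𝔓.Osh hP) (j.trans inf_le_right)) h1)
    exact (FBlow.IdealSh.map_comp_apply (O := 𝔓.Osh hP) (e a) (j.trans inf_le_right) _).symm

end Groth.Agent.FBlow13
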