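import Groth.Agent.FBlow13.Model

/-!
Open sub-systems, and admissible formal blow-ups over an open of the base.
-/

set_option autoImplicit false

universe u

open CategoryTheory CategoryTheory.Limits AlgebraicGeometry TopologicalSpace Opposite

namespace Groth.Agent.FBlow13

open _root_.FSch

variable {𝔛 𝔜 : Sys.{u}} {h : 𝔛.IsFormal} {hY : 𝔜.IsFormal}

theorem isPullback_resLE {X Y : Scheme.{u}} (f : X ⟶ Y) {V : Y.Opens} {W : X.Opens}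
    (e : W = f ⁻¹ᵁ V) (hle : W ≤ f ⁻¹ᵁ V) : IsPullback (f.resLE V W hle) W.ι V.ι f := by
  subst e
  rw [Scheme.Hom.resLE_eq_morphismRestrict]
  exact isPullback_morphismRestrict f V

theorem isAdicHom_restrictOpenι (U : (𝔛.X 0).Opens) : IsAdicHom (𝔛.restrictOpenι h U) := fun n =>
  isPullback_resLE (𝔛.ι n) (𝔛.lvU_succ h n U).symm _

theorem isFormal_restrictOpen (h : 𝔛.IsFormal) (U : (𝔛.X 0).Opens) :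
    (𝔛.restrictOpen h U).IsFormal :=
  An92.FSch.isFormal_of_isAdicHom h (isAdicHom_restrictOpenι U)

theorem isAdicHom_comp {ℨ : Sys.{u}} {f : 𝔛 ⟶ 𝔜} {g : 𝔜 ⟶ ℨ} (hf : IsAdicHom f) (hg : IsAdicHom g) :
    IsAdicHom (f ≫ g) := fun n => (hf n).paste_vert (hg n)

theorem isAdicHom_of_comp {ℨ : Sys.{u}} {f : 𝔛 ⟶ 𝔜} {g : 𝔜 ⟶ ℨ} (hfg : IsAdicHom (f ≫ g))
    (hg : IsAdicHom g) : IsAdicHom f := fun n =>
  IsPullback.of_bot (hfg n) ((f : Hom 𝔛 𝔜).comm n).symm (hg n)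

theorem lvU_eq_top {g : 𝔜 ⟶ 𝔛} {U : (𝔛.X 0).Opens} (hY : 𝔜.IsFormal)
    (hU : (g : Hom 𝔜 𝔛).app 0 ⁻¹ᵁ U = ⊤) (n : ℕ) :
    (g : Hom 𝔜 𝔛).app n ⁻¹ᵁ 𝔛.lvU h n U = ⊤ := by
  rw [Hom.lvU_preimage g hY h n U, hU]
  rfl

theorem range_subset_lvU (g : 𝔜 ⟶ 𝔛) {U : (𝔛.X 0).Opens} (hY : 𝔜.IsFormal)
    (hU : (g : Hom 𝔜 𝔛).app 0 ⁻¹ᵁ U = ⊤) (n : ℕ) :
    Set.range ((g : Hom 𝔜 𝔛).app n) ⊆ Set.range (𝔛.lvU h n U).ι :=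
  Set.range_subset_iff.2 fun y => (𝔛.lvU h n U).range_ι.symm ▸
    (lvU_eq_top (h := h) hY hU n).ge (show y ∈ (⊤ : (𝔜.X n).Opens) from trivial)

/-- The levelwise lift of a morphism landing in an open. -/
noncomputable def liftLv (g : 𝔜 ⟶ 𝔛) {U : (𝔛.X 0).Opens} (hY : 𝔜.IsFormal)
    (hU : (g : Hom 𝔜 𝔛).app 0 ⁻¹ᵁ U = ⊤) (n : ℕ) : 𝔜.X n ⟶ (𝔛.lvU h n U).toScheme :=
  IsOpenImmersion.lift (𝔛.lvU h n U).ι ((g : Hom 𝔜 𝔛).app n) (range_subset_lvU g hY hU n)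

theorem liftLv_ι (g : 𝔜 ⟶ 𝔛) {U : (𝔛.X 0).Opens} (hY : 𝔜.IsFormal)
    (hU : (g : Hom 𝔜 𝔛).app 0 ⁻¹ᵁ U = ⊤) (n : ℕ) :
    liftLv (h := h) g hY hU n ≫ (𝔛.lvU h n U).ι = (g : Hom 𝔜 𝔛).app n :=
  IsOpenImmersion.lift_fac _ _ _

theorem liftLv_comm (g : 𝔜 ⟶ 𝔛) {U : (𝔛.X 0).Opens} (hY : 𝔜.IsFormal)
    (hU : (g : Hom 𝔜 𝔛).app 0 ⁻¹ᵁ U = ⊤) (n : ℕ) :
    liftLv (h := h) g hY hU n ≫
        (𝔛.ι n).resLE (𝔛.lvU h (n + 1) U) (𝔛.lvU h n U) (𝔛.lvU_le h n U) =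
      𝔜.ι n ≫ liftLv (h := h) g hY hU (n + 1) := by
  rw [← cancel_mono (𝔛.lvU h (n + 1) U).ι, Category.assoc, Scheme.Hom.resLE_comp_ι, ← Category.assoc,
    liftLv_ι, Category.assoc, liftLv_ι, (g : Hom 𝔜 𝔛).comm]

/-- A morphism landing in an open factors through the open sub-system. -/
theorem existsUnique_liftOpen (g : 𝔜 ⟶ 𝔛) {U : (𝔛.X 0).Opens} (hY : 𝔜.IsFormal)
    (hU : (g : Hom 𝔜 𝔛).app 0 ⁻¹ᵁ U = ⊤) :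
    ∃! l : 𝔜 ⟶ 𝔛.restrictOpen h U, l ≫ 𝔛.restrictOpenι h U = g := by
  refine ⟨⟨liftLv g hY hU, liftLv_comm g hY hU⟩, Hom.ext (funext (liftLv_ι g hY hU)),
    fun l' hl' => Hom.ext (funext fun n => ?_)⟩
  let k : 𝔜.X n ⟶ (𝔛.lvU h n U).toScheme := (l' : Hom 𝔜 (𝔛.restrictOpen h U)).app n
  have h1 : k ≫ (𝔛.lvU h n U).ι = (g : Hom 𝔜 𝔛).app n :=
    congrArg (fun t : Hom 𝔜 𝔛 => t.app n) hl'
  show k = liftLv g hY hU n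
  rw [← cancel_mono (𝔛.lvU h n U).ι, h1, liftLv_ι]

theorem restrictOpenι_preimage (U : (𝔛.X 0).Opens) :
    (𝔛.restrictOpenι h U : Hom _ _).app 0 ⁻¹ᵁ U = ⊤ := by
  have hU : 𝔛.lvU h 0 U = U := lvU_zero U
  refine top_unique fun y _ => ?_
  exact hU.le y.2

variable (h) in
/-- `b` is an admissible formal blow-up of `J` over the open `U` of the base. -/
def IsBlowUpOver (U : (𝔛.X 0).Opens) (J : FBlow.IdealSh (𝔛.Osh h)) {𝔓 : Sys.{u}} (hP : 𝔓.IsFormal)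
    (b : 𝔓 ⟶ 𝔛) : Prop :=
  IsAdicHom b ∧ (b : Hom 𝔓 𝔛).app 0 ⁻¹ᵁ U = ⊤ ∧ (FBlow.idealMap b hP h J).IsInvertible ∧
    ∀ (𝔜 : Sys.{u}) (hY : 𝔜.IsFormal) (g : 𝔜 ⟶ 𝔛), IsAdicHom g →
      (g : Hom 𝔜 𝔛).app 0 ⁻¹ᵁ U = ⊤ → (FBlow.idealMap g hY h J).IsInvertible →
        ∃! k : 𝔜 ⟶ 𝔓, k ≫ b = g

theorem isBlowUpOver_top_iff {J : FBlow.IdealSh (𝔛.Osh h)} {𝔓 : Sys.{u}} {hP : 𝔓.IsFormal}
    {b : 𝔓 ⟶ 𝔛} : IsBlowUpOver h ⊤ J hP b ↔ FBlow.IsAdmBlowUp b hP h J :=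
  ⟨fun ⟨a, _, c, d⟩ => ⟨a, c, fun 𝔜 hY g hg hi => d 𝔜 hY g hg rfl hi⟩,
    fun ⟨a, c, d⟩ => ⟨a, rfl, c, fun 𝔜 hY g hg _ hi => d 𝔜 hY g hg hi⟩⟩

/-- The canonical morphisms of the open sub-system to the spectrum of the ring of sections. -/
theorem toSpecO_comm (U : (𝔛.X 0).Opens) (n : ℕ) :
    (𝔛.restrictOpen h U).ι n ≫ toSpecO 𝔛 h U (n + 1) = toSpecO 𝔛 h U n :=
  toSpecO_succ 𝔛 h U n

theorem famHom_liftOpen {U : (𝔛.X 0).Opens} (l : 𝔜 ⟶ 𝔛.restrictOpen h U) (g : 𝔜 ⟶ 𝔛)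
    (hl : l ≫ 𝔛.restrictOpenι h U = g) (e : (⊤ : (𝔜.X 0).Opens) ≤ (g : Hom 𝔜 𝔛).app 0 ⁻¹ᵁ U) :
    famHom hY (fun n => (l : Hom 𝔜 (𝔛.restrictOpen h U)).app n ≫ toSpecO 𝔛 h U n)
      (comp_fam_comm' l (toSpecO 𝔛 h U) (toSpecO_comm U)) = sharpLE (hY := hY) (h := h) g e := by
  refine hom_sec_ext_toSpecO fun n => ?_
  have h1 := toSpecO_famHom (h := hY)
    (fun n => (l : Hom 𝔜 (𝔛.restrictOpen h U)).app n ≫ toSpecO 𝔛 h U n)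
    (comp_fam_comm' l (toSpecO 𝔛 h U) (toSpecO_comm U)) ⊤ n
  have h2 : res 𝔜 hY (le_top : (⊤ : (𝔜.X 0).Opens) ≤ ⊤) = 𝟙 _ :=
    CommRingCat.hom_ext (RingHom.ext fun s => FBlow.IdealSh.map_id_apply (O := 𝔜.Osh hY) le_rfl s)
  rw [h2, Category.comp_id] at h1
  rw [h1, toSpecO_sharpLE]
  refine (Category.assoc _ _ _).symm.trans (congrArg (· ≫ toSpecO 𝔛 h U n) ?_)
  refine (cancel_mono (𝔛.lvU h n U).ι).1 ?_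
  rw [Scheme.Hom.resLE_comp_ι]
  refine (Category.assoc _ _ _).trans ?_
  exact congrArg (_ ≫ ·) (congrArg (fun t : Hom 𝔜 𝔛 => t.app n) hl)

/-- Ideals with the same generators over `U` pull back to the same ideal. -/
theorem idealMap_eq_of_genOn {U : (𝔛.X 0).Opens} {J : FBlow.IdealSh (𝔛.Osh h)}
    {𝔞 : Ideal (Sec 𝔛 h U)} (hJ : GenOn J U (𝔞 : Set (Sec 𝔛 h U))) {hU : (𝔛.restrictOpen h U).IsFormal}
    (l : 𝔜 ⟶ 𝔛.restrictOpen h U) (g : 𝔜 ⟶ 𝔛) (hl : l ≫ 𝔛.restrictOpenι h U = g)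
    (e : (⊤ : (𝔜.X 0).Opens) ≤ (g : Hom 𝔜 𝔛).app 0 ⁻¹ᵁ U) :
    FBlow.idealMap g hY h J =
      FBlow.idealMap l hY hU (FBlow.schIdealMap (𝔛.restrictOpen h U) hU (toSpecO 𝔛 h U)
        (toSpecO_comm U) (FBlow.IdealSh.ofData (idealSpec (Sec 𝔛 h U) 𝔞))) := by
  rw [idealMap_schIdealMap (A := Sec 𝔛 h U) l (toSpecO 𝔛 h U) (toSpecO_comm U) 𝔞]
  have h1 := (genOn_idealMap (hY := hY) g hJ).restrict e
  have h2 := genOn_schIdealMap_spec (h := hY) (A := Sec 𝔛 h U)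
    (fun n => (l : Hom 𝔜 (𝔛.restrictOpen h U)).app n ≫ toSpecO 𝔛 h U n)
    (comp_fam_comm' l (toSpecO 𝔛 h U) (toSpecO_comm U)) 𝔞
  rw [famHom_liftOpen (h := h) (hY := hY) l g hl e] at h2
  erw [Set.image_image] at h1
  exact GenOn.eq_of_top h1 h2

/-- An admissible formal blow-up of the open sub-system is one over the open. -/
theorem isBlowUpOver_of_open {U : (𝔛.X 0).Opens} {J : FBlow.IdealSh (𝔛.Osh h)}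
    {𝔞 : Ideal (Sec 𝔛 h U)} (hJ : GenOn J U (𝔞 : Set (Sec 𝔛 h U))) {hU : (𝔛.restrictOpen h U).IsFormal}
    {𝔓 : Sys.{u}} {hP : 𝔓.IsFormal} {b : 𝔓 ⟶ 𝔛.restrictOpen h U}
    (hb : FBlow.IsAdmBlowUp b hP hU (FBlow.schIdealMap (𝔛.restrictOpen h U) hU (toSpecO 𝔛 h U)
        (toSpecO_comm U) (FBlow.IdealSh.ofData (idealSpec (Sec 𝔛 h U) 𝔞)))) :
    IsBlowUpOver h U J hP (b ≫ 𝔛.restrictOpenι h U) := by
  have hpre : ((b ≫ 𝔛.restrictOpenι h U : 𝔓 ⟶ 𝔛) : Hom 𝔓 𝔛).app 0 ⁻¹ᵁ U = ⊤ := by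
    rw [comp_app, Scheme.Hom.comp_preimage]
    erw [restrictOpenι_preimage (h := h) U]
    rfl
  refine ⟨isAdicHom_comp hb.1 (isAdicHom_restrictOpenι U), hpre, ?_, fun 𝔜 hY g hg hgU hinv => ?_⟩
  · rw [idealMap_eq_of_genOn hJ (hU := hU) b _ rfl hpre.ge]
    exact hb.2.1
  · obtain ⟨l, hl, hlu⟩ := existsUnique_liftOpen (h := h) g hY hgU
    rw [idealMap_eq_of_genOn hJ (hU := hU) l g hl hgU.ge] at hinv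
    obtain ⟨k, hk, hku⟩ := hb.2.2 𝔜 hY l
      (isAdicHom_of_comp (hl.symm ▸ hg) (isAdicHom_restrictOpenι U)) hinv
    refine ⟨k, ?_, fun k' hk' => hku k' (hlu (k' ≫ b) ?_)⟩
    · show k ≫ b ≫ 𝔛.restrictOpenι h U = g
      rw [← Category.assoc, hk]
      exact hl
    · show (k' ≫ b) ≫ 𝔛.restrictOpenι h U = g
      rw [Category.assoc]
      exact hk'

end Groth.Agent.FBlow13
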