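import Groth.Prelude.Def_FBlow
import Mathlib.CategoryTheory.Limits.Types.Limits
import Mathlib.CategoryTheory.Limits.ConcreteCategory.Basic
import Mathlib.AlgebraicGeometry.AffineScheme

/-!
Sections of the structure sheaf of a formal system as compatible families, and the canonical
morphisms from the levels to the spectrum of the ring of sections.
-/

set_option autoImplicit false

universe u

open CategoryTheory CategoryTheory.Limits AlgebraicGeometry TopologicalSpace Opposite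

namespace Groth.Agent.FBlow13

open _root_.FSch

variable (𝔛 : Sys.{u}) (h : 𝔛.IsFormal)

/-- Sections of the structure sheaf over `U`. -/
noncomputable abbrev Sec (U : (𝔛.X 0).Opens) : CommRingCat.{u} := (𝔛.Osh h).obj.obj (op U)

/-- Restriction of sections. -/
noncomputable abbrev res {U V : (𝔛.X 0).Opens} (i : V ≤ U) : Sec 𝔛 h U ⟶ Sec 𝔛 h V :=
  (𝔛.Osh h).obj.map (homOfLE i).op

/-- Evaluation of sheaves of rings at an open. -/
noncomputable abbrev evalAt (U : (𝔛.X 0).Opens) :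
    Sheaf (Opens.grothendieckTopology (𝔛.X 0)) CommRingCat.{u} ⥤ CommRingCat.{u} :=
  sheafToPresheaf _ _ ⋙ (evaluation _ _).obj (op U)

/-- Evaluating the limit `O_𝔛` at an open gives a limit. -/
noncomputable def isLimitSec (U : (𝔛.X 0).Opens) :
    IsLimit ((evalAt 𝔛 U).mapCone (limit.cone (𝔛.levelRing h))) :=
  isLimitOfPreserves _ (limit.isLimit _)

/-- The projection of sections to a level. -/
noncomputable abbrev proj (U : (𝔛.X 0).Opens) (n : ℕ) : Sec 𝔛 h U ⟶ Γ(𝔛.X n, 𝔛.lvU h n U) :=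
  (𝔛.OshProj h n).hom.app (op U)

variable {𝔛 h}

theorem proj_res {U V : (𝔛.X 0).Opens} (i : V ≤ U) (n : ℕ) :
    res 𝔛 h i ≫ proj 𝔛 h V n =
      proj 𝔛 h U n ≫ (𝔛.X n).presheaf.map (homOfLE (FBlow.lvU_mono 𝔛 h n i)).op :=
  (𝔛.OshProj h n).hom.naturality (homOfLE i).op

theorem proj_res_apply {U V : (𝔛.X 0).Opens} (i : V ≤ U) (n : ℕ) (s : Sec 𝔛 h U) :
    proj 𝔛 h V n (res 𝔛 h i s) =
      (𝔛.X n).presheaf.map (homOfLE (FBlow.lvU_mono 𝔛 h n i)).op (proj 𝔛 h U n s) :=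
  congrArg (fun φ => φ s) (proj_res i n)

theorem proj_succ (U : (𝔛.X 0).Opens) (n : ℕ) :
    proj 𝔛 h U (n + 1) ≫ (𝔛.ι n).appLE (𝔛.lvU h (n + 1) U) (𝔛.lvU h n U) (𝔛.lvU_le h n U) =
      proj 𝔛 h U n :=
  congrArg (fun φ => φ.hom.app (op U)) (𝔛.OshProj_levelMap h n)

theorem proj_succ_apply (U : (𝔛.X 0).Opens) (n : ℕ) (s : Sec 𝔛 h U) :
    (𝔛.ι n).appLE (𝔛.lvU h (n + 1) U) (𝔛.lvU h n U) (𝔛.lvU_le h n U) (proj 𝔛 h U (n + 1) s) =
      proj 𝔛 h U n s :=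
  congrArg (fun φ => φ s) (proj_succ U n)

/-- Sections agreeing at every level agree. -/
theorem sec_ext {U : (𝔛.X 0).Opens} {s t : Sec 𝔛 h U}
    (e : ∀ n, proj 𝔛 h U n s = proj 𝔛 h U n t) : s = t :=
  Concrete.isLimit_ext _ (isLimitSec 𝔛 h U) s t fun j => e j.unop

/-- Morphisms into the ring of sections are compatible families. -/
theorem hom_ext_sec {U : (𝔛.X 0).Opens} {C : CommRingCat.{u}} {a b : C ⟶ Sec 𝔛 h U}
    (e : ∀ n, a ≫ proj 𝔛 h U n = b ≫ proj 𝔛 h U n) : a = b :=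
  (isLimitSec 𝔛 h U).hom_ext fun j => e j.unop

/-- A compatible family of ring maps lifts to the ring of sections. -/
theorem exists_hom_sec (U : (𝔛.X 0).Opens) {C : CommRingCat.{u}}
    (a : ∀ n, C ⟶ Γ(𝔛.X n, 𝔛.lvU h n U))
    (ha : ∀ n, a (n + 1) ≫ (𝔛.ι n).appLE (𝔛.lvU h (n + 1) U) (𝔛.lvU h n U) (𝔛.lvU_le h n U) = a n) :
    ∃ l : C ⟶ Sec 𝔛 h U, ∀ n, l ≫ proj 𝔛 h U n = a n := by
  let c : Cone (𝔛.levelRing h ⋙ evalAt 𝔛 U) :=
    { pt := C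
      π := NatTrans.ofOpSequence a fun n => by
        simp only [Functor.const_obj_obj, Functor.const_obj_map, Functor.comp_map,
          Sys.levelRing_map_succ]
        exact (ha n).symm }
  exact ⟨(isLimitSec 𝔛 h U).lift c, fun n => (isLimitSec 𝔛 h U).fac c (op n)⟩

/-- A compatible family of sections of the levels is a section. -/
theorem exists_sec (U : (𝔛.X 0).Opens) (a : ∀ n, Γ(𝔛.X n, 𝔛.lvU h n U))
    (ha : ∀ n, (𝔛.ι n).appLE (𝔛.lvU h (n + 1) U) (𝔛.lvU h n U) (𝔛.lvU_le h n U) (a (n + 1)) = a n) :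
    ∃ s : Sec 𝔛 h U, ∀ n, proj 𝔛 h U n s = a n := by
  let φ : ∀ n, CommRingCat.of (MvPolynomial PUnit.{u + 1} (ULift.{u} ℤ)) ⟶ Γ(𝔛.X n, 𝔛.lvU h n U) :=
    fun n => CommRingCat.ofHom
      (MvPolynomial.eval₂Hom ((Int.castRingHom _).comp ULift.ringEquiv.toRingHom) fun _ => a n)
  obtain ⟨l, hl⟩ := exists_hom_sec U φ fun n => by
    apply CommRingCat.hom_ext
    apply MvPolynomial.ringHom_ext
    · intro r
      obtain ⟨r⟩ := r
      simp [φ]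
    · intro i
      simp [φ, ha n]
  refine ⟨l (MvPolynomial.X PUnit.unit), fun n => ?_⟩
  have := congrArg (fun ψ => ψ (MvPolynomial.X PUnit.unit)) (hl n)
  exact this.trans (by simp [φ])

/-- An open of the common space as the open on level `0`. -/
theorem lvU_inf (n : ℕ) (U V : (𝔛.X 0).Opens) : 𝔛.lvU h n (U ⊓ V) = 𝔛.lvU h n U ⊓ 𝔛.lvU h n V :=
  rfl

variable (𝔛 h)

/-- The canonical morphism from the part of level `n` over `U` to the spectrum of the ring of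
sections over `U`. -/
noncomputable def toSpecO (U : (𝔛.X 0).Opens) (n : ℕ) :
    (𝔛.lvU h n U).toScheme ⟶ Spec (Sec 𝔛 h U) :=
  (𝔛.lvU h n U).toSpecΓ ≫ Spec.map (proj 𝔛 h U n)

theorem toSpecO_succ (U : (𝔛.X 0).Opens) (n : ℕ) :
    (𝔛.ι n).resLE (𝔛.lvU h (n + 1) U) (𝔛.lvU h n U) (𝔛.lvU_le h n U) ≫ toSpecO 𝔛 h U (n + 1) =
      toSpecO 𝔛 h U n := by
  rw [toSpecO, toSpecO, ← Category.assoc, ← Scheme.Opens.toSpecΓ_SpecMap_appLE, Category.assoc,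
    ← Spec.map_comp, proj_succ]

theorem toSpecO_res {U V : (𝔛.X 0).Opens} (i : V ≤ U) (n : ℕ) :
    toSpecO 𝔛 h V n ≫ Spec.map (res 𝔛 h i) =
      (𝔛.X n).homOfLE (FBlow.lvU_mono 𝔛 h n i) ≫ toSpecO 𝔛 h U n := by
  rw [toSpecO, toSpecO, ← Scheme.Opens.toSpecΓ_SpecMap_presheaf_map_assoc, Category.assoc,
    ← Spec.map_comp, ← Spec.map_comp, proj_res]

variable {𝔛 h}

/-- A compatible family of morphisms of the levels over `U` to an affine scheme comes from a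
ring map into the ring of sections. -/
theorem exists_hom_of_family {Q : Scheme.{u}} [IsAffine Q] (U : (𝔛.X 0).Opens)
    (k : ∀ n, (𝔛.lvU h n U).toScheme ⟶ Q)
    (hk : ∀ n, (𝔛.ι n).resLE (𝔛.lvU h (n + 1) U) (𝔛.lvU h n U) (𝔛.lvU_le h n U) ≫ k (n + 1) = k n) :
    ∃ ψ : Γ(Q, ⊤) ⟶ Sec 𝔛 h U, ∀ n, k n = toSpecO 𝔛 h U n ≫ Spec.map ψ ≫ Q.isoSpec.inv := by
  have hfact : ∀ (n : ℕ), k n =
      (𝔛.lvU h n U).toSpecΓ ≫ Spec.map ((k n).appTop ≫ (𝔛.lvU h n U).topIso.hom) ≫ Q.isoSpec.inv := by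
    intro n
    rw [← cancel_mono Q.toSpecΓ, Category.assoc, Category.assoc, Scheme.isoSpec_inv_toSpecΓ,
      Category.comp_id, Scheme.toSpecΓ_naturality, Scheme.Opens.toSpecΓ, Category.assoc,
      ← Spec.map_comp, Category.assoc, Iso.hom_inv_id, Category.comp_id]
  obtain ⟨ψ, hψ⟩ := exists_hom_sec U (fun n => (k n).appTop ≫ (𝔛.lvU h n U).topIso.hom) fun n => by
    rw [← hk n, Scheme.Hom.comp_appTop, Category.assoc, Category.assoc]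
    congr 1
    simp only [Scheme.Opens.topIso_hom, Scheme.Hom.resLE_appLE, Scheme.Hom.appTop,
      Scheme.Hom.app_eq_appLE]
    erw [Scheme.Hom.map_appLE, Scheme.Hom.appLE_map]
  refine ⟨ψ, fun n => ?_⟩
  rw [toSpecO, Category.assoc, ← Spec.map_comp_assoc, hψ]
  exact hfact n

/-! ### Morphisms of systems -/

variable {𝔜 : Sys.{u}} {hY : 𝔜.IsFormal}

theorem sharp_proj_app (f : 𝔜 ⟶ 𝔛) (U : (𝔛.X 0).Opens) (n : ℕ) :
    (Hom.sharp f hY h).hom.app (op U) ≫ proj 𝔜 hY ((f : Hom 𝔜 𝔛).app 0 ⁻¹ᵁ U) n =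
      proj 𝔛 h U n ≫ ((f : Hom 𝔜 𝔛).app n).appLE (𝔛.lvU h n U)
        (𝔜.lvU hY n ((f : Hom 𝔜 𝔛).app 0 ⁻¹ᵁ U)) (Hom.lvU_preimage f hY h n U).ge :=
  congrArg (fun φ => φ.hom.app (op U)) (Hom.sharp_proj f hY h n)

/-- The map of sections of a morphism of systems, into any smaller open. -/
noncomputable def sharpLE (f : 𝔜 ⟶ 𝔛) {U : (𝔛.X 0).Opens} {V : (𝔜.X 0).Opens}
    (e : V ≤ (f : Hom 𝔜 𝔛).app 0 ⁻¹ᵁ U) : Sec 𝔛 h U ⟶ Sec 𝔜 hY V :=
  (Hom.sharp f hY h).hom.app (op U) ≫ res 𝔜 hY e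

theorem lvU_le_preimage (f : 𝔜 ⟶ 𝔛) {U : (𝔛.X 0).Opens} {V : (𝔜.X 0).Opens}
    (e : V ≤ (f : Hom 𝔜 𝔛).app 0 ⁻¹ᵁ U) (n : ℕ) :
    𝔜.lvU hY n V ≤ (f : Hom 𝔜 𝔛).app n ⁻¹ᵁ 𝔛.lvU h n U :=
  (FBlow.lvU_mono 𝔜 hY n e).trans (Hom.lvU_preimage f hY h n U).ge

set_option backward.isDefEq.respectTransparency false in
theorem sharpLE_proj (f : 𝔜 ⟶ 𝔛) {U : (𝔛.X 0).Opens} {V : (𝔜.X 0).Opens}
    (e : V ≤ (f : Hom 𝔜 𝔛).app 0 ⁻¹ᵁ U) (n : ℕ) :
    sharpLE (hY := hY) (h := h) f e ≫ proj 𝔜 hY V n =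
      proj 𝔛 h U n ≫ ((f : Hom 𝔜 𝔛).app n).appLE (𝔛.lvU h n U) (𝔜.lvU hY n V)
        (lvU_le_preimage f e n) := by
  rw [sharpLE, Category.assoc, proj_res, ← Category.assoc, sharp_proj_app, Category.assoc,
    Scheme.Hom.appLE_map]

theorem toSpecO_sharpLE (f : 𝔜 ⟶ 𝔛) {U : (𝔛.X 0).Opens} {V : (𝔜.X 0).Opens}
    (e : V ≤ (f : Hom 𝔜 𝔛).app 0 ⁻¹ᵁ U) (n : ℕ) :
    toSpecO 𝔜 hY V n ≫ Spec.map (sharpLE (hY := hY) (h := h) f e) =
      ((f : Hom 𝔜 𝔛).app n).resLE (𝔛.lvU h n U) (𝔜.lvU hY n V) (lvU_le_preimage f e n) ≫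
        toSpecO 𝔛 h U n := by
  rw [toSpecO, toSpecO, ← Category.assoc _ _ (Spec.map (proj 𝔛 h U n)),
    ← Scheme.Opens.toSpecΓ_SpecMap_appLE, Category.assoc, Category.assoc, ← Spec.map_comp,
    ← Spec.map_comp, sharpLE_proj]

/-- The map of sections of a compatible family to a scheme. -/
theorem schSharp_proj_app {Y : Scheme.{u}} (p : ∀ n, 𝔛.X n ⟶ Y)
    (hp : ∀ n, 𝔛.ι n ≫ p (n + 1) = p n) (U : Y.Opens) (n : ℕ) :
    (schSharp 𝔛 h p hp).hom.app (op U) ≫ proj 𝔛 h (p 0 ⁻¹ᵁ U) n =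
      (p n).appLE U (𝔛.lvU h n (p 0 ⁻¹ᵁ U)) (lvU_p 𝔛 h p hp n U).ge :=
  congrArg (fun φ => φ.hom.app (op U)) (schSharp_proj 𝔛 h p hp n)

end Groth.Agent.FBlow13
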