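import Groth.Agent.FBlow13.Admissible
import Groth.Agent.SubMod72.Main

/-!
Finite type quasi-coherent ideals with prescribed sections.
-/

set_option autoImplicit false
set_option backward.isDefEq.respectTransparency.types false

noncomputable section

universe u

open CategoryTheory AlgebraicGeometry TopologicalSpace Opposite
open Groth.Agent.QC70 Groth.Agent.SubMod72

namespace Groth.Agent.FBlow13

variable {X : Scheme.{u}}

/-- A section of the structure module as a function. -/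
abbrev ofUnit {U : X.Opens} (a : Γ(unitMod X, U)) : Γ(X, U) := a

/-- A finitely generated subsheaf of a module mapping to the structure module gives finite type
ideal data. -/
theorem exists_idealData {F : X.Modules} [F.IsQuasicoherent] (j : F ⟶ unitMod X) (Q : Sub F)
    (hQ : FG ⊤ Q) : ∃ ℬ : X.IdealSheafData, FSch.IdealFT ℬ ∧ ∀ W : X.affineOpens,
      ℬ.ideal W = Ideal.span ((fun x => ofUnit (j.app W.1 x)) '' (Q.carrier W.1 : Set Γ(F, W.1))) := by
  let η : ∀ W : X.Opens, Γ(F, W) → Γ(X, W) := fun W x => ofUnit (j.app W x)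
  have hspan : ∀ {W : X.Opens} (T : Set Γ(F, W)) (x : Γ(F, W)),
      x ∈ Submodule.span Γ(X, W) T → η W x ∈ Ideal.span (η W '' T) := by
    intro W T x hx
    induction hx using Submodule.span_induction with
    | mem y hy => exact Ideal.subset_span ⟨y, hy, rfl⟩
    | zero =>
      simp only [η, map_zero]
      exact Submodule.zero_mem _
    | add y z _ _ hy hz =>
      simp only [η, map_add]
      exact Submodule.add_mem _ hy hz
    | smul a y _ hy =>
      simp only [η, Scheme.Modules.Hom.app_smul]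
      exact Ideal.mul_mem_left _ a hy
  have hres : ∀ {V W : X.Opens} (h : V ≤ W) (x : Γ(F, W)),
      η V (QC70.res F h x) = X.presheaf.map (homOfLE h).op (η W x) := fun h x => app_res j h x
  have hgen : ∀ W : X.affineOpens, ∃ S : Set Γ(F, W.1), S.Finite ∧
      AgreeOn W.1 Q (SubMod72.locSpan S) :=
    fun W => exists_finite_generators W.2 le_rfl W.2.isCompact (hQ.mono le_top)
  choose S hSfin hS using hgen
  have hW : ∀ W : X.affineOpens,
      Ideal.span (η W.1 '' (Q.carrier W.1 : Set Γ(F, W.1))) = Ideal.span (η W.1 '' S W) := by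
    intro W
    refine le_antisymm (Ideal.span_le.2 ?_) (Ideal.span_mono ?_)
    · rintro _ ⟨x, hx, rfl⟩
      have h1 := mem_span_of_mem W.2 le_rfl (hS W) hx
      rw [show QC70.res F (le_refl W.1) '' S W = S W by simp [QC70.res]] at h1
      exact hspan _ _ h1
    · rintro _ ⟨x, hx, rfl⟩
      refine ⟨x, ?_, rfl⟩
      have h1 : QC70.res F (le_refl W.1) x ∈ (SubMod72.locSpan (S W)).carrier W.1 := self_mem_locSpan le_rfl hx
      rw [res_self] at h1
      exact (hS W W.1 le_rfl).ge h1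
  refine ⟨⟨fun W => Ideal.span (η W.1 '' (Q.carrier W.1 : Set Γ(F, W.1))), fun W f => ?_, _, rfl⟩,
    fun W => ?_, fun W => rfl⟩
  · refine le_antisymm ?_ (Ideal.span_le.2 ?_)
    · rw [Ideal.map_span, Ideal.span_le]
      rintro _ ⟨_, ⟨x, hx, rfl⟩, rfl⟩
      refine Ideal.subset_span ⟨QC70.res F (X.basicOpen_le f) x, Q.res_mem _ hx, ?_⟩
      exact hres (X.basicOpen_le f) x
    · rintro _ ⟨x, hx, rfl⟩
      have h1 := mem_span_of_mem (W.2.basicOpen f) (X.basicOpen_le f) (hS W) hx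
      have h2 : η _ x ∈ Ideal.span (η _ '' (QC70.res F (X.basicOpen_le f) '' S W)) := hspan _ _ h1
      refine Ideal.span_le.2 ?_ h2
      rintro _ ⟨_, ⟨s, hs, rfl⟩, rfl⟩
      rw [hres]
      refine Ideal.mem_map_of_mem _ ?_
      rw [hW W]
      exact Ideal.subset_span ⟨s, hs, rfl⟩
  · show (Ideal.span (η W.1 '' (Q.carrier W.1 : Set Γ(F, W.1)))).FG
    rw [hW W]
    exact Submodule.fg_span ((hSfin W).image _)

/-- For the structure module, the ideal sheaf of the data is the subsheaf. -/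
theorem exists_idealData_unit (Q : Sub (unitMod X)) (hQ : FG ⊤ Q) :
    ∃ ℬ : X.IdealSheafData, FSch.IdealFT ℬ ∧ ∀ (T : X.Opens) (s : Γ(X, T)),
      s ∈ (FBlow.IdealSh.ofData ℬ).sect T ↔ toUnit s ∈ Q.carrier T := by
  obtain ⟨ℬ, hft, hℬ⟩ := exists_idealData (𝟙 (unitMod X)) Q hQ
  have key : ∀ (W : X.affineOpens) (s : Γ(X, W.1)), s ∈ ℬ.ideal W ↔ toUnit s ∈ Q.carrier W.1 := by
    intro W s
    rw [hℬ W]
    refine ⟨fun hs => ?_, fun hs => Ideal.subset_span ⟨toUnit s, hs, rfl⟩⟩
    induction hs using Submodule.span_induction with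
    | mem y hy =>
      obtain ⟨x, hx, rfl⟩ := hy
      exact hx
    | zero => exact zero_mem _
    | add y z _ _ hy hz => exact add_mem hy hz
    | smul a y _ hy => exact Submodule.smul_mem _ a hy
  refine ⟨ℬ, hft, fun T s => ⟨fun hs => Q.local_mem _ fun x hx => ?_, fun hs x hx => ?_⟩⟩
  · obtain ⟨W, j, hxW, hW⟩ := hs x hx
    exact ⟨W.1, j, hxW, (key W _).1 hW⟩
  · obtain ⟨W, hxW, hW⟩ := MP99.exists_affine_le x (W := T) hx
    exact ⟨W, hW, hxW, (key W _).2 (Q.res_mem hW hs)⟩

/-- The subsheaf of the structure module given by ideal data. -/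
def subData (ℐ : X.IdealSheafData) : Sub (unitMod X) where
  carrier W :=
    { carrier := {x | ofUnit x ∈ (FBlow.IdealSh.ofData ℐ).sect W}
      add_mem' := fun hx hy => by
        simp only [Set.mem_ofPred_eq] at hx hy ⊢
        exact Ideal.add_mem _ hx hy
      zero_mem' := by
        simp only [Set.mem_ofPred_eq]
        exact zero_mem ((FBlow.IdealSh.ofData ℐ).sect W)
      smul_mem' := fun a x hx => by
        simp only [Set.mem_ofPred_eq] at hx ⊢
        exact Ideal.mul_mem_left _ a hx }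
  res_mem h _ hx := (FBlow.IdealSh.ofData ℐ).map_mem h hx
  local_mem x hx := (FBlow.IdealSh.ofData ℐ).mem_of_local fun p hp =>
    (hx p hp).elim fun V hV => hV.elim fun h hh => ⟨V, h, hh.1, hh.2⟩

theorem mem_subData {ℐ : X.IdealSheafData} {W : X.Opens} (x : Γ(unitMod X, W)) :
    x ∈ (subData ℐ).carrier W ↔ ofUnit x ∈ (FBlow.IdealSh.ofData ℐ).sect W := by
  simp [subData]

theorem isLocAt_toMod_subData (ℐ : X.IdealSheafData) {D : X.Opens} (hD : IsAffineOpen D) :
    IsLocAt (toMod (subData ℐ)) D where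
  exists_of f s := by
    have hs : ofUnit ((toModι (subData ℐ)).app _ s) ∈ (FBlow.IdealSh.ofData ℐ).sect (X.basicOpen f) :=
      (mem_subData _).1 ((mem_iff_exists (subData ℐ) _).mpr ⟨s, rfl⟩)
    have h1 := mem_ideal_of_memData ℐ (X.affineBasicOpen (U := ⟨D, hD⟩) f) hs
    rw [← ℐ.map_ideal_basicOpen ⟨D, hD⟩ f] at h1
    let := (X.presheaf.map (homOfLE (X.basicOpen_le f)).op).hom.toAlgebra
    have := hD.isLocalization_of_eq_basicOpen f (homOfLE (X.basicOpen_le f)) rfl
    obtain ⟨⟨⟨a, ha⟩, ⟨_, n, rfl⟩⟩, e⟩ :=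
      (IsLocalization.mem_map_algebraMap_iff (Submonoid.powers f) Γ(X, X.basicOpen f)).mp h1
    obtain ⟨t, ht⟩ := (mem_iff_exists (subData ℐ) (toUnit a)).mp
      ((mem_subData _).2 ((genOn_ofData ℐ ⟨D, hD⟩).1 ha))
    refine ⟨n, t, app_injective_of_mono (toModι (subData ℐ)) _ ?_⟩
    rw [coe_res, ht, Scheme.Modules.Hom.app_smul]
    refine e.symm.trans ?_
    show ofUnit ((toModι (subData ℐ)).app _ s) *
      (X.presheaf.map (homOfLE (X.basicOpen_le f)).op) (f ^ n) =
      resO X (X.basicOpen_le f) f ^ n * ofUnit ((toModι (subData ℐ)).app _ s)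
    rw [mul_comm, map_pow]
  eq_zero_of f t ht := by
    obtain ⟨n, hn⟩ := (isLocAt_unit hD).eq_zero_of f ((toModι (subData ℐ)).app D t) (by
      rw [← coe_res, ht, map_zero])
    refine ⟨n, app_injective_of_mono (toModι (subData ℐ)) _ ?_⟩
    rw [Scheme.Modules.Hom.app_smul, hn, map_zero]

theorem isQuasicoherent_toMod_subData (ℐ : X.IdealSheafData) :
    (toMod (subData ℐ)).IsQuasicoherent :=
  isQuasicoherent_of_forall_isLocAt _ fun _ hD => isLocAt_toMod_subData ℐ hD

/-- On a quasi-compact quasi-separated scheme finitely many sections of a quasi-coherent ideal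
over affine opens lie in a finite type subideal. -/
theorem exists_ft_le [CompactSpace X] [QuasiSeparatedSpace X] (ℐ : X.IdealSheafData) {κ : Type*}
    [Finite κ] (W : κ → X.affineOpens) (s : ∀ k, Γ(X, (W k).1)) (hs : ∀ k, s k ∈ ℐ.ideal (W k)) :
    ∃ ℬ : X.IdealSheafData, FSch.IdealFT ℬ ∧ ℬ ≤ ℐ ∧ ∀ k, s k ∈ ℬ.ideal (W k) := by
  have := isQuasicoherent_toMod_subData ℐ
  have h1 : ∀ k, ∃ x : Γ(toMod (subData ℐ), (W k).1),
      (toModι (subData ℐ)).app _ x = toUnit (s k) := fun k =>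
    (mem_iff_exists (subData ℐ) _).mp ((mem_subData _).2 ((genOn_ofData ℐ (W k)).1 (hs k)))
  choose x hx using h1
  have h2 : ∀ k, ∃ ℬ : X.IdealSheafData, FSch.IdealFT ℬ ∧ ℬ ≤ ℐ ∧ s k ∈ ℬ.ideal (W k) := by
    intro k
    obtain ⟨Q, hQ, hQP⟩ := exists_extension_qcqs (W k).2.isCompact
      (fg_locSpan (F := toMod (subData ℐ)) (Set.finite_singleton (x k)))
    obtain ⟨ℬ, hft, hℬ⟩ := exists_idealData (toModι (subData ℐ)) Q hQ
    refine ⟨ℬ, hft, fun V => ?_, ?_⟩
    · rw [hℬ V, Ideal.span_le]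
      rintro _ ⟨y, -, rfl⟩
      exact mem_ideal_of_memData ℐ V ((mem_subData _).1 ((mem_iff_exists (subData ℐ) _).mpr ⟨y, rfl⟩))
    · rw [hℬ (W k)]
      refine Ideal.subset_span ⟨x k, ?_, hx k⟩
      rw [SetLike.mem_coe, hQP (W k).1 le_rfl]
      have h := self_mem_locSpan (F := toMod (subData ℐ)) (S := {x k}) (le_refl (W k).1) rfl
      rwa [res_self] at h
  choose ℬ hft hle hmem using h2
  have := Fintype.ofFinite κ
  have hid : ∀ V, (Finset.univ.sup ℬ).ideal V = Finset.univ.sup fun k => (ℬ k).ideal V := fun V =>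
    Finset.apply_sup_eq_sup_comp (fun 𝒜 : X.IdealSheafData => 𝒜.ideal V) (fun _ _ => rfl) rfl
  refine ⟨Finset.univ.sup ℬ, fun V => ?_, Finset.sup_le fun k _ => hle k, fun k => ?_⟩
  · rw [hid]
    exact Submodule.fg_finset_sup _ _ fun k _ => hft k V
  · rw [hid]
    exact (Finset.le_sup (f := fun l => (ℬ l).ideal (W k)) (Finset.mem_univ k) : (ℬ k).ideal (W k) ≤ _) (hmem k)

end Groth.Agent.FBlow13
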